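import Mathlib
import Cfsg.Agent.H46.UDefs

/-!
# A homocyclic invariant `2`-subgroup has a larger invariant `2`-overgroup
-/

set_option autoImplicit false
open Subgroup

namespace Cfsg.Agent.H14.S94Pa2
open Cfsg.Agent.H46.S94

universe u

local notation "N[" A "]" => Subgroup.normalizer (SetLike.coe A)

/-! ### the model `A₅` -/

theorem a5a : ∀ x : Equiv.Perm (Fin 5), Equiv.Perm.sign x = 1 → x * x * (x * x) = 1 →
    x * x = 1 := by decide +kernel

set_option synthInstance.maxSize 2000 in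
theorem a5b : ∀ z : Equiv.Perm (Fin 5), Equiv.Perm.sign z = 1 → z ≠ 1 → z * z = 1 →
    ∀ w : Equiv.Perm (Fin 5), Equiv.Perm.sign w = 1 → w ≠ 1 → w ≠ z → w * z = z * w →
    ∀ c : Equiv.Perm (Fin 5), Equiv.Perm.sign c = 1 → c * z = z * c →
      c = 1 ∨ c = z ∨ c = w ∨ c = z * w := by decide +kernel

variable {X : Type u} [Group X]

theorem cj {H : Subgroup X} {g x : X} (hg : g ∈ N[H]) (hx : x ∈ H) : g * x * g⁻¹ ∈ H :=
  (mem_normalizer_iff.1 hg x).1 hx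

theorem cj' {H : Subgroup X} {g x : X} (hg : g ∈ N[H]) (hx : x ∈ H) : g⁻¹ * x * g ∈ H := by
  simpa using cj (inv_mem hg) hx

theorem memN [Finite X] {H : Subgroup X} {g : X} (h : ∀ x ∈ H, g * x * g⁻¹ ∈ H) : g ∈ N[H] :=
  mem_normalizer_fintype h

section A5
variable {Λ : Subgroup X}

theorem emb (h : Nonempty (Λ ≃* alternatingGroup (Fin 5))) :
    ∃ f : Λ →* Equiv.Perm (Fin 5), Function.Injective f ∧ ∀ x, Equiv.Perm.sign (f x) = 1 := by
  obtain ⟨e⟩ := h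
  refine ⟨(alternatingGroup (Fin 5)).subtype.comp e.toMonoidHom, ?_, fun x => ?_⟩
  · exact (subtype_injective _).comp e.injective
  · exact Equiv.Perm.mem_alternatingGroup.1 (e x).2

theorem lam_sq (h : Nonempty (Λ ≃* alternatingGroup (Fin 5))) {x : X} (hx : x ∈ Λ)
    (e : x ^ 4 = 1) : x * x = 1 := by
  obtain ⟨f, hf, hs⟩ := emb h
  have e1 : (⟨x, hx⟩ : Λ) * ⟨x, hx⟩ * (⟨x, hx⟩ * ⟨x, hx⟩) = 1 := by
    apply Subtype.ext
    simp only [coe_mul, coe_one]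
    rw [← e]; simp [pow_succ, mul_assoc]
  have := a5a (f ⟨x, hx⟩) (hs _) (by rw [← map_mul, ← map_mul, e1, map_one])
  rw [← map_mul, ← map_one f] at this
  exact congrArg Subtype.val (hf this)

theorem lam_four (h : Nonempty (Λ ≃* alternatingGroup (Fin 5))) {z w c : X} (hz : z ∈ Λ)
    (hw : w ∈ Λ) (hc : c ∈ Λ) (z1 : z ≠ 1) (zz : z * z = 1) (w1 : w ≠ 1) (wz : w ≠ z)
    (cw : w * z = z * w) (cc : c * z = z * c) : c = 1 ∨ c = z ∨ c = w ∨ c = z * w := by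
  obtain ⟨f, hf, hs⟩ := emb h
  have k : ∀ a b : Λ, f a = f b ↔ (a : X) = b := fun a b =>
    ⟨fun e => congrArg Subtype.val (hf e), fun e => congrArg f (Subtype.ext e)⟩
  have := a5b (f ⟨z, hz⟩) (hs _) (by rw [← map_one f, Ne, k]; exact z1)
    (by rw [← map_mul, ← map_one f, k]; exact zz) (f ⟨w, hw⟩) (hs _)
    (by rw [← map_one f, Ne, k]; exact w1) (by rw [Ne, k]; exact wz)
    (by rw [← map_mul, ← map_mul, k]; exact cw) (f ⟨c, hc⟩) (hs _)
    (by rw [← map_mul, ← map_mul, k]; exact cc)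
  rw [← map_one f, ← map_mul, k, k, k, k] at this
  exact this

end A5

theorem tw_one {o : X} (ho : Odd (orderOf o)) {k : ℕ} (e : o ^ 2 ^ k = 1) : o = 1 := by
  have h1 : orderOf o ∣ 2 ^ k := orderOf_dvd_of_pow_eq_one e
  have h2 : (orderOf o).Coprime (2 ^ k) := (Nat.coprime_two_right.2 ho).pow_right k
  exact orderOf_eq_one_iff.1 (Nat.Coprime.eq_one_of_dvd h2 h1)

section Basic
variable [Finite X] {t σ : X} {Λ O Z : Subgroup X} (h : A5C t σ Λ O Z)
include h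

theorem zsq {z : X} (hz : z ∈ Z) : z * z = 1 := by
  refine lam_sq h.iso (h.ZL hz) ?_
  have := pow_card_eq_one' (G := Z) (x := ⟨z, hz⟩)
  rw [h.cZ] at this
  exact congrArg Subtype.val this

theorem zinv {z : X} (hz : z ∈ Z) : z⁻¹ = z := inv_eq_of_mul_eq_one_right (zsq h hz)

theorem zcomm {z w : X} (hz : z ∈ Z) (hw : w ∈ Z) : z * w = w * z := by
  have := zinv h (mul_mem hz hw)
  rw [mul_inv_rev, zinv h hz, zinv h hw] at this
  exact this.symm

theorem third (z : X) : ∃ w ∈ Z, w ≠ 1 ∧ w ≠ z := by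
  classical
  by_contra hn
  push Not at hn
  have h1 : (Z : Set X) ⊆ {1, z} := fun w hw => by
    by_cases e : w = 1
    · exact Or.inl e
    · exact Or.inr (hn w hw e)
  have h2 := Set.ncard_le_ncard h1
  have h3 : (Z : Set X).ncard = 4 := by rw [← h.cZ]; rfl
  have h4 : ({1, z} : Set X).ncard ≤ 2 := by
    refine (Set.ncard_insert_le _ _).trans ?_
    simp
  omega

theorem four {z w c : X} (hz : z ∈ Z) (hw : w ∈ Z) (z1 : z ≠ 1) (w1 : w ≠ 1) (wz : w ≠ z)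
    (hc : c ∈ Λ) (cc : c * z = z * c) : c = 1 ∨ c = z ∨ c = w ∨ c = z * w :=
  lam_four h.iso (h.ZL hz) (h.ZL hw) hc z1 (zsq h hz) w1 wz (zcomm h hw hz) cc

theorem cenZ {z c : X} (hz : z ∈ Z) (z1 : z ≠ 1) (hc : c ∈ Λ) (cc : c * z = z * c) : c ∈ Z := by
  obtain ⟨w, hw, w1, wz⟩ := third h z
  rcases four h hz hw z1 w1 wz hc cc with e | e | e | e <;> rw [e]
  exacts [one_mem _, hz, hw, mul_mem hz hw]

theorem s3 : σ ^ 3 = 1 := by rw [← h.so]; exact pow_orderOf_eq_one σ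

theorem fpfZ {z : X} (hz : z ∈ Z) (e : σ * z = z * σ) : z = 1 := by
  by_contra z1
  have h1 := zsq h (cenZ h hz z1 h.sL e)
  have h2 : orderOf σ ∣ 2 := orderOf_dvd_of_pow_eq_one (by rw [pow_two, h1])
  rw [h.so] at h2
  omega

theorem tZ {z : X} (hz : z ∈ Z) : z * t = t * z := h.Lt z (h.ZL hz)

theorem oL {o l : X} (ho : o ∈ O) (hl : l ∈ Λ) : l * o = o * l := h.OC ho l hl

theorem cen_struct {c : X} (ct : c * t = t * c) (cZ : ∀ z ∈ Z, c * z = z * c) :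
    ∃ z ∈ Z, ∃ o ∈ O, c = z * o ∨ c = z * t * o := by
  obtain ⟨l, hl, o, ho, e⟩ := h.cen c ct
  obtain ⟨w, hw, w1, -⟩ := third h 1
  refine ⟨l, cenZ h hw w1 hl ?_, o, ho, e⟩
  have h1 := cZ w hw
  have h2 : Commute w o := oL h ho (h.ZL hw)
  have h3 : Commute w t := tZ h hw
  rcases e with e | e
  · have h4 : Commute w (l * o) := by rw [← e]; exact h1.symm
    have := h4.mul_right h2.inv_right
    rw [mul_inv_cancel_right] at this
    exact this.symm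
  · have h4 : Commute w (l * t * o) := by rw [← e]; exact h1.symm
    have := (h4.mul_right h2.inv_right).mul_right h3.inv_right
    rw [mul_inv_cancel_right, mul_inv_cancel_right] at this
    exact this.symm

theorem cen_sq' {z o c : X} (hz : z ∈ Z) (ho : o ∈ O) (e : c = z * o ∨ c = z * t * o) :
    c * c = o * o := by
  have h2 : Commute z o := oL h ho (h.ZL hz)
  have h3 : Commute z t := tZ h hz
  have h4 : Commute o t := h.Ot o ho
  rcases e with e | e <;> rw [e]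
  · rw [← pow_two, h2.mul_pow, pow_two, zsq h hz, one_mul, pow_two]
  · rw [← pow_two, (h2.mul_left h4.symm).mul_pow, h3.mul_pow, pow_two, pow_two, pow_two,
      zsq h hz, h.tt, one_mul, one_mul]

theorem cen_sq {c : X} (ct : c * t = t * c) (cZ : ∀ z ∈ Z, c * z = z * c) :
    σ * (c * c) = c * c * σ := by
  obtain ⟨z, hz, o, ho, e⟩ := cen_struct h ct cZ
  rw [cen_sq' h hz ho e]
  exact oL h (mul_mem ho ho) h.sL

theorem cen_two {c : X} (ct : c * t = t * c) (cZ : ∀ z ∈ Z, c * z = z * c) (hc : Tw c) :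
    c ∈ Z ∨ c * t ∈ Z := by
  obtain ⟨z, hz, o, ho, e⟩ := cen_struct h ct cZ
  obtain ⟨k, hk⟩ := hc
  have h1 : o ^ 2 ^ (k + 1) = 1 := by
    rw [pow_succ', pow_mul, pow_two, ← cen_sq' h hz ho e, ← pow_two, ← pow_mul, mul_comm,
      pow_mul, hk, one_pow]
  have h2 : o = 1 := tw_one (h.odd.of_dvd_nat (orderOf_dvd_natCard O ho)) h1
  subst h2
  rcases e with e | e
  · left; rw [e, mul_one]; exact hz
  · right; rw [e, mul_one, mul_assoc, h.tt, mul_one]; exact hz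

/-- a fixed point free element of order three permutes the involutions of `Z` cyclically -/
theorem tri {a z : X} (ha : a ∈ N[Z]) (a3 : a ^ 3 = 1) (fp : ∀ v ∈ Z, a * v = v * a → v = 1)
    (hz : z ∈ Z) : a * (a * z * a⁻¹) * a⁻¹ = z * (a * z * a⁻¹) := by
  have h1 := cj ha hz
  have h2 := cj ha h1
  have h3 : a * (a * (a * z * a⁻¹) * a⁻¹) * a⁻¹ = z := by
    have : a * (a * (a * z * a⁻¹) * a⁻¹) * a⁻¹ = a ^ 3 * z * (a ^ 3)⁻¹ := by
      simp only [pow_succ, pow_zero, one_mul, mul_inv_rev, mul_assoc]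
    rw [this, a3]; group
  generalize hz1 : a * z * a⁻¹ = z1 at h1 h2 h3 ⊢
  generalize hz2 : a * z1 * a⁻¹ = z2 at h2 h3 ⊢
  have h4 : z * z1 * z2 = 1 := by
    refine fp _ (mul_mem (mul_mem hz h1) h2) ?_
    have : a * (z * z1 * z2) * a⁻¹ = z * z1 * z2 := by
      calc a * (z * z1 * z2) * a⁻¹ = (a * z * a⁻¹) * (a * z1 * a⁻¹) * (a * z2 * a⁻¹) := by group
        _ = z1 * z2 * z := by rw [hz1, hz2, h3]
        _ = z * z1 * z2 := by rw [zcomm h (mul_mem h1 h2) hz, mul_assoc]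
    exact mul_inv_eq_iff_eq_mul.1 this
  have := eq_inv_of_mul_eq_one_right h4
  rw [this, zinv h (mul_mem hz h1)]

theorem agree {a b z : X} (ha : a ∈ N[Z]) (a3 : a ^ 3 = 1) (fa : ∀ v ∈ Z, a * v = v * a → v = 1)
    (hb : b ∈ N[Z]) (b3 : b ^ 3 = 1) (fb : ∀ v ∈ Z, b * v = v * b → v = 1)
    (hz : z ∈ Z) (z1 : z ≠ 1) (e : a * z * a⁻¹ = b * z * b⁻¹) :
    ∀ v ∈ Z, a * b⁻¹ * v = v * (a * b⁻¹) := by
  have h1 := cj ha hz
  have w1 : a * z * a⁻¹ ≠ 1 := fun e' => z1 (by simpa using e')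
  have wz : a * z * a⁻¹ ≠ z := fun e' => z1 (fa z hz (mul_inv_eq_iff_eq_mul.1 e'))
  have e2 : a * (a * z * a⁻¹) * a⁻¹ = b * (a * z * a⁻¹) * b⁻¹ := by
    rw [tri h ha a3 fa hz, e, tri h hb b3 fb hz]
  have k : ∀ u ∈ Z, a * u * a⁻¹ = b * u * b⁻¹ := fun u hu => by
    rcases four h hz h1 z1 w1 wz (h.ZL hu) (zcomm h hu hz) with r | r | r | r <;> rw [r]
    · simp
    · exact e
    · exact e2
    · rw [← conj_mul (a := z) (b := a) (c := a * z * a⁻¹),
        ← conj_mul (a := z) (b := b) (c := a * z * a⁻¹), e2, ← e]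
  intro v hv
  have := k _ (cj' hb hv)
  calc a * b⁻¹ * v = a * (b⁻¹ * v * b) * a⁻¹ * (a * b⁻¹) := by group
    _ = v * (a * b⁻¹) := by rw [this]; group

/-- another such element agrees on `Z` with `σ` or its square -/
theorem agree' {ρ : X} (ha : ρ ∈ N[Z]) (a3 : ρ ^ 3 = 1) (fa : ∀ v ∈ Z, ρ * v = v * ρ → v = 1) :
    ∃ i : ℕ, ∀ v ∈ Z, ρ * (σ ^ i)⁻¹ * v = v * (ρ * (σ ^ i)⁻¹) := by
  obtain ⟨z, hz, z1, -⟩ := third h 1
  have fs : ∀ v ∈ Z, σ * v = v * σ → v = 1 := fun v hv e => fpfZ h hv e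
  have h1 := cj h.sZ hz
  have w1 : σ * z * σ⁻¹ ≠ 1 := fun e' => z1 (by simpa using e')
  have wz : σ * z * σ⁻¹ ≠ z := fun e' => z1 (fs z hz (mul_inv_eq_iff_eq_mul.1 e'))
  have h2 := cj ha hz
  rcases four h hz h1 z1 w1 wz (h.ZL h2) (zcomm h h2 hz) with r | r | r | r
  · exact absurd (by simpa using r) z1
  · exact absurd (fa z hz (mul_inv_eq_iff_eq_mul.1 r)) z1
  · exact ⟨1, by simpa using agree h ha a3 fa h.sZ (s3 h) fs hz z1 r⟩
  · refine ⟨2, agree h ha a3 fa (pow_mem h.sZ 2) ?_ (fun v hv e => fs v hv ?_) hz z1 ?_⟩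
    · rw [← pow_mul, mul_comm, pow_mul, s3 h, one_pow]
    · have e1 : Commute (σ ^ 2) v := e
      have e2 := e1.pow_left 2
      rw [← pow_mul, show 2 * 2 = 3 + 1 from rfl, pow_succ, s3 h, one_mul] at e2
      exact e2
    · rw [r, ← tri h h.sZ (s3 h) fs hz]
      simp only [pow_succ, pow_zero, one_mul, mul_inv_rev, mul_assoc]

end Basic

/-! ### the homocyclic group -/

structure TF (T Z : Subgroup X) (m : ℕ) : Prop where
  ab : ∀ x ∈ T, ∀ y ∈ T, x * y = y * x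
  ex : ∀ x ∈ T, x ^ 2 ^ (m + 2) = 1
  rt : ∀ x ∈ T, x ^ 2 ^ (m + 1) = 1 → ∃ w ∈ T, x = w * w
  om : ∀ x ∈ T, x * x = 1 → x ∈ Z
  big : ∃ x ∈ T, x ^ 2 ^ (m + 1) ≠ 1
  ZT : Z ≤ T

theorem zm_ex (m : ℕ) (a : ZMod (2 ^ (m + 2))) : 2 ^ (m + 2) • a = 0 := by
  rw [nsmul_eq_mul, ZMod.natCast_self, zero_mul]

theorem zm_rt (m : ℕ) (a : ZMod (2 ^ (m + 2))) (e : 2 ^ (m + 1) • a = 0) : ∃ b, a = b + b := by
  obtain ⟨k, rfl⟩ := ZMod.natCast_zmod_surjective a
  rw [nsmul_eq_mul, ← Nat.cast_mul, ZMod.natCast_eq_zero_iff, pow_succ _ (m + 1)] at e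
  obtain ⟨j, rfl⟩ := Nat.dvd_of_mul_dvd_mul_left (by positivity) e
  exact ⟨j, by push_cast; ring⟩

theorem zm_big (m : ℕ) : 2 ^ (m + 1) • (1 : ZMod (2 ^ (m + 2))) ≠ 0 := by
  rw [nsmul_eq_mul, mul_one, Ne, ZMod.natCast_eq_zero_iff]
  intro e
  have := (Nat.pow_dvd_pow_iff_le_right (by norm_num : 1 < 2)).1 e
  omega

theorem zm_om (m : ℕ) {a b : ZMod (2 ^ (m + 2))} (ha : a + a = 0) (hb : b + b = 0)
    (e : a = 0 ↔ b = 0) : a = b := by
  by_cases a0 : a = 0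
  · rw [a0, e.1 a0]
  · have b0 : b ≠ 0 := fun b0 => a0 (e.2 b0)
    have h1 := ((ZMod.neg_eq_self_iff a).1 (neg_eq_of_add_eq_zero_right ha)).resolve_left a0
    have h2 := ((ZMod.neg_eq_self_iff b).1 (neg_eq_of_add_eq_zero_right hb)).resolve_left b0
    exact ZMod.val_injective _ (by omega)

theorem tf_of [Finite X] {T Z : Subgroup X} {m : ℕ} (hT : HomC T (m + 2)) (ZT : Z ≤ T)
    (cZ : Nat.card Z = 4) (zz : ∀ z ∈ Z, z * z = 1) : TF T Z m := by
  obtain ⟨e⟩ := hT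
  have ab : ∀ x ∈ T, ∀ y ∈ T, x * y = y * x := fun x hx y hy => by
    have : (⟨x, hx⟩ : T) * ⟨y, hy⟩ = ⟨y, hy⟩ * ⟨x, hx⟩ :=
      e.injective (by rw [map_mul, map_mul, mul_comm])
    exact congrArg Subtype.val this
  refine ⟨ab, fun x hx => ?_, fun x hx hp => ?_, fun x hx hp => ?_, ?_, ZT⟩
  · have : (⟨x, hx⟩ : T) ^ 2 ^ (m + 2) = 1 := e.injective (by
      rw [map_pow, map_one]
      refine Prod.ext ?_ ?_
      · exact Multiplicative.toAdd.injective (by simpa using zm_ex m _)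
      · exact Multiplicative.toAdd.injective (by simpa using zm_ex m _))
    exact congrArg Subtype.val this
  · have h0 : (⟨x, hx⟩ : T) ^ 2 ^ (m + 1) = 1 := Subtype.ext hp
    have h1 := congrArg e h0
    rw [map_pow, map_one] at h1
    obtain ⟨a, ha⟩ := zm_rt m (e ⟨x, hx⟩).1.toAdd (by
      have := congrArg (fun p => Multiplicative.toAdd (Prod.fst p)) h1
      simpa using this)
    obtain ⟨b, hb⟩ := zm_rt m (e ⟨x, hx⟩).2.toAdd (by
      have := congrArg (fun p => Multiplicative.toAdd (Prod.snd p)) h1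
      simpa using this)
    let w : T := e.symm (Multiplicative.ofAdd a, Multiplicative.ofAdd b)
    have : (⟨x, hx⟩ : T) = w * w := e.injective (by
      rw [map_mul, MulEquiv.apply_symm_apply]
      refine Prod.ext ?_ ?_
      · exact Multiplicative.toAdd.injective (by simpa using ha)
      · exact Multiplicative.toAdd.injective (by simpa using hb))
    exact ⟨w, w.2, congrArg Subtype.val this⟩
  · let Ω : Subgroup X :=
      { carrier := {y | y ∈ T ∧ y * y = 1}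
        one_mem' := ⟨one_mem _, mul_one _⟩
        mul_mem' := fun {a b} ha hb => ⟨mul_mem ha.1 hb.1, by
          rw [mul_assoc, ← mul_assoc b, ab b hb.1 a ha.1, mul_assoc, hb.2, mul_one, ha.2]⟩
        inv_mem' := fun {a} ha => ⟨inv_mem ha.1, by rw [← mul_inv_rev, ha.2, inv_one]⟩ }
    have h1 : Z ≤ Ω := fun z hz => ⟨ZT hz, zz z hz⟩
    let f : Ω → Prop × Prop := fun y =>
      ((e ⟨y, y.2.1⟩).1.toAdd = 0, (e ⟨y, y.2.1⟩).2.toAdd = 0)
    have k : ∀ y : Ω, (e ⟨y, y.2.1⟩).1.toAdd + (e ⟨y, y.2.1⟩).1.toAdd = 0 ∧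
        (e ⟨y, y.2.1⟩).2.toAdd + (e ⟨y, y.2.1⟩).2.toAdd = 0 := fun y => by
      have h0 : (⟨y, y.2.1⟩ : T) * ⟨y, y.2.1⟩ = 1 := Subtype.ext y.2.2
      have h2 := congrArg e h0
      rw [map_mul, map_one] at h2
      exact ⟨congrArg (fun p => Multiplicative.toAdd (Prod.fst p)) h2,
        congrArg (fun p => Multiplicative.toAdd (Prod.snd p)) h2⟩
    have hf : Function.Injective f := fun a b hab => by
      have h2 := Prod.ext_iff.1 hab
      have : (⟨a, a.2.1⟩ : T) = ⟨b, b.2.1⟩ := e.injective (Prod.ext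
        (Multiplicative.toAdd.injective (zm_om m (k a).1 (k b).1 (Iff.of_eq h2.1)))
        (Multiplicative.toAdd.injective (zm_om m (k a).2 (k b).2 (Iff.of_eq h2.2))))
      exact Subtype.ext (congrArg (fun p : T => (p : X)) this)
    have h3 := Nat.card_le_card_of_injective f hf
    have h4 : Nat.card (Prop × Prop) = 4 := by simp
    have h5 := eq_of_le_of_card_ge h1 (by omega)
    rw [h5]
    exact ⟨hx, hp⟩
  · let w : T := e.symm (Multiplicative.ofAdd 1, Multiplicative.ofAdd 1)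
    refine ⟨w, w.2, fun hp => zm_big m ?_⟩
    have h0 : w ^ 2 ^ (m + 1) = 1 := Subtype.ext hp
    have h1 := congrArg e h0
    rw [map_pow, map_one, MulEquiv.apply_symm_apply] at h1
    have := congrArg (fun p => Multiplicative.toAdd (Prod.fst p)) h1
    simpa using this

/-! ### general lemmas -/

theorem memS {T : Subgroup X} {t s : X} (tt : t * t = 1) (tN : t ∈ N[T])
    (hs : s ∈ T ⊔ zpowers t) : s ∈ T ∨ s * t ∈ T := by
  have ti : t⁻¹ = t := inv_eq_of_mul_eq_one_right tt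
  let W : Subgroup X :=
    { carrier := {y | y ∈ T ∨ y * t ∈ T}
      one_mem' := Or.inl (one_mem _)
      mul_mem' := fun {a b} ha hb => by
        rcases ha with ha | ha <;> rcases hb with hb | hb
        · exact Or.inl (mul_mem ha hb)
        · exact Or.inr (by rw [mul_assoc]; exact mul_mem ha hb)
        · refine Or.inr ?_
          have := mul_mem ha (cj' tN hb)
          simpa [mul_assoc] using this
        · refine Or.inl ?_
          have := mul_mem ha (cj' tN hb)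
          simpa [mul_assoc, tt] using this
      inv_mem' := fun {a} ha => by
        rcases ha with ha | ha
        · exact Or.inl (inv_mem ha)
        · refine Or.inr ?_
          have := cj tN (inv_mem ha)
          rw [ti] at this
          simpa [mul_assoc] using this }
  have : T ⊔ zpowers t ≤ W := sup_le (fun y hy => Or.inl hy)
    (zpowers_le.2 (Or.inr (by rw [tt]; exact one_mem _)))
  exact this hs

/-- the `2`-elements of a central extension of a `2`-group form a subgroup -/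
theorem tw_mul [Finite X] {M : Subgroup X}
    (hM : ∀ x ∈ M, ∃ k : ℕ, ∀ y ∈ M, y * x ^ 2 ^ k = x ^ 2 ^ k * y) {x y : X} (hx : x ∈ M)
    (hy : y ∈ M) (tx : Tw x) (ty : Tw y) : Tw (x * y) := by
  haveI : Fact (Nat.Prime 2) := ⟨Nat.prime_two⟩
  have hp : IsPGroup 2 (M ⧸ center M) := fun q => by
    obtain ⟨a, rfl⟩ := QuotientGroup.mk_surjective q
    obtain ⟨k, hk⟩ := hM a a.2
    refine ⟨k, ?_⟩
    rw [← QuotientGroup.mk_pow, QuotientGroup.eq_one_iff, mem_center_iff]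
    exact fun b => Subtype.ext (hk b b.2)
  obtain ⟨j, hj⟩ := IsPGroup.iff_card.1 hp
  have hj' : (center M).index = 2 ^ j := hj
  obtain ⟨a, ha⟩ := tx
  obtain ⟨b, hb⟩ := ty
  have h1 : (⟨x, hx⟩ : M) ^ 2 ^ (a + b) = 1 :=
    Subtype.ext (by simp only [coe_pow, coe_one]; rw [pow_add, pow_mul, ha, one_pow])
  have h2 : (⟨y, hy⟩ : M) ^ 2 ^ (a + b) = 1 :=
    Subtype.ext (by simp only [coe_pow, coe_one]; rw [pow_add, mul_comm, pow_mul, hb, one_pow])
  have h3 : MonoidHom.transferCenterPow M (⟨x, hx⟩ * ⟨y, hy⟩) ^ 2 ^ (a + b) = 1 := by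
    have hc : ∀ c d : center M, Commute c d := fun c d => Subtype.ext (mem_center_iff.1 d.2 c)
    rw [map_mul, (hc _ _).mul_pow, ← map_pow, ← map_pow, h1, h2, map_one, mul_one]
  have h4 := congrArg (fun p : center M => ((p : M) : X)) h3
  simp only [coe_pow, MonoidHom.transferCenterPow_apply, coe_mul, coe_one, hj'] at h4
  exact ⟨j + (a + b), by rw [pow_add, pow_mul, h4]⟩

/-- the complement to `t` over `T` -/
theorem exists_P {S T : Subgroup X} {σ t : X} (TS : T ≤ S) (nT : S ≤ N[T])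
    (sq : ∀ x ∈ S, x * x ∈ T) (sS : ∀ x ∈ S, σ * x * σ⁻¹ ∈ S) (sT : σ ∈ N[T]) (s3 : σ ^ 3 = 1)
    (tT : t ∉ T) (st : σ * t = t * σ) :
    ∃ P : Subgroup X, T ≤ P ∧ P ≤ S ∧ t ∉ P ∧ (∀ x ∈ S, ∀ p ∈ P, x * p * x⁻¹ ∈ P) ∧
      (∀ p ∈ P, σ * p * σ⁻¹ ∈ P) ∧ ∀ x ∈ S, x * (σ * x * σ⁻¹)⁻¹ ∈ P := by
  haveI : (T.subgroupOf S).Normal := (normal_subgroupOf_iff_le_normalizer TS).2 nT
  let q := QuotientGroup.mk' (T.subgroupOf S)
  have hq : ∀ x : S, q x = 1 ↔ (x : X) ∈ T := fun x => by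
    rw [QuotientGroup.mk'_apply, QuotientGroup.eq_one_iff, mem_subgroupOf]
  have h2 : ∀ a : S ⧸ T.subgroupOf S, a * a = 1 := fun a => by
    obtain ⟨x, rfl⟩ := QuotientGroup.mk'_surjective _ a
    rw [← map_mul]
    exact (hq _).2 (sq x x.2)
  have hi : ∀ a : S ⧸ T.subgroupOf S, a⁻¹ = a := fun a => inv_eq_of_mul_eq_one_right (h2 a)
  have hc : ∀ a b : S ⧸ T.subgroupOf S, a * b = b * a := fun a b => by
    rw [← hi (a * b), mul_inv_rev, hi, hi]
  haveI : Std.Commutative (fun a b : S ⧸ T.subgroupOf S => a * b) := ⟨hc⟩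
  let F : S →* S := MonoidHom.mk' (fun x => ⟨σ * x * σ⁻¹, sS x x.2⟩)
    fun a b => Subtype.ext (by simp [mul_assoc])
  have hF : ∀ x : S, (F x : X) = σ * x * σ⁻¹ := fun x => rfl
  have F3 : ∀ x, F (F (F x)) = x := fun x => Subtype.ext (by
    have : σ * (σ * (σ * x * σ⁻¹) * σ⁻¹) * σ⁻¹ = σ ^ 3 * x * (σ ^ 3)⁻¹ := by
      simp only [pow_succ, pow_zero, one_mul, mul_inv_rev, mul_assoc]
    rw [hF, hF, hF, this, s3]; simp)
  let ν : S →* S ⧸ T.subgroupOf S := MonoidHom.mk' (fun x => q x * q (F x) * q (F (F x)))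
    fun a b => by simp only [map_mul]; ac_rfl
  have hν : ∀ x, ν x = q x * q (F x) * q (F (F x)) := fun x => rfl
  have νF : ∀ x, ν (F x) = ν x := fun x => by rw [hν, hν, F3]; ac_rfl
  have mem : ∀ x : S, (x : X) ∈ ν.ker.map S.subtype ↔ ν x = 1 := fun x =>
    mem_map_iff_mem (subtype_injective S)
  refine ⟨ν.ker.map S.subtype, fun y hy => (mem ⟨y, TS hy⟩).2 ?_, map_subtype_le _, fun ht => ?_,
    fun x hx p hp => ?_, fun p hp => ?_, fun x hx => ?_⟩
  · rw [hν, (hq _).2 hy, (hq _).2 (cj sT hy), (hq _).2 (cj sT (cj sT hy)), one_mul, one_mul]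
  · have tS := map_subtype_le _ ht
    have h3 := (mem ⟨t, tS⟩).1 ht
    have h4 : F ⟨t, tS⟩ = ⟨t, tS⟩ := Subtype.ext (by rw [hF]; exact mul_inv_eq_iff_eq_mul.2 st)
    rw [hν, h4, h4, h2, one_mul, hq] at h3
    exact tT h3
  · have pS := map_subtype_le _ hp
    have h3 := (mem ⟨p, pS⟩).1 hp
    refine (mem (⟨x, hx⟩ * ⟨p, pS⟩ * (⟨x, hx⟩ : S)⁻¹)).2 ?_
    rw [map_mul, map_mul, h3, mul_one, map_inv, mul_inv_cancel]
  · have pS := map_subtype_le _ hp
    have h3 := (mem ⟨p, pS⟩).1 hp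
    exact (mem (F ⟨p, pS⟩)).2 (by rw [νF, h3])
  · refine (mem (⟨x, hx⟩ * (F ⟨x, hx⟩)⁻¹)).2 ?_
    rw [map_mul, map_inv, νF, mul_inv_cancel]

/-- the stabiliser of the `T`-class of `t` -/
def B (T : Subgroup X) (t : X) : Subgroup X where
  carrier := {x | x ∈ N[T] ∧ ∃ w ∈ T, x * t * x⁻¹ = w * t * w⁻¹}
  one_mem' := ⟨one_mem _, 1, one_mem _, rfl⟩
  mul_mem' := fun {a b} ⟨ha, v, hv, e1⟩ ⟨hb, w, hw, e2⟩ =>
    ⟨mul_mem ha hb, a * w * a⁻¹ * v, mul_mem (cj ha hw) hv, by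
      calc a * b * t * (a * b)⁻¹ = a * (b * t * b⁻¹) * a⁻¹ := by group
        _ = a * w * a⁻¹ * (a * t * a⁻¹) * (a * w * a⁻¹)⁻¹ := by rw [e2]; group
        _ = _ := by rw [e1]; group⟩
  inv_mem' := fun {a} ⟨ha, w, hw, e⟩ =>
    ⟨inv_mem ha, a⁻¹ * w⁻¹ * a, cj' ha (inv_mem hw), by
      calc a⁻¹ * t * a⁻¹⁻¹ = a⁻¹ * w⁻¹ * (w * t * w⁻¹) * w * a := by group
        _ = _ := by rw [← e]; group⟩

theorem memB {T : Subgroup X} {t x : X} (hx : x ∈ N[T]) (e : x * t = t * x) : x ∈ B T t :=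
  ⟨hx, 1, one_mem _, by rw [e]; group⟩

/-- the part of `N(T⟨t⟩)` that centralises `Z` and the squares of `C(T⟨t⟩)` -/
def M0 (T Z : Subgroup X) (t : X) : Subgroup X where
  carrier := {x | x ∈ N[T] ∧ x * t * x⁻¹ * t⁻¹ ∈ T ∧ (∀ z ∈ Z, Commute x z) ∧
    ∀ c, c * t = t * c → (∀ y ∈ T, c * y = y * c) → Commute x (c * c)}
  one_mem' := ⟨one_mem _, by simp, fun _ _ => Commute.one_left _, fun _ _ _ => Commute.one_left _⟩
  mul_mem' := fun {a b} ⟨a1, a2, a3, a4⟩ ⟨b1, b2, b3, b4⟩ =>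
    ⟨mul_mem a1 b1, by
      have := mul_mem (cj a1 b2) a2
      simpa [mul_assoc] using this,
      fun z hz => (a3 z hz).mul_left (b3 z hz),
      fun c h1 h2 => (a4 c h1 h2).mul_left (b4 c h1 h2)⟩
  inv_mem' := fun {a} ⟨a1, a2, a3, a4⟩ =>
    ⟨inv_mem a1, by
      have := cj' a1 (inv_mem a2)
      simpa [mul_assoc] using this,
      fun z hz => (a3 z hz).inv_left, fun c h1 h2 => (a4 c h1 h2).inv_left⟩

section TFacts
variable {T Z : Subgroup X} {m : ℕ} (f : TF T Z m)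
include f

theorem TF.cm {x y : X} (hx : x ∈ T) (hy : y ∈ T) : Commute x y := f.ab x hx y hy

theorem TF.half {y : X} (hy : y ∈ T) : y ^ 2 ^ (m + 1) ∈ Z :=
  f.om _ (pow_mem hy _) (by rw [← pow_two, ← pow_mul, ← pow_succ, f.ex y hy])

theorem TF.sqpow {y : X} (hy : y ∈ T) : (y * y) ^ 2 ^ (m + 1) = 1 := by
  rw [← pow_two, ← pow_mul, ← pow_succ', f.ex y hy]

theorem TF.triv {x : X} (hx : x ∈ N[T]) (cZ : ∀ z ∈ Z, Commute x z) {y : X} (hy : y ∈ T) :
    ∃ w ∈ T, x * y * x⁻¹ = y * (w * w) := by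
  have h1 := cj hx hy
  obtain ⟨w, hw, e⟩ := f.rt (y⁻¹ * (x * y * x⁻¹)) (mul_mem (inv_mem hy) h1) (by
    rw [(f.cm (inv_mem hy) h1).mul_pow, conj_pow, (cZ _ (f.half hy)).eq, inv_pow]
    group)
  exact ⟨w, hw, by rw [← e]; group⟩

theorem TF.trivPow {x : X} (hx : x ∈ N[T]) (cZ : ∀ z ∈ Z, Commute x z) (k : ℕ) {y : X}
    (hy : y ∈ T) : ∃ w ∈ T, x ^ 2 ^ k * y * (x ^ 2 ^ k)⁻¹ = y * w ^ 2 ^ (k + 1) := by
  induction k with
  | zero =>
    obtain ⟨w, hw, e⟩ := f.triv hx cZ hy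
    exact ⟨w, hw, by simpa [pow_two] using e⟩
  | succ k ih =>
    obtain ⟨w, hw, e⟩ := ih
    obtain ⟨v, hv, e2⟩ := f.triv (pow_mem hx (2 ^ k)) (fun z hz => (cZ z hz).pow_left _) hw
    refine ⟨w * v, mul_mem hw hv, ?_⟩
    rw [pow_succ 2 k, pow_mul, pow_two]
    generalize x ^ 2 ^ k = a at e e2 ⊢
    calc a * a * y * (a * a)⁻¹ = a * (a * y * a⁻¹) * a⁻¹ := by group
      _ = a * y * a⁻¹ * (a * w * a⁻¹) ^ 2 ^ (k + 1) := by
        rw [conj_pow]
        conv_lhs => rw [e]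
        group
      _ = y * (w * (w * (v * v))) ^ 2 ^ (k + 1) := by
        rw [e, e2, (f.cm hw (mul_mem hw (mul_mem hv hv))).mul_pow, mul_assoc]
      _ = y * (w * v) ^ 2 ^ (k + 1 + 1) := by
        rw [pow_succ' 2 (k + 1), pow_mul, (f.cm hw hv).mul_pow, pow_two, pow_two, mul_assoc w w]

theorem TF.root {a c w : X} (fp : ∀ v ∈ T, a * v = v * a → v = 1) (hc : c ∈ T) (hw : w ∈ T)
    (e : a * c * a⁻¹ = c * (w * w)) : ∃ u ∈ T, c = u * u := by
  refine f.rt c hc (fp _ (pow_mem hc _) ?_)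
  rw [← mul_inv_eq_iff_eq_mul, ← conj_pow, e, (f.cm hc (mul_mem hw hw)).mul_pow, f.sqpow hw,
    mul_one]

/-- a power of an element of `M0` centralises `T` and `t` -/
theorem TF.powC {t x : X} (hx : x ∈ M0 T Z t) : ∃ k : ℕ, x ^ 2 ^ k * t = t * x ^ 2 ^ k ∧
    ∀ y ∈ T, x ^ 2 ^ k * y = y * x ^ 2 ^ k := by
  have h1 : ∀ y ∈ T, Commute (x ^ 2 ^ (m + 1)) y := fun y hy => by
    obtain ⟨w, hw, e⟩ := f.trivPow hx.1 hx.2.2.1 (m + 1) hy
    rw [f.ex w hw, mul_one] at e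
    exact mul_inv_eq_iff_eq_mul.1 e
  have h2 := (pow_mem hx (2 ^ (m + 1))).2.1
  refine ⟨m + 1 + (m + 2), ?_, fun y hy => ?_⟩
  · rw [pow_add, pow_mul]
    generalize x ^ 2 ^ (m + 1) = a at h1 h2
    generalize hc : a * t * a⁻¹ * t⁻¹ = c at h2
    have h3 : ∀ j : ℕ, a ^ j * t = c ^ j * t * a ^ j := fun j => by
      induction j with
      | zero => simp
      | succ j ih =>
        calc a ^ (j + 1) * t = a * (a ^ j * t) := by rw [pow_succ', mul_assoc]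
          _ = a * c ^ j * t * a ^ j := by rw [ih]; group
          _ = c ^ j * (a * t * a⁻¹ * t⁻¹) * t * (a * a ^ j) := by
            rw [((h1 c h2).pow_right j).eq]; group
          _ = _ := by rw [hc, ← pow_succ, ← pow_succ']
    rw [h3, f.ex c h2, one_mul]
  · rw [pow_add, pow_mul]
    exact ((h1 y hy).pow_left _).eq

theorem TF.central {t : X} : ∀ x ∈ M0 T Z t, ∃ k : ℕ, ∀ y ∈ M0 T Z t,
    y * x ^ 2 ^ k = x ^ 2 ^ k * y := fun x hx => by
  obtain ⟨k, h1, h2⟩ := f.powC hx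
  refine ⟨k + 1, fun y hy => ?_⟩
  rw [pow_succ, pow_mul, pow_two]
  exact (hy.2.2.2 _ h1 h2).eq

theorem TF.T_le {t : X} (tN : t ∈ N[T]) : T ≤ M0 T Z t := fun y hy =>
  ⟨le_normalizer hy, by
    have := mul_mem hy (cj tN (inv_mem hy))
    simpa [mul_assoc] using this,
    fun z hz => f.cm hy (f.ZT hz), fun c _ h2 => by
      have : Commute y c := (h2 y hy).symm
      exact this.mul_right this⟩

/-- squares of elements of `M0` fix the class of `t`, if `t` inverts `T` -/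
theorem TF.sqB {t x : X} (inv : ∀ y ∈ T, t * y⁻¹ = y * t) (hx : x ∈ M0 T Z t) :
    x * x ∈ B T t := by
  obtain ⟨a1, a2, a3, -⟩ := hx
  obtain ⟨w, hw, e⟩ := f.triv a1 a3 a2
  generalize hc : x * t * x⁻¹ * t⁻¹ = c at a2 e
  refine ⟨mul_mem a1 a1, c * w, mul_mem a2 hw, ?_⟩
  have h1 : x * t * x⁻¹ = c * t := by rw [← hc]; group
  calc x * x * t * (x * x)⁻¹ = x * (x * t * x⁻¹) * x⁻¹ := by group
    _ = x * c * x⁻¹ * (x * t * x⁻¹) := by
      conv_lhs => rw [h1]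
      group
    _ = c * w * (w * c) * t := by rw [e, h1]; group
    _ = c * w * (c * w * t) := by rw [(f.cm hw a2).eq]; group
    _ = c * w * (t * (c * w)⁻¹) := by rw [inv _ (mul_mem a2 hw)]
    _ = _ := by group

end TFacts

section Main
variable [Finite X] {t σ : X} {Λ O Z T : Subgroup X} {m : ℕ} (h : A5C t σ Λ O Z)
  (v : IV t σ Z T) (f : TF T Z m)
include h v f

theorem cT {x : X} (hx : x ∈ T) (e : x * t = t * x) : x ∈ Z := by
  rcases cen_two h e (fun z hz => f.ab x hx z (f.ZT hz)) ⟨_, f.ex x hx⟩ with r | r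
  · exact r
  · exact absurd (by simpa using mul_mem (inv_mem hx) (f.ZT r)) v.tP

omit v in
theorem fpfT {x : X} (hx : x ∈ T) (e : σ * x = x * σ) : x = 1 := by
  have k : ∀ j : ℕ, x ^ 2 ^ j = 1 → x = 1 := fun j => by
    induction j with
    | zero => simp
    | succ j ih =>
      intro e1
      have e2 : Commute σ x := e
      refine ih (fpfZ h (f.om _ (pow_mem hx _) ?_) (e2.pow_right _))
      rw [← pow_two, ← pow_mul, ← pow_succ, e1]
  exact k _ (f.ex x hx)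

theorem normT {g : X} (hg : g ∈ N[T ⊔ zpowers t]) : g ∈ N[T] := by
  refine memN fun y0 hy0 => ?_
  by_contra hu
  have hS : ∀ y ∈ T, g * y * g⁻¹ ∈ T ∨ g * y * g⁻¹ * t ∈ T := fun y hy =>
    memS h.tt v.tN (cj hg (mem_sup_left hy))
  have h1 := (hS y0 hy0).resolve_left hu
  have cm : ∀ y ∈ T, Commute (g * y * g⁻¹) (g * y0 * g⁻¹) := fun y hy => by
    show _ * _ = _ * _
    rw [conj_mul, conj_mul, f.ab y hy y0 hy0]
  generalize g * y0 * g⁻¹ = u at hu h1 cm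
  have key : ∀ r ∈ T, Commute r u → r * r = 1 := fun r hr e => by
    have e1 := e.inv_right.mul_right (f.cm hr h1)
    rw [inv_mul_cancel_left] at e1
    exact zsq h (cT h v f hr e1)
  have k2 : ∀ y ∈ T, y * y ≠ 1 → g * (y * y) * g⁻¹ = u * u := fun y hy y1 => by
    rcases hS y hy with r | r
    · have := key _ r (cm y hy)
      rw [conj_mul] at this
      exact absurd (by simpa using this) y1
    · have h2 : g * y * g⁻¹ * u⁻¹ ∈ T := by
        have := mul_mem r (inv_mem h1)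
        simpa [mul_assoc] using this
      have h3 := key _ h2 ((cm y hy).mul_left (Commute.refl u).inv_left)
      rw [← pow_two, (cm y hy).inv_right.mul_pow, inv_pow, mul_inv_eq_one, pow_two, pow_two,
        conj_mul] at h3
      exact h3
  obtain ⟨a, ha, a1⟩ := f.big
  have a2 : a * a ≠ 1 := fun e => a1 (by rw [pow_succ', pow_mul, pow_two, e, one_pow])
  have h4 := k2 a ha a2
  have h5 := k2 _ (cj v.sN ha) (by rw [conj_mul]; simpa using a2)
  rw [← h4, conj_mul, mul_left_inj, mul_right_inj] at h5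
  exact a2 (fpfT h f (mul_mem ha ha) (mul_inv_eq_iff_eq_mul.1 h5))

theorem inverts {x0 : X} (h0 : x0 ∈ T) (e0 : x0 * t * (x0 * t) = 1)
    (hn : ∀ x ∈ T, x0 * t ≠ x * t * x⁻¹) : ∀ y ∈ T, t * y⁻¹ = y * t := by
  have ti : t⁻¹ = t := inv_eq_of_mul_eq_one_right h.tt
  have st : Commute σ t := h.Lt σ h.sL
  let F : T →* T := MonoidHom.mk' (fun y => ⟨y * (t * y * t⁻¹)⁻¹,
      mul_mem y.2 (inv_mem (cj v.tN y.2))⟩) fun a b => Subtype.ext (by
    have ha := inv_mem (cj v.tN a.2)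
    have hb := inv_mem (cj v.tN b.2)
    simp only [coe_mul]
    rw [← conj_mul, mul_inv_rev, f.ab _ hb _ ha]
    generalize (t * (a : X) * t⁻¹)⁻¹ = a' at ha
    generalize (t * (b : X) * t⁻¹)⁻¹ = b' at hb
    rw [mul_assoc, mul_assoc, ← mul_assoc (b : X), f.ab _ b.2 _ ha, mul_assoc])
  have hF : ∀ y : T, (F y : X) = y * (t * y * t⁻¹)⁻¹ := fun y => rfl
  have hk : F.ker = Z.subgroupOf T := by
    ext y
    rw [MonoidHom.mem_ker, mem_subgroupOf, Subtype.ext_iff, hF, coe_one, mul_inv_eq_one,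
      eq_mul_inv_iff_mul_eq]
    exact ⟨cT h v f y.2, fun hy => tZ h hy⟩
  have h4 : F.range.index = 4 := by
    rw [index_range, hk, Nat.card_congr (subgroupOfEquivOfLe f.ZT).toEquiv, h.cZ]
  let I : Subgroup T :=
    { carrier := {y | t * (y : X)⁻¹ = y * t}
      one_mem' := by simp
      mul_mem' := fun {a b} ha hb => by
        simp only [Set.mem_ofPred_eq, coe_mul] at ha hb ⊢
        rw [f.ab _ a.2 _ b.2, mul_inv_rev, ← mul_assoc, ha, mul_assoc, hb, ← mul_assoc,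
          f.ab _ a.2 _ b.2]
      inv_mem' := fun {a} ha => by
        simp only [Set.mem_ofPred_eq, coe_inv, inv_inv] at ha ⊢
        calc t * (a : X) = (a : X)⁻¹ * (a * t) * a := by group
          _ = _ := by rw [← ha]; group }
  have hI : ∀ y : T, y ∈ I ↔ t * (y : X)⁻¹ = y * t := fun y => Iff.rfl
  have h5 : F.range < I := by
    refine lt_of_le_of_ne ?_ fun e => ?_
    · rintro _ ⟨y, rfl⟩
      rw [hI, hF, f.ab _ y.2 _ (inv_mem (cj v.tN y.2)), ti]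
      simp only [mul_inv_rev, ti, mul_assoc, inv_inv]
    · have h6 : (⟨x0, h0⟩ : T) ∈ I := by
        rw [hI]
        have := eq_inv_of_mul_eq_one_right e0
        rw [mul_inv_rev, ti] at this
        exact this.symm
      rw [← e] at h6
      obtain ⟨y, hy⟩ := h6
      have h7 : (y : X) * (t * y * t⁻¹)⁻¹ = x0 := congrArg Subtype.val hy
      exact hn y y.2 (by rw [← h7]; group)
  have h6 : I.index = 1 ∨ I.index = 2 := by
    have h7 := index_dvd_of_le h5.le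
    have h8 := index_strictAnti h5
    rw [h4] at h7 h8
    have := Nat.le_of_dvd (by norm_num) h7
    interval_cases I.index <;> omega
  intro y hy
  rcases h6 with h6 | h6
  · have : (⟨y, hy⟩ : T) ∈ I := by rw [index_eq_one.1 h6]; exact mem_top _
    exact this
  · by_contra hy1
    have sI : ∀ a : T, (⟨σ * a * σ⁻¹, cj v.sN a.2⟩ : T) ∈ I → a ∈ I := fun a ha => by
      rw [hI] at ha ⊢
      have h7 : σ * (t * (a : X)⁻¹) * σ⁻¹ = σ * (a * t) * σ⁻¹ := by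
        calc σ * (t * (a : X)⁻¹) * σ⁻¹ = t * (σ * a * σ⁻¹)⁻¹ := by
              rw [← mul_assoc, st.eq]; group
          _ = σ * a * σ⁻¹ * t := ha
          _ = _ := by rw [mul_assoc, st.inv_left.eq]; group
      simpa using h7
    have h7 : (⟨y, hy⟩ : T) ∉ I := hy1
    have h8 := mt (sI _) h7
    have h9 := mt (sI _) h8
    have h10 := (mul_mem_iff_of_index_two h6).2 (iff_of_false h7 h8)
    have h11 := (mul_mem_iff_of_index_two h6).not.2 (fun e => h9 (e.1 h10))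
    refine h11 ?_
    convert one_mem I
    refine Subtype.ext (fpfT h f (Subtype.prop _) ?_)
    simp only [coe_mul]
    have h3 : σ * (σ * (σ * y * σ⁻¹) * σ⁻¹) * σ⁻¹ = y := by
      have : σ * (σ * (σ * y * σ⁻¹) * σ⁻¹) * σ⁻¹ = σ ^ 3 * y * (σ ^ 3)⁻¹ := by
        simp only [pow_succ, pow_zero, one_mul, mul_inv_rev, mul_assoc]
      rw [this, s3 h]; group
    have y1 := cj v.sN hy
    have y2 := cj v.sN y1
    rw [← mul_inv_eq_iff_eq_mul, ← conj_mul (b := σ) (c := σ * (σ * y * σ⁻¹) * σ⁻¹),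
      ← conj_mul (b := σ) (a := y), h3, f.ab _ (mul_mem y1 y2) _ hy, mul_assoc y]

omit v f in
theorem t_mem (tN : t ∈ N[T]) : t ∈ M0 T Z t :=
  ⟨tN, by simp, fun z hz => (tZ h hz).symm, fun c h1 _ => by
    have : Commute t c := h1.symm
    exact this.mul_right this⟩

theorem sM {x : X} (hx : x ∈ M0 T Z t) : σ * x * σ⁻¹ ∈ M0 T Z t := by
  obtain ⟨a1, a2, a3, a4⟩ := hx
  have st : Commute σ t := h.Lt σ h.sL
  refine ⟨mul_mem (mul_mem v.sN a1) (inv_mem v.sN), ?_, fun z hz => ?_, fun c h1 h2 => ?_⟩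
  · have := cj v.sN a2
    have e : σ * x * σ⁻¹ * t * (σ * x * σ⁻¹)⁻¹ * t⁻¹ = σ * (x * t * x⁻¹ * t⁻¹) * σ⁻¹ := by
      calc σ * x * σ⁻¹ * t * (σ * x * σ⁻¹)⁻¹ * t⁻¹
          = σ * x * (σ⁻¹ * t) * σ * x⁻¹ * (σ⁻¹ * t⁻¹) := by group
        _ = _ := by rw [st.inv_left.eq, st.inv_inv.eq]; group
    rwa [e]
  · have := (a3 _ (cj' h.sZ hz)).eq
    show _ * _ = _ * _
    calc σ * x * σ⁻¹ * z = σ * (x * (σ⁻¹ * z * σ)) * σ⁻¹ := by group
      _ = _ := by rw [this]; group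
  · have : Commute σ (c * c) := cen_sq h h1 fun z hz => h2 z (f.ZT hz)
    exact (this.mul_left (a4 c h1 h2)).mul_left this.inv_left

/-- an element of `M0` that moves the class of `t` -/
theorem exists_h {g x0 : X} (hg : g ∈ N[T]) (h0 : x0 ∈ T) (e0 : g * t * g⁻¹ = x0 * t)
    (inv : ∀ y ∈ T, t * y⁻¹ = y * t) (hn : ∀ x ∈ T, x0 * t ≠ x * t * x⁻¹) :
    ∃ a ∈ M0 T Z t, a ∉ B T t := by
  have st : Commute σ t := h.Lt σ h.sL
  have nZ : ∀ a ∈ N[T], a ∈ N[Z] := fun a ha => memN fun z hz =>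
    f.om _ (cj ha (f.ZT hz)) (by rw [conj_mul, zsq h hz]; group)
  have rN : g * σ * g⁻¹ ∈ N[T] := mul_mem (mul_mem hg v.sN) (inv_mem hg)
  have r3 : (g * σ * g⁻¹) ^ 3 = 1 := by rw [conj_pow, s3 h]; group
  have fp : ∀ y ∈ T, g * σ * g⁻¹ * y = y * (g * σ * g⁻¹) → y = 1 := fun y hy e => by
    have := fpfT h f (cj' hg hy) (by
      calc σ * (g⁻¹ * y * g) = g⁻¹ * (g * σ * g⁻¹ * y) * g := by group
        _ = _ := by rw [e]; group)
    have e2 : y = g * (g⁻¹ * y * g) * g⁻¹ := by group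
    rw [e2, this]; group
  have rc : ∀ c, c * t = t * c → (∀ y ∈ T, c * y = y * c) → Commute (g * σ * g⁻¹) (c * c) := by
    intro c h1 h2
    have h3 : c * (g * t * g⁻¹) = g * t * g⁻¹ * c := by
      rw [e0, ← mul_assoc, h2 x0 h0, mul_assoc, h1, mul_assoc]
    have h4 := cen_sq h (c := g⁻¹ * c * g) (by
      calc g⁻¹ * c * g * t = g⁻¹ * (c * (g * t * g⁻¹)) * g := by group
        _ = _ := by rw [h3]; group) fun z hz => by
      calc g⁻¹ * c * g * z = g⁻¹ * (c * (g * z * g⁻¹)) * g := by group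
        _ = _ := by rw [h2 _ (cj hg (f.ZT hz))]; group
    show _ * _ = _ * _
    calc g * σ * g⁻¹ * (c * c) = g * (σ * (g⁻¹ * c * g * (g⁻¹ * c * g))) * g⁻¹ := by group
      _ = _ := by rw [h4]; group
  have rt : g * σ * g⁻¹ * (x0 * t) * (g * σ * g⁻¹)⁻¹ = x0 * t := by
    rw [← e0]
    calc g * σ * g⁻¹ * (g * t * g⁻¹) * (g * σ * g⁻¹)⁻¹ = g * (σ * t) * σ⁻¹ * g⁻¹ := by group
      _ = _ := by rw [st.eq]; group
  generalize g * σ * g⁻¹ = ρ at rN r3 fp rc rt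
  obtain ⟨i, hi⟩ := agree' h (nZ ρ rN) r3 fun y hy => fp y (f.ZT hy)
  have sB : (σ ^ i)⁻¹ ∈ B T t := inv_mem (pow_mem (memB v.sN st) i)
  have rt' : ρ * t * ρ⁻¹ = (ρ * x0 * ρ⁻¹)⁻¹ * x0 * t := by
    rw [mul_assoc _ x0, ← rt]; group
  refine ⟨ρ * (σ ^ i)⁻¹, ⟨mul_mem rN sB.1, ?_, hi, fun c h1 h2 => ?_⟩, fun hB => ?_⟩
  · have e : ρ * (σ ^ i)⁻¹ * t * (ρ * (σ ^ i)⁻¹)⁻¹ * t⁻¹ = (ρ * x0 * ρ⁻¹)⁻¹ * x0 := by
      calc ρ * (σ ^ i)⁻¹ * t * (ρ * (σ ^ i)⁻¹)⁻¹ * t⁻¹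
          = ρ * ((σ ^ i)⁻¹ * t) * σ ^ i * ρ⁻¹ * t⁻¹ := by group
        _ = ρ * t * ρ⁻¹ * t⁻¹ := by rw [(st.pow_left i).inv_left.eq]; group
        _ = _ := by rw [rt']; group
    rw [e]
    exact mul_mem (inv_mem (cj rN h0)) h0
  · have : Commute σ (c * c) := cen_sq h h1 fun z hz => h2 z (f.ZT hz)
    exact (rc c h1 h2).mul_left (this.pow_left i).inv_left
  · have h1 := mul_mem hB (inv_mem sB)
    rw [mul_inv_cancel_right] at h1
    obtain ⟨-, w, hw, e⟩ := h1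
    rw [rt', mul_assoc w, inv w hw, ← mul_assoc, mul_left_inj] at e
    obtain ⟨u, hu, e2⟩ := f.root fp h0 (inv_mem hw) (by
      rw [← mul_inv_rev, ← e]; group)
    exact hn u hu (by rw [e2, mul_assoc, mul_assoc, inv u hu])

theorem main {g : X} (hg : g ∈ N[T ⊔ zpowers t]) (hn : ∀ x ∈ T, g * t * g⁻¹ ≠ x * t * x⁻¹) :
    ∃ P, IV t σ Z P ∧ T < P := by
  have ti : t⁻¹ = t := inv_eq_of_mul_eq_one_right h.tt
  have st : Commute σ t := h.Lt σ h.sL
  have gN := normT h v f hg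
  have h0 : g * t * g⁻¹ * t ∈ T := by
    refine (memS h.tt v.tN (cj hg (mem_sup_right (mem_zpowers t)))).resolve_left fun e => v.tP ?_
    simpa [mul_assoc] using cj' gN e
  have e0 : g * t * g⁻¹ = g * t * g⁻¹ * t * t := by rw [mul_assoc _ t t, h.tt, mul_one]
  generalize g * t * g⁻¹ * t = x0 at h0 e0
  have inv := inverts h v f h0 (by rw [← e0, conj_mul, h.tt]; group) (by rw [← e0]; exact hn)
  obtain ⟨a, aM, aB⟩ := exists_h h v f gN h0 e0 inv (by rw [← e0]; exact hn)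
  obtain ⟨k, j, hj, e⟩ := Nat.exists_eq_two_pow_mul_odd (orderOf_pos a).ne'
  have b2 : Tw (a ^ j) := ⟨k, by rw [← pow_mul, mul_comm, ← e, pow_orderOf_eq_one]⟩
  have bM := pow_mem aM j
  have bB : a ^ j ∉ B T t := fun hb => aB (by
    obtain ⟨i, rfl⟩ := hj
    have h1 := mul_mem (inv_mem (pow_mem (f.sqB inv aM) i)) hb
    rwa [pow_succ, pow_mul, pow_two, inv_mul_cancel_left] at h1)
  generalize a ^ j = b at b2 bM bB
  let S : Subgroup X :=
    { carrier := {x | x ∈ M0 T Z t ∧ Tw x}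
      one_mem' := ⟨one_mem _, 0, by simp⟩
      mul_mem' := fun {x y} hx hy => ⟨mul_mem hx.1 hy.1, tw_mul f.central hx.1 hy.1 hx.2 hy.2⟩
      inv_mem' := fun {x} ⟨h1, n, h2⟩ => ⟨inv_mem h1, n, by rw [inv_pow, h2, inv_one]⟩ }
  have TS : T ≤ S := fun y hy => ⟨f.T_le v.tN hy, _, f.ex y hy⟩
  have tS : t ∈ S := ⟨t_mem h v.tN, 1, by rw [pow_one, pow_two, h.tt]⟩
  have sq : ∀ x ∈ S, x * x ∈ T := fun x hx => by
    obtain ⟨-, w, hw, e1⟩ := f.sqB inv hx.1
    have h1 : w⁻¹ * (x * x) ∈ S := mul_mem (inv_mem (TS hw)) (mul_mem hx hx)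
    rcases cen_two h (c := w⁻¹ * (x * x)) (by
      calc w⁻¹ * (x * x) * t = w⁻¹ * (x * x * t * (x * x)⁻¹) * (x * x) := by group
        _ = _ := by rw [e1]; group) h1.1.2.2.1 h1.2 with r | r
    · simpa using mul_mem hw (f.ZT r)
    · exfalso
      have h2 : x * x * t ∈ T := by simpa [mul_assoc] using mul_mem hw (f.ZT r)
      obtain ⟨y, hy, y1⟩ := f.big
      obtain ⟨u, hu, e2⟩ := f.trivPow hx.1.1 hx.1.2.2.1 1 hy
      rw [pow_one, pow_two] at e2
      have h3 : x * x * y * (x * x)⁻¹ = y⁻¹ := by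
        have h4 := inv _ (inv_mem hy)
        rw [inv_inv] at h4
        calc x * x * y * (x * x)⁻¹ = x * x * t * (t⁻¹ * y) * t * (x * x * t)⁻¹ := by group
          _ = x * x * t * y⁻¹ * (x * x * t)⁻¹ := by
            rw [ti, h4, mul_assoc (x * x * t), mul_assoc y⁻¹, h.tt, mul_one]
          _ = _ := by rw [f.ab _ h2 _ (inv_mem hy)]; group
      rw [h3] at e2
      have h5 : y * y = u⁻¹ ^ 2 ^ (1 + 1) := by
        rw [inv_pow, eq_inv_iff_mul_eq_one, mul_assoc, ← e2, mul_inv_cancel]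
      refine y1 ?_
      rw [pow_succ', pow_mul, pow_two, h5, ← pow_mul, ← pow_add, add_comm]
      exact f.ex _ (inv_mem hu)
  have sS : ∀ x ∈ S, σ * x * σ⁻¹ ∈ S := fun x ⟨h1, n, h2⟩ =>
    ⟨sM h v f h1, n, by rw [conj_pow, h2]; group⟩
  obtain ⟨P, TP, PS, tP, nP, sP, hP⟩ :=
    exists_P TS (fun x hx => hx.1.1) sq sS v.sN (s3 h) v.tP st
  refine ⟨P, ⟨fun p => ?_, f.ZT.trans TP, memN (nP t tS), memN sP, tP⟩,
    lt_of_le_of_ne TP fun e1 => bB ?_⟩
  · obtain ⟨n, hn⟩ := (PS p.2).2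
    exact ⟨n, Subtype.ext hn⟩
  · have h1 := hP b ⟨bM, b2⟩
    rw [← e1] at h1
    have h2 := bM.2.1
    have e2 : b * t * b⁻¹ = b * t * b⁻¹ * t⁻¹ * t := by group
    generalize b * t * b⁻¹ * t⁻¹ = c at h2 e2
    generalize hy : b * (σ * b * σ⁻¹)⁻¹ = y at h1
    have e3 : σ * b * σ⁻¹ = y⁻¹ * b := by rw [← hy]; group
    have h4 := inv _ (inv_mem h1)
    rw [inv_inv] at h4
    have e4 : σ * c * σ⁻¹ * t = c * (y⁻¹ * y⁻¹) * t := by
      calc σ * c * σ⁻¹ * t = σ * (c * t) * σ⁻¹ := by rw [mul_assoc, st.inv_left.eq]; group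
        _ = σ * b * (σ⁻¹ * t * σ) * b⁻¹ * σ⁻¹ := by rw [← e2, st.inv_left.eq]; group
        _ = σ * b * σ⁻¹ * t * (σ * b * σ⁻¹)⁻¹ := by group
        _ = y⁻¹ * (b * t * b⁻¹) * y := by rw [e3]; group
        _ = y⁻¹ * c * (t * y) := by rw [e2]; group
        _ = _ := by rw [h4, f.ab _ (inv_mem h1) _ h2]; group
    obtain ⟨u, hu, e5⟩ := f.root (fun y hy e => fpfT h f hy e) h2 (inv_mem h1)
      (mul_right_cancel e4)
    exact ⟨bM.1, u, hu, by rw [e2, e5, mul_assoc, mul_assoc, inv u hu]⟩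

end Main

theorem pa2 : PA2Stmt.{u} := by
  intro X _ _ t σ Λ O Z T n h v hT hn ⟨g, hg, hne⟩
  obtain ⟨m, rfl⟩ := Nat.exists_eq_add_of_le' hn
  exact main h v (tf_of hT v.ZP h.cZ fun z hz => zsq h hz) hg hne

end Cfsg.Agent.H14.S94Pa2
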