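import Mathlib
import Cfsg.Agent.H11.CyLp
import Cfsg.Agent.H55.ElN44

/-! Project CY, chapter LP, piece N44. -/

set_option autoImplicit false

namespace Cfsg.Agent.H14.CyN44

open Subgroup MulAction Cfsg.Agent.H11.Cy Cfsg.Agent.H11.Cy.Lp
open Cfsg.Agent.H11.EL (Nm Ct C1 cj Ex R1 SC OS WS CL2)

theorem n44 : N44Stmt := by
  intro G _ _ Ω _ _ p A0 h x0 y0 l3 t ⟨tK, t2, tc⟩
  have cA := h.card x0
  have CM := (l3.la x0 y0 l3.xy).CM
  have tiN := l3.tiN x0 y0 l3.xy
  have cC := l3.cC x0 y0 l3.xy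
  have po : Odd p := Nat.odd_iff.2 (by have := l3.p3; omega)
  have vo : Odd (Nat.card Ω - 1) := by
    haveI := h.nt
    exact Nat.Even.sub_odd Nat.card_pos l3.even odd_one
  simp only [Kl, Fl] at tK tc CM tiN cC
  generalize A0 x0 = A at *
  generalize A0 y0 = B at *
  obtain ⟨m, mo, hm⟩ := H55.ElN.two_odd (K := Ct (A ⊔ B)) (t := ⟨t, tK⟩) ((orderOf_coe _).symm.trans t2)
    fun c hc => by
      obtain ⟨n, hn⟩ := tc c c.2 (congrArg Subtype.val hc)
      exact ⟨n, Subtype.ext hn⟩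
  have hC : Nat.card (Ct A) = 2 * ((Nat.card Ω - 1) * m) := by
    rw [cC, hm]; ring
  obtain ⟨N, hN⟩ := H9.exists_index_two_of_card (vo.mul mo) hC
  have cN : Nat.card (N.map (Ct A).subtype) = (Nat.card Ω - 1) * m := by
    have := N.card_mul_index
    rw [card_map_of_injective (Ct A).subtype_injective]
    rw [hN, hC] at this
    omega
  have mem : ∀ c ∈ Ct A, Odd (orderOf c) → c ∈ N.map (Ct A).subtype := fun c hc ⟨k, hk⟩ => by
    refine ⟨⟨c, hc⟩, ?_, rfl⟩
    have h1 := N.pow_mem (N.sq_mem_of_index_two hN ⟨c, hc⟩) (k + 1)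
    have h2 : (⟨c, hc⟩ : Ct A) ^ orderOf c = 1 := Subtype.ext (pow_orderOf_eq_one c)
    rwa [← pow_mul, show 2 * (k + 1) = orderOf c + 1 by omega, pow_succ, h2, one_mul] at h1
  have ct : N.map (Ct A).subtype ≤ Ct A := map_subtype_le _
  generalize N.map (Ct A).subtype = O at cN mem ct
  have oo : Odd (Nat.card O) := cN ▸ vo.mul mo
  have od : ∀ x ∈ O, Odd (orderOf x) := fun x hx => oo.of_dvd_nat (orderOf_dvd_natCard _ hx)
  haveI : Fact (Nat.Prime p) := ⟨h.pp⟩
  haveI : IsCyclic A := isCyclic_of_prime_card cA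
  have le : A ≤ O := fun a ha => mem a (fun a' ha' => by
    letI := IsCyclic.commGroup (α := A)
    exact congrArg Subtype.val (mul_comm (⟨a', ha'⟩ : A) ⟨a, ha⟩))
    (po.of_dvd_nat (cA ▸ orderOf_dvd_natCard _ ha))
  have nm : Nm A ≤ Nm O := fun g hg => mem_normalizer_fintype fun x hx => by
    refine mem _ (fun a ha => ?_) ?_
    · have := ct hx _ ((mem_normalizer_iff''.1 hg a).1 ha)
      calc a * (g * x * g⁻¹) = g * (g⁻¹ * a * g * x) * g⁻¹ := by group
        _ = g * x * g⁻¹ * a := by rw [this]; group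
    · rw [show g * x * g⁻¹ = MulAut.conj g x from rfl, MulEquiv.orderOf_eq]
      exact od x hx
  have tA : t ∈ Ct A := centralizer_le (SetLike.coe_subset_coe.2 le_sup_left) tK
  have tt : t * t = 1 := by rw [← sq, ← t2, pow_orderOf_eq_one]
  have ti : t⁻¹ = t := inv_eq_of_mul_eq_one_right tt
  have fpf : ∀ x ∈ O, (t * x * t⁻¹)⁻¹ * x ∈ A → x ∈ A := fun x hx ha => by
    generalize ea : (t * x * t⁻¹)⁻¹ * x = a at ha
    have e1 : x = t * x * t⁻¹ * a := by rw [← ea]; group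
    have e2 : a * t = t * a := tA a ha
    have e3 : a ^ 2 = 1 := by
      have : t * x * t⁻¹ = t * x * t⁻¹ * a ^ 2 := by
        calc t * x * t⁻¹ = t * (t * x * t⁻¹ * a) * t⁻¹ := by rw [← e1]
          _ = (t * t) * x * t⁻¹ * (a * t⁻¹) := by group
          _ = x * (t * t) * a := by rw [tt, ti, e2, one_mul, ← tt]; group
          _ = t * x * t⁻¹ * a * a := by rw [tt, mul_one, ← e1]
          _ = _ := by rw [sq, mul_assoc]
      exact (left_eq_mul.1 this)
    have e4 : a = 1 := orderOf_eq_one_iff.1 (Nat.eq_one_of_dvd_coprimes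
      (Nat.coprime_two_left.2 po) (orderOf_dvd_of_pow_eq_one e3)
      (cA ▸ orderOf_dvd_natCard _ ha))
    rw [e4, mul_one, eq_mul_inv_iff_mul_eq] at e1
    have xN := tiN t tK (by rintro rfl; simp at t2) x
      (by rw [e1, mul_inv_cancel_right]; exact tK)
    obtain ⟨k, hk, c, hc, rfl⟩ := CM x (ct hx) xN
    have k1 : k ∈ zpowers t := tc k hk (mul_right_cancel (b := c) (by
      rw [mul_assoc k t, ← tA c hc, ← mul_assoc, e1, mul_assoc]))
    have k2 : k = 1 := orderOf_eq_one_iff.1 (Nat.eq_one_of_dvd_coprimes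
      (Nat.coprime_two_left.2 (od k ((O.mul_mem_cancel_right (le hc)).1 hx)))
      (t2 ▸ orderOf_dvd_of_mem_zpowers k1) dvd_rfl)
    rwa [k2, one_mul]
  have tO : t ∈ Nm O := nm (centralizer_le_normalizer _ tA)
  haveI : (A.subgroupOf O).Normal := (normal_subgroupOf_iff_le_normalizer le).2
    (ct.trans (centralizer_le_normalizer _))
  let ψ : O →* O := (O.normalizerMonoidHom ⟨t, tO⟩).toMonoidHom
  have ψe : ∀ x : O, (ψ x : G) = t * x * t⁻¹ := fun x => rfl
  let φ := QuotientGroup.map (A.subgroupOf O) (A.subgroupOf O) ψ fun x hx => by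
    change (ψ x : G) ∈ A
    rw [ψe, ← tA x hx, mul_inv_cancel_right]
    exact hx
  have hφ : MonoidHom.FixedPointFree φ := fun q => QuotientGroup.induction_on q fun x hx =>
    (QuotientGroup.eq_one_iff _).2 (fpf x x.2 ((QuotientGroup.eq (s := A.subgroupOf O) (a := ψ x)).1 hx))
  have h2 : Function.Involutive φ := fun q => QuotientGroup.induction_on q fun x =>
    congrArg QuotientGroup.mk (Subtype.ext (by
      rw [ψe, ψe, ti]
      calc t * (t * x * t) * t = t * t * x * (t * t) := by group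
        _ = x := by rw [tt, one_mul, mul_one]))
  refine ⟨O, le, ct, nm, by rw [cN, hC], oo, mem, fun x hx => ?_, fun x hx y hy => ?_⟩
  · have := congrFun (hφ.coe_eq_inv_of_involutive h2) (QuotientGroup.mk ⟨x, hx⟩)
    exact (QuotientGroup.eq_one_iff (N := A.subgroupOf O) (ψ ⟨x, hx⟩ * (⟨x, hx⟩ : O))).1
      (eq_inv_iff_mul_eq_one.1 this)
  · have := hφ.commute_all_of_involutive h2 (QuotientGroup.mk ⟨x, hx⟩) (QuotientGroup.mk ⟨y, hy⟩)
    exact (QuotientGroup.eq_one_iff (N := A.subgroupOf O)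
      ((⟨x, hx⟩ : O) * (⟨y, hy⟩ : O) * (⟨x, hx⟩ : O)⁻¹ * (⟨y, hy⟩ : O)⁻¹)).1
      (commutatorElement_eq_one_iff_commute.2 this)

end Cfsg.Agent.H14.CyN44
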