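import Mathlib
import Cfsg.Agent.H57.TI3
import Cfsg.Agent.H20.SpCl
import Cfsg.Agent.H20.Tau
import Cfsg.Agent.H14.InduceChar
import Cfsg.Agent.H11.Isometry
import Cfsg.Agent.H11.Kernel

/-!
A normality criterion for an elementary abelian Sylow `3`-subgroup with trivial intersections
(the method of Herzog: products of two elements of order three having order three).
-/

set_option autoImplicit false
set_option linter.unusedSectionVars false
set_option linter.style.haveILetI false

namespace Cfsg.Agent.H14.CC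

open Cfsg Cfsg.Agent.H11 Cfsg.Agent.H20 Subgroup Cfsg.Agent.H57 Cfsg.Agent.H63
open scoped ComplexConjugate

theorem exists_lin {A : Type*} [Group A] [Finite A] (hc : ∀ a b : A, a * b = b * a) {a : A}
    (ha : a ≠ 1) : ∃ φ : A →* ℂˣ, φ a ≠ 1 := by
  letI : CommGroup A := { (inferInstance : Group A) with mul_comm := hc }
  exact CommGroup.exists_apply_ne_one_of_hasEnoughRootsOfUnity A ℂ ha

variable {G : Type*} [Group G]

/-- conjugation by an element of the normaliser -/
def cn (P : Subgroup G) (n : N[P]) : P →* P where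
  toFun s := ⟨n * s * n⁻¹, (mem_normalizer_iff.1 n.2 s).1 s.2⟩
  map_one' := Subtype.ext (by simp)
  map_mul' s t := Subtype.ext (by simp)

theorem cn_of_mem {P : Subgroup G} (hc : IsMulCommutative P) {n : N[P]} (hn : (n : G) ∈ P) (s : P) :
    cn P n s = s := Subtype.ext (by
  show (n : G) * s * (n : G)⁻¹ = s
  rw [H67.comm_of_isMulCommutative hc hn s.2, mul_inv_cancel_right])

variable [Fintype G]

theorem sum_ext {P : Sylow 3 G} (h : TIS P) [Fintype N[(P : Subgroup G)]] (f : G → ℂ) {s : G}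
    (hs : s ∈ (P : Subgroup G)) (h1 : s ≠ 1) (hf : ∀ x : G, x * s * x⁻¹ ∉ (P : Subgroup G) → f x = 0) :
    ∑ x : G, f x = ∑ n : N[(P : Subgroup G)], f n := by
  classical
  rw [← Finset.sum_subtype (Finset.univ.filter (· ∈ N[(P : Subgroup G)])) (by simp) f]
  refine (Finset.sum_subset (Finset.subset_univ _) fun x _ hx => hf x fun h2 => hx ?_).symm
  simpa using h.mem_normalizer hs h1 h2

theorem normal {P : Sylow 3 G} (h : TIS P) (he : ∀ s ∈ (P : Subgroup G), s ^ 3 = 1)
    {B : Subgroup G} (hB : B < P) (hB1 : B ≠ ⊥)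
    (hBN : ∀ n ∈ N[(P : Subgroup G)], ∀ b ∈ B, n * b * n⁻¹ ∈ B)
    (hC : ∀ b ∈ B, b ≠ 1 → C1[b] ≤ P) : (P : Subgroup G).Normal := by
  classical
  haveI : Fact (Nat.Prime 3) := ⟨Nat.prime_three⟩
  haveI := Fintype.ofFinite (P : Subgroup G)
  haveI := Fintype.ofFinite B
  haveI := Fintype.ofFinite N[(P : Subgroup G)]
  have hc : ∀ a b : (P : Subgroup G), a * b = b * a := fun a b =>
    Subtype.ext (H67.comm_of_isMulCommutative h.comm a.2 b.2)
  obtain ⟨b0, hb0, b01⟩ := (bot_or_exists_ne_one B).resolve_left hB1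
  obtain ⟨φ, hφ⟩ := exists_lin hc (a := ⟨b0, hB.le hb0⟩) fun e => b01 (congrArg Subtype.val e)
  obtain ⟨a0, ha0, ha1⟩ := SetLike.exists_of_lt hB
  haveI : (B.subgroupOf P).Normal := ⟨fun x hx g => by rwa [hc g, mul_inv_cancel_right]⟩
  obtain ⟨ψ0, hψ0⟩ := exists_lin (A := (P : Subgroup G) ⧸ B.subgroupOf P) (fun a b => by
    obtain ⟨a, rfl⟩ := QuotientGroup.mk_surjective a
    obtain ⟨b, rfl⟩ := QuotientGroup.mk_surjective b
    rw [← QuotientGroup.mk_mul, hc, QuotientGroup.mk_mul]) (a := (⟨a0, ha0⟩ : (P : Subgroup G)))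
    fun e => ha1 ((QuotientGroup.eq_one_iff (N := B.subgroupOf P) _).1 e)
  set ψ := ψ0.comp (QuotientGroup.mk' _) with hψd
  have hψ : ∀ b : (P : Subgroup G), (b : G) ∈ B → ψ b = 1 := fun b hb => by
    rw [hψd, MonoidHom.comp_apply, QuotientGroup.mk'_apply,
      (QuotientGroup.eq_one_iff (N := B.subgroupOf P) _).2 hb, map_one]
  have hne : φ ≠ φ * ψ := fun e => hψ0 (by
    have := DFunLike.congr_fun e ⟨a0, ha0⟩
    rwa [MonoidHom.mul_apply, left_eq_mul] at this)
  set c := cn (P : Subgroup G) with hcd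
  -- the key rigidity
  have key : ∀ n : N[(P : Subgroup G)], (∀ b : (P : Subgroup G), (b : G) ∈ B → φ (c n b) = φ b) →
      (n : G) ∈ (P : Subgroup G) := fun n hn => by
    by_contra hnP
    let f : B → B := fun b => ⟨(n : G) * b * (n : G)⁻¹ * (b : G)⁻¹,
      mul_mem (hBN n n.2 b b.2) (inv_mem b.2)⟩
    have hf : Function.Injective f := fun b d e => by
      by_contra hbc
      have e1 : (n : G) * b * (n : G)⁻¹ * (b : G)⁻¹ = (n : G) * d * (n : G)⁻¹ * (d : G)⁻¹ :=
        congrArg Subtype.val e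
      refine hnP (hC ((d : G)⁻¹ * b) (mul_mem (inv_mem d.2) b.2)
        (fun e => hbc (Subtype.ext (inv_mul_eq_one.1 e).symm)) (mem_centralizer_singleton_iff.2 ?_))
      calc (n : G) * ((d : G)⁻¹ * b) =
          ((n : G) * d * (n : G)⁻¹)⁻¹ * ((n : G) * b * (n : G)⁻¹ * (b : G)⁻¹) * b * n := by group
        _ = (d : G)⁻¹ * b * n := by rw [e1]; group
    obtain ⟨b, hb⟩ := (Finite.injective_iff_surjective.1 hf) ⟨b0, hb0⟩
    refine hφ ?_
    rw [show (⟨b0, hB.le hb0⟩ : (P : Subgroup G)) =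
      c n ⟨b, hB.le b.2⟩ * (⟨b, hB.le b.2⟩ : (P : Subgroup G))⁻¹ from
      Subtype.ext (congrArg Subtype.val hb).symm, map_mul, hn _ b.2, map_inv, mul_inv_cancel]
  have hcB : ∀ (n : N[(P : Subgroup G)]) (b : (P : Subgroup G)), (b : G) ∈ B →
      ((c n b : (P : Subgroup G)) : G) ∈ B := fun n b hb => hBN n n.2 b hb
  have hcP : ∀ n : N[(P : Subgroup G)], (n : G) ∈ (P : Subgroup G) → c n = MonoidHom.id _ :=
    fun n hn => MonoidHom.ext (cn_of_mem h.comm hn)
  set δ : ↥(P : Subgroup G) → ℂ := lin φ - lin (φ * ψ) with hδ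
  set Θ := indFun (P : Subgroup G) δ with hΘ
  have hP0 := card_subgroup_ne_zero (P : Subgroup G)
  have hG0 := card_group_ne_zero G
  have δB : ∀ b : (P : Subgroup G), (b : G) ∈ B → δ b = 0 := fun b hb => by simp [hδ, lin, hψ b hb]
  have hval : ∀ s : (P : Subgroup G), (Nat.card (P : Subgroup G) : ℂ) * Θ s =
      ∑ n : N[(P : Subgroup G)], δ (c n s) := fun s => by
    by_cases h1 : s = 1
    · subst h1
      simp [hΘ, indFun_one, δB 1 (one_mem _)]
    rw [hΘ, indFun_apply', ← mul_assoc, mul_inv_cancel₀ hP0, one_mul,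
      sum_ext h _ s.2 (fun e => h1 (Subtype.ext e)) fun x hx => extendByZero_of_not_mem _ _ hx]
    exact Finset.sum_congr rfl fun n _ => extendByZero_of_mem _ _ _
  have ΘB : ∀ b ∈ B, Θ b = 0 := fun b hb => by
    have := hval ⟨b, hB.le hb⟩
    rw [Finset.sum_eq_zero fun n _ => δB _ (hcB n _ hb)] at this
    exact (mul_eq_zero.1 this).resolve_left hP0
  have hres : (fun s : (P : Subgroup G) => Θ s) = (Nat.card (P : Subgroup G) : ℂ)⁻¹ •
      ∑ n : N[(P : Subgroup G)], (lin (φ.comp (c n)) - lin ((φ * ψ).comp (c n))) := by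
    funext s
    rw [Pi.smul_apply, Finset.sum_apply, smul_eq_mul, eq_inv_mul_iff_mul_eq₀ hP0, hval]
    rfl
  have hcount : ∀ y : ℂ, ∑ n : N[(P : Subgroup G)], (if (n : G) ∈ (P : Subgroup G) then y else 0) =
      Nat.card (P : Subgroup G) * y := fun y => by
    rw [← Finset.sum_filter, Finset.sum_const, nsmul_eq_mul, ← Fintype.card_subtype,
      ← Nat.card_eq_fintype_card]
    congr 2
    exact Nat.card_congr (subgroupOfEquivOfLe le_normalizer).toEquiv
  have hcl : IsClassFunction G Θ := indFun_isClassFunction (P : Subgroup G) δ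
  have hn2 : classInner δ (fun s : (P : Subgroup G) => Θ s) = 2 := by
    rw [hres, classInner_smul_right, classInner_sum_right,
      Finset.sum_congr rfl (g := fun n : N[(P : Subgroup G)] =>
        if (n : G) ∈ (P : Subgroup G) then (2 : ℂ) else 0) fun n _ => ?_, hcount]
    · simp only [map_inv₀, map_natCast]
      field_simp
    simp only [hδ, classInner_sub_left, classInner_sub_right, classInner_lin]
    by_cases hn : (n : G) ∈ (P : Subgroup G)
    · simp only [hcP n hn, MonoidHom.comp_id, if_true, if_neg hne, if_neg hne.symm, if_pos hn]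
      norm_num
    · have k : ∀ α β : ↥(P : Subgroup G) →* ℂˣ, (∀ b : (P : Subgroup G), (b : G) ∈ B → α b = φ b) →
          (∀ b : (P : Subgroup G), (b : G) ∈ B → β b = φ b) → α ≠ β.comp (c n) :=
        fun α β hα hβ e => hn (key n fun b hb => by
          rw [← hβ _ (hcB n b hb), ← hα b hb, e]; rfl)
      have k1 : ∀ b : (P : Subgroup G), (b : G) ∈ B → (φ * ψ) b = φ b := fun b hb => by
        rw [MonoidHom.mul_apply, hψ b hb, mul_one]
      have k0 : ∀ b : (P : Subgroup G), (b : G) ∈ B → φ b = φ b := fun _ _ => rfl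
      simp only [if_neg (k _ _ k0 k0), if_neg (k _ _ k0 k1), if_neg (k _ _ k1 k0),
        if_neg (k _ _ k1 k1), if_neg hn]
      norm_num
  obtain ⟨a, ha⟩ : ∃ a : (P : Subgroup G), Θ a ≠ 0 := by
    by_contra hh
    push Not at hh
    rw [show (fun s : (P : Subgroup G) => Θ s) = 0 from funext hh, classInner_zero_right] at hn2
    norm_num at hn2
  obtain ⟨χ₁, χ₂, i₁, i₂, -, h12⟩ := exists_sub_of_classInner_self_eq_two (φ := Θ)
    (IsGeneralizedCharacter.indFun _ (isGen_sub (isGen_of_irr (isIrrCharacter_monoidHom φ))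
      (isGen_of_irr (isIrrCharacter_monoidHom (φ * ψ)))))
    (by rw [← hn2]; exact classInner_indFun_left _ _ hcl) (ΘB 1 (one_mem _))
  have s₁ : H6.Sgn χ₁ := ⟨isGen_of_irr i₁, classInner_irr_self i₁⟩
  have s₂ : H6.Sgn χ₂ := ⟨isGen_of_irr i₂, classInner_irr_self i₂⟩
  obtain ⟨d, d0, hd⟩ := exists_pos_degree i₁
  have hd0 : (d : ℂ) ≠ 0 := by exact_mod_cast d0.ne'
  have h12' : ∀ g, Θ g = χ₁ g - χ₂ g := fun g => by rw [h12]; rfl
  have χB : ∀ b ∈ B, χ₂ b = χ₁ b := fun b hb => by
    have := ΘB b hb; rw [h12'] at this; linear_combination -this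
  have a1 : (a : G) ≠ 1 := fun e => ha (e ▸ ΘB 1 (one_mem _))
  have main : ∀ b : (P : Subgroup G), (b : G) ∈ B → b ≠ 1 →
      (Nat.card G : ℂ) * χ₁ b = d * ∑ n : N[(P : Subgroup G)], (φ (c n b) : ℂ) := fun b hb b1 => by
    have b1' : (b : G) ≠ 1 := fun e => b1 (Subtype.ext e)
    set E := extendByZero (P : Subgroup G) δ with hE
    have h1 : ∀ g : G, ∑ x : G, ∑ y : G, E (g * (x * a * x⁻¹ * (y * b * y⁻¹)) * g⁻¹) =
        ∑ x : G, ∑ y : G, E (x * a * x⁻¹ * (y * b * y⁻¹)) := fun g => by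
      refine Fintype.sum_equiv (Equiv.mulLeft g) _ _ fun x => ?_
      refine Fintype.sum_equiv (Equiv.mulLeft g) _ _ fun y => ?_
      congr 1; simp only [Equiv.coe_mulLeft]; group
    have h2 : ∀ x y : G, ¬ (x * a * x⁻¹ ∈ (P : Subgroup G) ∧ y * b * y⁻¹ ∈ (P : Subgroup G)) →
        E (x * a * x⁻¹ * (y * b * y⁻¹)) = 0 := fun x y hxy => by
      by_cases h3 : x * a * x⁻¹ * (y * b * y⁻¹) ∈ (P : Subgroup G)
      · by_cases h4 : x * a * x⁻¹ * (y * b * y⁻¹) = 1
        · rw [hE, extendByZero_of_mem _ _ h3]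
          exact δB _ (show _ * _ ∈ B by rw [h4]; exact one_mem _)
        rcases h.tri_mem (by rw [conj_pow, he a a.2]; simp) (by rw [conj_pow, he b b.2]; simp)
          (he _ h3) h3 h4 with h5 | h5
        · obtain ⟨k, hk⟩ := isConj_iff.1 h5.1
          refine (ha ?_).elim
          rw [← hcl a x, ← hcl _ k, hk, hcl b y, ΘB b hb]
        · exact (hxy h5).elim
      · exact extendByZero_of_not_mem _ _ h3
    have h3 : ∑ x : G, ∑ y : G, E (x * a * x⁻¹ * (y * b * y⁻¹)) =
        Nat.card (P : Subgroup G) * Θ a * ∑ n : N[(P : Subgroup G)], (φ (c n b) : ℂ) := by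
      rw [sum_ext h _ a.2 a1 fun x hx => Finset.sum_eq_zero fun y _ => h2 x y fun h => hx h.1, hval,
        Finset.sum_mul_sum]
      refine Finset.sum_congr rfl fun x _ => ?_
      rw [sum_ext h _ b.2 b1' fun y hy => h2 x y fun h => hy h.2]
      refine Finset.sum_congr rfl fun y _ => ?_
      rw [show (x : G) * a * (x : G)⁻¹ * ((y : G) * b * (y : G)⁻¹) = (c x a * c y b : (P : Subgroup G))
        from rfl, hE, extendByZero_coe]
      simp [hδ, lin, hψ _ (hcB y b hb)]
      ring
    have h4 : (Nat.card (P : Subgroup G) : ℂ) * ∑ x : G, ∑ y : G, Θ (x * a * x⁻¹ * (y * b * y⁻¹)) =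
        Nat.card G * ∑ x : G, ∑ y : G, E (x * a * x⁻¹ * (y * b * y⁻¹)) := by
      simp only [hΘ, indFun_apply', Finset.mul_sum, ← mul_assoc (Nat.card (P : Subgroup G) : ℂ),
        mul_inv_cancel₀ hP0, one_mul]
      rw [show (∑ x : G, ∑ y : G, ∑ g : G, E (g * (x * a * x⁻¹ * (y * b * y⁻¹)) * g⁻¹)) =
        ∑ g : G, ∑ x : G, ∑ y : G, E (g * (x * a * x⁻¹ * (y * b * y⁻¹)) * g⁻¹) from by
          rw [Finset.sum_congr rfl fun x _ => Finset.sum_comm, Finset.sum_comm]]
      simp only [h1, Finset.sum_const, Finset.card_univ, nsmul_eq_mul, Nat.card_eq_fintype_card,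
        Finset.mul_sum]
    rw [h3] at h4
    simp only [h12' (_ * _), Finset.sum_sub_distrib, SC.sgn_sum s₁, SC.sgn_sum s₂, χB _ hb,
      χB 1 (one_mem _), hd] at h4
    rw [h12'] at ha
    rw [h12'] at h4
    field_simp at h4
    exact h4
  set ι : B →* (P : Subgroup G) := inclusion hB.le
  have hφι : φ.comp ι ≠ 1 := fun e => hφ (DFunLike.congr_fun e ⟨b0, hb0⟩)
  obtain ⟨k, hk⟩ := exists_int_classInner (isGen_restrict (isGen_of_irr i₁) B)
    (isGen_sub (isGen_of_irr (isIrrCharacter_monoidHom (φ.comp ι))) isGen_one)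
  have h5 : (Nat.card G : ℂ) * k = d * Nat.card (P : Subgroup G) := by
    have h6 : classInner (∑ n : N[(P : Subgroup G)], lin ((φ.comp (c n)).comp ι))
        (lin (φ.comp ι) - lin 1) = Nat.card (P : Subgroup G) := by
      rw [classInner_sum_left, Finset.sum_congr rfl (g := fun n : N[(P : Subgroup G)] =>
        if (n : G) ∈ (P : Subgroup G) then (1 : ℂ) else 0) fun n _ => ?_, hcount, mul_one]
      have k1 : (φ.comp (c n)).comp ι ≠ 1 := fun e => hφ (by
        have := DFunLike.congr_fun e ⟨_, hcB n⁻¹ ⟨b0, hB.le hb0⟩ hb0⟩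
        rw [MonoidHom.one_apply] at this
        rw [← this]
        refine congrArg φ (Subtype.ext ?_)
        show b0 = (n : G) * ((n : G)⁻¹ * b0 * (n : G)⁻¹⁻¹) * (n : G)⁻¹
        group)
      simp only [classInner_sub_right, classInner_lin, if_neg k1, sub_zero]
      by_cases hn : (n : G) ∈ (P : Subgroup G)
      · simp [hcP n hn, hn]
      · rw [if_neg hn, if_neg fun e => hn (key n fun b hb => DFunLike.congr_fun e ⟨b, hb⟩)]
    rw [← hk, ← h6, ← classInner_smul_left, ← classInner_smul_left, classInner_def, classInner_def]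
    congr 1
    refine Finset.sum_congr rfl fun b _ => ?_
    by_cases b1 : b = 1
    · subst b1; simp [lin]
    · have := main (ι b) b.2 fun e => b1 (inclusion_injective hB.le (e.trans (map_one ι).symm))
      simp only [Pi.smul_apply, smul_eq_mul, Finset.sum_apply]
      exact congrArg (· * _) this
  have h6 : (Nat.card G : ℤ) * k = d * Nat.card (P : Subgroup G) := by exact_mod_cast h5
  have h7 : d ^ 2 ≤ Nat.card G :=
    (degree_sq_le_index_center i₁ hd).trans (Nat.le_of_dvd Nat.card_pos (index_dvd_card _))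
  have h8 := h.card_sylow_mod
  have h9 : Nat.card (Sylow 3 G) * Nat.card (P : Subgroup G) ≤ Nat.card G := by
    rw [P.card_eq_index_normalizer, ← card_mul_index N[(P : Subgroup G)], mul_comm]
    exact Nat.mul_le_mul_right _ (card_le_of_le le_normalizer)
  by_contra hn
  have h10 : Nat.card (Sylow 3 G) ≠ 1 := fun e => hn (by
    rw [P.card_eq_index_normalizer, index_eq_one] at e
    exact normalizer_eq_top_iff.1 e)
  have h11 : 0 < Nat.card (Sylow 3 G) := Nat.card_pos
  have h12 : Nat.card (P : Subgroup G) < Nat.card (Sylow 3 G) := by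
    have := Nat.le_of_dvd (by omega) ((Nat.modEq_iff_dvd' h11).1 h8.symm)
    omega
  have h13 : 0 < Nat.card (P : Subgroup G) := Nat.card_pos
  have h14 : 0 < Nat.card G := Nat.card_pos
  generalize Nat.card (P : Subgroup G) = p at *
  generalize Nat.card (Sylow 3 G) = s at *
  generalize Nat.card G = g at *
  have h15 : 0 < k := by
    by_contra hk
    have : (g : ℤ) * k ≤ 0 := mul_nonpos_of_nonneg_of_nonpos (by positivity) (by omega)
    have : (0 : ℤ) < d * p := by positivity
    omega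
  have h16 : g ≤ d * p := by
    have : (g : ℤ) * 1 ≤ g * k := mul_le_mul_of_nonneg_left h15 (by positivity)
    zify; omega
  have h17 : p * p < g := lt_of_lt_of_le (Nat.mul_lt_mul_of_pos_right h12 h13) h9
  nlinarith [Nat.mul_le_mul h16 h16, Nat.mul_le_mul_right (p * p) h7]

end Cfsg.Agent.H14.CC
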