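import Mathlib
import Cfsg.Agent.H63.GvDefs

/-! Project CY, route GV, piece O2C. -/

set_option autoImplicit false

namespace Cfsg.Agent.H14.CyO2c

open Subgroup MulAction Cfsg.Agent.H11.Cy Cfsg.Agent.H45.Iv Cfsg.Agent.H63.Gv
open scoped commutatorElement

section
variable {G : Type} [Group G] {C B : Subgroup G}

theorem mul_c {g h a b : G} (n : ∀ c ∈ C, a * c * a⁻¹ ∈ C) (h1 : g * a⁻¹ ∈ C)
    (h2 : h * b⁻¹ ∈ C) : g * h * (a * b)⁻¹ ∈ C := by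
  have := mul_mem h1 (n _ h2)
  convert this using 1
  group

theorem pow_c {g a : G} (n : ∀ c ∈ C, a * c * a⁻¹ ∈ C) (h1 : g * a⁻¹ ∈ C) (k : ℕ) :
    g ^ k * (a ^ k)⁻¹ ∈ C := by
  induction k with
  | zero => simp
  | succ k ih => rw [pow_succ', pow_succ']; exact mul_c n h1 ih

theorem sup_dec (n : ∀ a ∈ B, ∀ c ∈ C, a * c * a⁻¹ ∈ C) {g : G} (hg : g ∈ C ⊔ B) :
    ∃ a ∈ B, g * a⁻¹ ∈ C := by
  let D : Subgroup G :=
    { carrier := {g | ∃ a ∈ B, g * a⁻¹ ∈ C}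
      one_mem' := ⟨1, one_mem _, by simp⟩
      mul_mem' := by
        rintro g h ⟨a, ha, h1⟩ ⟨b, hb, h2⟩
        exact ⟨a * b, mul_mem ha hb, mul_c (n a ha) h1 h2⟩
      inv_mem' := by
        rintro g ⟨a, ha, h1⟩
        refine ⟨a⁻¹, inv_mem ha, ?_⟩
        have := n _ (inv_mem ha) _ (inv_mem h1)
        convert this using 1
        group }
  exact (sup_le (fun c hc => ⟨1, one_mem _, by simpa using hc⟩)
    (fun a ha => ⟨a, ha, by simp⟩) : C ⊔ B ≤ D) hg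

end

/-- **O2C** -/
theorem o2c : O2cStmt := by
  intro G _ _ Ω _ _ p A h cx ab P mb mk blk H N0 hN0
  have k := cx.sk
  haveI := Fact.mk h.pp
  have AM : ∀ w ∈ P, A w ≤ Ms A P := fun w hw => le_iSup₂_of_le w hw le_rfl
  have sup2 : ∀ N N', N2 A P N → N2 A P N' → N2 A P (N ⊔ N') := by
    rintro N N' ⟨a1, a2, a3⟩ ⟨b1, b2, b3⟩
    refine ⟨a1.to_sup_of_normal_right' b1 ?_, sup_le a2 b2, fun m hm y hy => ?_⟩
    · intro g hg
      rw [mem_normalizer_iff]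
      intro y
      exact ⟨b3 g (a2 hg) y, fun e => by
        simpa [mul_assoc] using b3 g⁻¹ (inv_mem (a2 hg)) _ e⟩
    · exact (sup_le (fun y hy => mem_sup_left (a3 m hm y hy))
        (fun y hy => mem_sup_right (b3 m hm y hy)) :
          N ⊔ N' ≤ (N ⊔ N').comap (MulAut.conj m).toMonoidHom) hy
  obtain ⟨N, le0, hN⟩ := (Set.toFinite {N | N2 A P N}).exists_le_maximal hN0
  have mx : ∀ N', N2 A P N' → N' ≤ N := fun N' h' =>
    le_sup_right.trans (hN.2 (sup2 N N' hN.1 h') le_sup_left)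
  obtain ⟨ns, cm⟩ := H N hN.1
  obtain ⟨n2, nM, nn⟩ := hN.1
  refine le0.trans ?_
  by_contra c0
  obtain ⟨x, hx, nx⟩ : ∃ x ∈ P, ¬ N ≤ centralizer (A x : Set G) := by
    by_contra c
    push Not at c
    exact c0 fun n hn => (k.cs P n).2 fun w hw => c w hw hn
  have RM : ∀ u ∈ P, ∀ v ∈ P, Rl A u v ≤ Ms A P := fun u hu v hv =>
    (k.fle P u hu v hv).2.trans (mk.tle P)
  have cz : ∀ z ∈ Cs A P, ∀ g ∈ Ms A P, g * z = z * g := fun z hz g hg =>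
    mem_centralizer_iff.1 hz g hg
  have tr : ∀ u ∈ P, ∀ v ∈ P, ∀ m1 ∈ ⁅N, A v⁆, ∃ z ∈ Cs A P, ∃ m ∈ ⁅N, A u⁆, m1 = z * m := by
    intro u hu v hv m1 h1
    by_cases e : u = v
    · exact ⟨1, one_mem _, m1, e ▸ h1, by simp⟩
    obtain ⟨r, hr, e1⟩ := (cx.ls u v e).1.tr v (k.ln u v).2
    have := ns.cj r⁻¹ (inv_mem (RM u hu v hv hr)) v hv m1 h1
    rw [inv_smul_eq_iff.2 e1.symm] at this
    exact ⟨_, cm u hu v hv e _ this r hr, _, this, by rw [commutatorElement_def]; group⟩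
  have C1 : ∀ c ∈ Ms A P, ∀ u ∈ P, (∀ m ∈ ⁅N, A u⁆, m * c = c * m) →
      ∀ v ∈ P, ∀ m ∈ ⁅N, A v⁆, m * c = c * m := by
    intro c hc u hu e v hv m1 h1
    obtain ⟨z, hz, m, hm, rfl⟩ := tr u hu v hv m1 h1
    rw [mul_assoc, e m hm, ← mul_assoc, ← cz z hz c hc, mul_assoc]
  obtain ⟨C, hC⟩ : ∃ C : Subgroup G, ∀ c, c ∈ C ↔ c ∈ Ms A P ∧ ∀ m ∈ ⁅N, A x⁆, m * c = c * m :=
    ⟨Ms A P ⊓ centralizer (⁅N, A x⁆ : Subgroup G), fun c => Iff.rfl⟩
  have Cin : ∀ c ∈ Ms A P, ∀ u ∈ P, (∀ m ∈ ⁅N, A u⁆, m * c = c * m) → c ∈ C :=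
    fun c hc u hu e => (hC c).2 ⟨hc, C1 c hc u hu e x hx⟩
  have Cout : ∀ c ∈ C, ∀ v ∈ P, ∀ m ∈ ⁅N, A v⁆, m * c = c * m := fun c hc =>
    C1 c ((hC c).1 hc).1 x hx ((hC c).1 hc).2
  have Cn : ∀ g ∈ Ms A P, ∀ c ∈ C, g * c * g⁻¹ ∈ C := by
    intro g hg c hc
    refine (hC _).2 ⟨mul_mem (mul_mem hg ((hC c).1 hc).1) (inv_mem hg), fun m hm => ?_⟩
    have := Cout c hc _ (k.inv P mb.1 _ (inv_mem hg) x hx) _ (ns.cj _ (inv_mem hg) x hx m hm)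
    calc m * (g * c * g⁻¹) = g * (g⁻¹ * m * g⁻¹⁻¹ * c) * g⁻¹ := by group
      _ = _ := by rw [this]; group
  have dec : ∀ w ∈ P, ⁅N, A w⁆ ≤ centralizer (A w : Set G) → N ≤ centralizer (A w : Set G) := by
    intro w hw e n hn
    obtain ⟨m, hm, c, -, hc, rfl⟩ := ns.dec w hw n hn
    exact mul_mem (e hm) hc
  have nc : ∀ w ∈ P, ¬ N ≤ centralizer (A w : Set G) := by
    intro w hw e
    refine nx (dec x hx fun m1 h1 => ?_)
    obtain ⟨z, hz, m, hm, rfl⟩ := tr w hw x hx m1 h1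
    rw [commutator_eq_bot_iff_le_centralizer.2 e, mem_bot] at hm
    rw [hm, mul_one]
    exact (k.cs P z).1 hz x hx
  have oa : ∀ w, ∀ a ∈ A w, a ≠ 1 → orderOf a = p := by
    intro w a ha a1
    refine orderOf_eq_prime ?_ a1
    have := pow_card_eq_one' (x := (⟨a, ha⟩ : A w))
    rw [h.card] at this
    exact congrArg Subtype.val this
  have gen : ∀ w, ∀ a ∈ A w, a ≠ 1 → ∀ b ∈ A w, ∃ n : ℕ, a ^ n = b := by
    intro w a ha a1 b hb
    rw [← eq_of_le_of_card_ge (zpowers_le.2 ha) (by rw [h.card, Nat.card_zpowers, oa w a ha a1]),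
      ← mem_powers_iff_mem_zpowers] at hb
    exact hb
  have ex : ∀ w, ∃ a ∈ A w, a ≠ 1 := by
    intro w
    by_contra c
    push Not at c
    have := h.card w
    rw [(eq_bot_iff_forall _).2 c, card_bot] at this
    exact h.pp.one_lt.ne this
  have odd : ∀ w, ∀ a ∈ A w, ∀ j : ℕ, a ^ 2 ^ j = 1 → a = 1 := by
    intro w a ha j e
    by_contra a1
    have := oa w a ha a1 ▸ orderOf_dvd_of_pow_eq_one e
    exact cx.p2 ((Nat.prime_dvd_prime_iff_eq h.pp Nat.prime_two).1 (h.pp.dvd_of_dvd_pow this))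
  have two : ∀ n ∈ N, ∃ j : ℕ, n ^ 2 ^ j = 1 := fun n hn => by
    obtain ⟨j, e⟩ := n2 ⟨n, hn⟩
    exact ⟨j, congrArg Subtype.val e⟩
  have AC : ∀ w ∈ P, ∀ a ∈ A w, a ∈ C → a = 1 := by
    intro w hw a ha hc
    by_contra a1
    refine nc w hw (dec w hw fun m hm => mem_centralizer_iff.2 fun b hb => ?_)
    obtain ⟨n, rfl⟩ := gen w a ha a1 b hb
    exact (Cout _ (pow_mem hc n) w hw m hm).symm
  have key : ∀ u ∈ P, ∀ e ∈ ⁅N, A u⁆, e ∈ C → e • u = u := by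
    intro u hu e h1 h2
    refine (cx.ep.nA u e).1 (centralizer_le_normalizer _ (ab u (⁅N, A u⁆ ⊓ C)
      (n2.to_le (inf_le_left.trans (ns.le u hu))) (fun s hs t ht => Cout t ht.2 u hu s hs.1)
      (fun a ha s hs => ⟨?_, Cn a (AM u hu ha) s hs.2⟩) e ⟨h1, h2⟩))
    have := ns.cj a (AM u hu ha) u hu s hs.1
    rwa [h.fix u a ha] at this
  have sd : ∀ u ∈ P, ∀ g ∈ C ⊔ A u, ∃ a ∈ A u, g * a⁻¹ ∈ C := fun u hu g hg =>
    sup_dec (fun a ha => Cn a (AM u hu ha)) hg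
  have prop : ∀ u ∈ P, ∀ n ∈ N, A (n • u) ≤ C ⊔ A u → n • u = u := by
    intro u hu n hn e
    obtain ⟨a, ha, a1⟩ := ex u
    have m1 : ⁅n, a⁆ ∈ ⁅N, A u⁆ := commutator_mem_commutator hn ha
    obtain ⟨b, hb, e1⟩ := sd u hu ⁅n, a⁆
      (mul_mem (e (h.eqv n u a ha)) (mem_sup_right (inv_mem ha)))
    obtain ⟨j, e2⟩ := two _ (ns.le u hu m1)
    have e3 := pow_c (Cn b (AM u hu hb)) e1 (2 ^ j)
    rw [e2, one_mul, inv_mem_iff] at e3
    rw [odd u b hb j (AC u hu _ (pow_mem hb _) e3), inv_one, mul_one] at e1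
    have e4 := key u hu _ m1 e1
    rw [commutatorElement_def, mul_smul, h.fix u _ (inv_mem ha), mul_smul, mul_smul,
      smul_eq_iff_eq_inv_smul] at e4
    exact (inv_smul_eq_iff.1 ((h.semi u _ a ha e4).resolve_left a1)).symm
  have fx : ∀ g ∈ C, ∀ w ∈ P, A (g • w) ≤ C ⊔ A w := by
    intro g hg w hw b hb
    have h1 := h.eqv g⁻¹ _ b hb
    rw [inv_smul_smul] at h1
    have e : b = g * (g⁻¹ * b * g⁻¹⁻¹ * g⁻¹ * (g⁻¹ * b * g⁻¹⁻¹)⁻¹) * (g⁻¹ * b * g⁻¹⁻¹) := by group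
    rw [e]
    exact mul_mem (mem_sup_left (mul_mem hg (Cn _ (AM w hw h1) _ (inv_mem hg)))) (mem_sup_right h1)
  have CM : ∀ u ∈ P, ∀ v, A v ≤ C ⊔ A u → Rl A u v ≤ C := by
    intro u hu v e
    have le : Fl A u v ≤ C ⊔ A u := sup_le le_sup_right e
    refine commutator_le.2 fun g hg g' hg' => ?_
    obtain ⟨a, ha, e1⟩ := sd u hu g (le hg)
    obtain ⟨b, hb, e2⟩ := sd u hu g' (le hg')
    have ab' : b * a = a * b := by
      obtain ⟨t, ht, t1⟩ := ex u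
      obtain ⟨i, rfl⟩ := gen u t ht t1 a ha
      obtain ⟨j, rfl⟩ := gen u t ht t1 b hb
      exact (Commute.pow_pow_self t j i).eq
    have f1 := mul_c (Cn a (AM u hu ha)) e1 e2
    have f2 := mul_c (Cn b (AM u hu hb)) e2 e1
    rw [ab'] at f2
    have := mul_mem f1 (inv_mem f2)
    convert this using 1
    rw [commutatorElement_def]; group
  have sb : ∀ u ∈ P, Sub A {v | v ∈ P ∧ A v ≤ C ⊔ A u} := fun u _ v hv w hw e z hz =>
    ⟨mb.1 v hv.1 w hw.1 e hz, le_trans hz (sup_le hv.2 hw.2)⟩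
  have bl : Blk A P fun u v => A v ≤ C ⊔ A u := by
    refine ⟨fun u _ => le_sup_right, fun u hu v hv e => ?_,
      fun u _ v _ w _ e1 e2 => le_trans e2 (sup_le le_sup_left e1), fun g hg u hu v hv e b hb => ?_,
      sb, fun u hu => mb.2.2 _ (sb u hu) (fun _ hv => hv.1) fun e => ?_,
      fun u hu v _ _ e r hr w hw => fx r (CM u hu v e hr) w hw⟩
    · obtain ⟨b, hb, b1⟩ := ex v
      obtain ⟨a, ha, e1⟩ := sd u hu b (e hb)
      have a1 : a ≠ 1 := fun e2 => b1 (AC v hv b hb (by simpa [e2] using e1))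
      intro a' ha'
      obtain ⟨n, rfl⟩ := gen u a ha a1 a' ha'
      have e2 : a ^ n = (b ^ n * (a ^ n)⁻¹)⁻¹ * b ^ n := by group
      rw [e2]
      exact mul_mem (mem_sup_left (inv_mem (pow_c (Cn a (AM u hu ha)) e1 n)))
        (mem_sup_right (pow_mem hb n))
    · have h1 := h.eqv g⁻¹ _ b hb
      rw [inv_smul_smul] at h1
      obtain ⟨a, ha, e1⟩ := sd u hu _ (e h1)
      have e2 : b = g * (g⁻¹ * b * g⁻¹⁻¹ * a⁻¹) * g⁻¹ * (g * a * g⁻¹) := by group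
      rw [e2]
      exact mul_mem (mem_sup_left (Cn g hg _ e1)) (mem_sup_right (h.eqv g u a ha))
    · refine nc u hu fun n hn => mem_centralizer_iff.2 fun a ha => ?_
      have e1 : n • u ∈ {v | v ∈ P ∧ A v ≤ C ⊔ A u} := by
        rw [e]; exact k.inv P mb.1 n (nM hn) u hu
      have e2 := h.eqv n u a ha
      rw [prop u hu n hn e1.2] at e2
      obtain ⟨j, e3⟩ := two _ (ns.le u hu (commutator_mem_commutator hn ha))
      exact (commutatorElement_eq_one_iff_mul_comm.1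
        (odd u _ (mul_mem e2 (inv_mem ha)) j e3)).symm
  obtain ⟨N1, hN1, r1⟩ := blk _ bl
  have pt : ∀ u ∈ P, ∀ v ∈ P, A v ≤ C ⊔ A u → v = u := by
    intro u hu v hv e
    by_contra c
    obtain ⟨s, hs, e1⟩ := (cx.ls u v (Ne.symm c)).1.tr v (k.ln u v).2
    exact c (e1.symm.trans (prop u hu s (mx N1 hN1 (r1 u hu v hv (Ne.symm c) e hs)) (e1.symm ▸ e)))
  refine mb.2.1 fun u hu v hv e z hz w hw => ?_
  have zC : z ∈ C := by
    refine (commutator_le.2 fun r hr s hs => ?_ : ⁅Rl A u v, Rl A u v⁆ ≤ C)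
      ((cx.ls u v e).2.2.1.zd hz)
    have rM := RM u hu v hv hr
    have sM := RM u hu v hv hs
    refine Cin _ (mul_mem (mul_mem (mul_mem rM sM) (inv_mem rM)) (inv_mem sM)) u hu fun m hm => ?_
    have mM := nM (ns.le u hu hm)
    have k1 := cm u hu v hv e m hm _ (inv_mem hr)
    have k2 := cm u hu v hv e m hm _ (inv_mem hs)
    have q1 : r⁻¹ * m = ⁅r⁻¹, m⁆ * m * r⁻¹ := by rw [commutatorElement_def]; group
    have q2 : s⁻¹ * m = ⁅s⁻¹, m⁆ * m * s⁻¹ := by rw [commutatorElement_def]; group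
    have k3 : ⁅r⁻¹, m⁆ * ⁅s⁻¹, m⁆ = ⁅s⁻¹, m⁆ * ⁅r⁻¹, m⁆ := cz _ k2 _
      (mul_mem (mul_mem (mul_mem (inv_mem rM) mM) (inv_mem (inv_mem rM))) (inv_mem mM))
    generalize ⁅r⁻¹, m⁆ = z1 at k1 q1 k3
    generalize ⁅s⁻¹, m⁆ = z2 at k2 q2 k3
    have q3 : r⁻¹ * s⁻¹ * m = z1 * z2 * m * (r⁻¹ * s⁻¹) := by
      calc r⁻¹ * s⁻¹ * m = r⁻¹ * z2 * m * s⁻¹ := by rw [mul_assoc, q2]; group
        _ = z2 * (r⁻¹ * m) * s⁻¹ := by rw [cz z2 k2 _ (inv_mem rM)]; group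
        _ = _ := by rw [q1, k3]; group
    have q4 : s⁻¹ * r⁻¹ * m = z1 * z2 * m * (s⁻¹ * r⁻¹) := by
      calc s⁻¹ * r⁻¹ * m = s⁻¹ * z1 * m * r⁻¹ := by rw [mul_assoc, q1]; group
        _ = z1 * (s⁻¹ * m) * r⁻¹ := by rw [cz z1 k1 _ (inv_mem sM)]; group
        _ = _ := by rw [q2]; group
    calc m * ⁅r, s⁆ = r * s * (s⁻¹ * r⁻¹ * m) * (r * s * r⁻¹ * s⁻¹) := by
          rw [commutatorElement_def]; group
      _ = r * s * (z1 * z2 * m * (r⁻¹ * s⁻¹)) := by rw [q4]; group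
      _ = _ := by rw [← q3, commutatorElement_def]; group
  exact pt w hw _ (k.inv P mb.1 z ((hC z).1 zC).1 w hw) (fx z zC w hw)

end Cfsg.Agent.H14.CyO2c
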