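import Mathlib
import Cfsg.Agent.H27.AltCard
import Cfsg.Agent.H27.SympSimple
import Cfsg.Agent.H28.PSL2Small
import Cfsg.Agent.H67.Hall

/-!
A coordinate model for the stabiliser of a vector in `Sp₄(F)`, which is the centraliser of a
central element of a Sylow subgroup of `PSp₄(F)` in the defining characteristic.
-/

set_option autoImplicit false
set_option linter.unusedSectionVars false
set_option linter.style.haveILetI false

namespace Cfsg.Agent.H14.SP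

open Subgroup Matrix Cfsg.Agent.H63 Cfsg.Agent.H67
open scoped MatrixGroups

/-- Heisenberg group extended by `SL₂` -/
@[ext] structure Mo (F : Type*) [Field F] where
  z : F
  x : F
  y : F
  a : F
  b : F
  c : F
  d : F
  det : a * d - b * c = 1

namespace Mo

variable {F : Type*} [Field F]

instance : Mul (Mo F) := ⟨fun m n =>
  ⟨m.z + n.z + m.x * (m.c * n.x + m.d * n.y) - m.y * (m.a * n.x + m.b * n.y),
    m.x + (m.a * n.x + m.b * n.y), m.y + (m.c * n.x + m.d * n.y),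
    m.a * n.a + m.b * n.c, m.a * n.b + m.b * n.d, m.c * n.a + m.d * n.c, m.c * n.b + m.d * n.d,
    by linear_combination (n.a * n.d - n.b * n.c) * m.det + n.det⟩⟩
instance : One (Mo F) := ⟨⟨0, 0, 0, 1, 0, 0, 1, by ring⟩⟩
instance : Inv (Mo F) := ⟨fun m => ⟨-m.z, m.b * m.y - m.d * m.x, m.c * m.x - m.a * m.y,
  m.d, -m.b, -m.c, m.a, by linear_combination m.det⟩⟩

@[simp] theorem mul_z (m n : Mo F) : (m * n).z =
  m.z + n.z + m.x * (m.c * n.x + m.d * n.y) - m.y * (m.a * n.x + m.b * n.y) := rfl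
@[simp] theorem mul_x (m n : Mo F) : (m * n).x = m.x + (m.a * n.x + m.b * n.y) := rfl
@[simp] theorem mul_y (m n : Mo F) : (m * n).y = m.y + (m.c * n.x + m.d * n.y) := rfl
@[simp] theorem mul_a (m n : Mo F) : (m * n).a = m.a * n.a + m.b * n.c := rfl
@[simp] theorem mul_b (m n : Mo F) : (m * n).b = m.a * n.b + m.b * n.d := rfl
@[simp] theorem mul_c (m n : Mo F) : (m * n).c = m.c * n.a + m.d * n.c := rfl
@[simp] theorem mul_d (m n : Mo F) : (m * n).d = m.c * n.b + m.d * n.d := rfl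
@[simp] theorem one_z : (1 : Mo F).z = 0 := rfl
@[simp] theorem one_x : (1 : Mo F).x = 0 := rfl
@[simp] theorem one_y : (1 : Mo F).y = 0 := rfl
@[simp] theorem one_a : (1 : Mo F).a = 1 := rfl
@[simp] theorem one_b : (1 : Mo F).b = 0 := rfl
@[simp] theorem one_c : (1 : Mo F).c = 0 := rfl
@[simp] theorem one_d : (1 : Mo F).d = 1 := rfl
@[simp] theorem inv_z (m : Mo F) : m⁻¹.z = -m.z := rfl
@[simp] theorem inv_x (m : Mo F) : m⁻¹.x = m.b * m.y - m.d * m.x := rfl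
@[simp] theorem inv_y (m : Mo F) : m⁻¹.y = m.c * m.x - m.a * m.y := rfl
@[simp] theorem inv_a (m : Mo F) : m⁻¹.a = m.d := rfl
@[simp] theorem inv_b (m : Mo F) : m⁻¹.b = -m.b := rfl
@[simp] theorem inv_c (m : Mo F) : m⁻¹.c = -m.c := rfl
@[simp] theorem inv_d (m : Mo F) : m⁻¹.d = m.a := rfl

instance : Group (Mo F) := Group.ofLeftAxioms
  (fun m n k => by
    ext <;> simp only [mul_z, mul_x, mul_y, mul_a, mul_b, mul_c, mul_d]
    · linear_combination (n.y * (n.a * k.x + n.b * k.y) - n.x * (n.c * k.x + n.d * k.y)) * (-m.det)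
    all_goals ring)
  (fun m => by ext <;> simp)
  (fun m => by
    ext <;> simp only [mul_z, mul_x, mul_y, mul_a, mul_b, mul_c, mul_d, inv_z, inv_x, inv_y, inv_a,
      inv_b, inv_c, inv_d, one_z, one_x, one_y, one_a, one_b, one_c, one_d]
    all_goals first | ring1 | linear_combination m.det)

/-- the Levi complement -/
def ell : SL(2, F) →* Mo F := MonoidHom.mk'
  (fun g => ⟨0, 0, 0, g 0 0, g 0 1, g 1 0, g 1 1, by rw [← det_fin_two]; exact g.2⟩)
  fun g h => by ext <;> simp [mul_apply]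

/-- the projection onto the Levi complement -/
def pr : Mo F →* SL(2, F) := MonoidHom.mk'
  (fun m => ⟨!![m.a, m.b; m.c, m.d], by rw [det_fin_two_of]; exact m.det⟩)
  fun _ _ => Subtype.ext (mul_fin_two _ _ _ _ _ _ _ _).symm

theorem pr_ell (g : SL(2, F)) : pr (ell g) = g := by
  ext i j; fin_cases i <;> fin_cases j <;> rfl

theorem ell_inj : Function.Injective (ell (F := F)) := Function.LeftInverse.injective pr_ell

def equivProd : Mo F ≃ (F × F × F) × SL(2, F) where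
  toFun m := ((m.z, m.x, m.y), pr m)
  invFun v := ⟨v.1.1, v.1.2.1, v.1.2.2, v.2 0 0, v.2 0 1, v.2 1 0, v.2 1 1, (ell v.2).det⟩
  left_inv _ := rfl
  right_inv v := Prod.ext rfl (pr_ell v.2)

instance [Finite F] : Finite (Mo F) := Finite.of_equiv _ equivProd.symm

def zz (s : F) : Mo F := ⟨s, 0, 0, 1, 0, 0, 1, by ring⟩
def ee (s : F) : Mo F := ⟨0, s, 0, 1, 0, 0, 1, by ring⟩
def xx (s : F) : Mo F := ⟨0, 0, s, 1, 0, 0, 1, by ring⟩
def uu (s : F) : Mo F := ⟨0, 0, 0, 1, s, 0, 1, by ring⟩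
def dd (s : Fˣ) : Mo F := ⟨0, 0, 0, s, 0, 0, (s : F)⁻¹, by simp⟩
def tt : Mo F := ⟨0, 0, 0, -1, 0, 0, -1, by ring⟩
def nn : Mo F := ⟨0, 0, 0, 0, -1, 1, 0, by ring⟩

variable (F) in
def Z : Subgroup (Mo F) where
  carrier := {m | m.x = 0 ∧ m.y = 0 ∧ m.a = 1 ∧ m.b = 0 ∧ m.c = 0 ∧ m.d = 1}
  mul_mem' := by intro m n hm hn; simp_all
  one_mem' := by simp
  inv_mem' := by intro m hm; simp_all
variable (F) in
def E0 : Subgroup (Mo F) where
  carrier := {m | m.z = 0 ∧ m.y = 0 ∧ m.a = 1 ∧ m.b = 0 ∧ m.c = 0 ∧ m.d = 1}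
  mul_mem' := by intro m n hm hn; simp_all
  one_mem' := by simp
  inv_mem' := by intro m hm; simp_all
variable (F) in
def X : Subgroup (Mo F) where
  carrier := {m | m.z = 0 ∧ m.x = 0 ∧ m.a = 1 ∧ m.b = 0 ∧ m.c = 0 ∧ m.d = 1}
  mul_mem' := by intro m n hm hn; simp_all
  one_mem' := by simp
  inv_mem' := by intro m hm; simp_all
variable (F) in
def U : Subgroup (Mo F) where
  carrier := {m | m.z = 0 ∧ m.x = 0 ∧ m.y = 0 ∧ m.a = 1 ∧ m.c = 0 ∧ m.d = 1}
  mul_mem' := by intro m n hm hn; simp_all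
  one_mem' := by simp
  inv_mem' := by intro m hm; simp_all
variable (F) in
def T : Subgroup (Mo F) where
  carrier := {m | m.z = 0 ∧ m.x = 0 ∧ m.y = 0 ∧ m.b = 0 ∧ m.c = 0}
  mul_mem' := by intro m n hm hn; simp_all
  one_mem' := by simp
  inv_mem' := by intro m hm; simp_all
variable (F) in
def L : Subgroup (Mo F) where
  carrier := {m | m.z = 0 ∧ m.x = 0 ∧ m.y = 0}
  mul_mem' := by intro m n hm hn; simp_all
  one_mem' := by simp
  inv_mem' := by intro m hm; simp_all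
variable (F) in
def ZL : Subgroup (Mo F) where
  carrier := {m | m.x = 0 ∧ m.y = 0}
  mul_mem' := by intro m n hm hn; simp_all
  one_mem' := by simp
  inv_mem' := by intro m hm; simp_all
variable (F) in
def E : Subgroup (Mo F) where
  carrier := {m | m.y = 0 ∧ m.a = 1 ∧ m.b = 0 ∧ m.c = 0 ∧ m.d = 1}
  mul_mem' := by intro m n hm hn; simp_all
  one_mem' := by simp
  inv_mem' := by intro m hm; simp_all
variable (F) in
def W : Subgroup (Mo F) where
  carrier := {m | m.x = 0 ∧ m.y = 0 ∧ m.a = 1 ∧ m.c = 0 ∧ m.d = 1}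
  mul_mem' := by intro m n hm hn; simp_all
  one_mem' := by simp
  inv_mem' := by intro m hm; simp_all
variable (F) in
def WT : Subgroup (Mo F) where
  carrier := {m | m.x = 0 ∧ m.y = 0 ∧ m.c = 0}
  mul_mem' := by intro m n hm hn; simp_all
  one_mem' := by simp
  inv_mem' := by intro m hm; simp_all
variable (F) in
def Q : Subgroup (Mo F) where
  carrier := {m | m.a = 1 ∧ m.b = 0 ∧ m.c = 0 ∧ m.d = 1}
  mul_mem' := by intro m n hm hn; simp_all
  one_mem' := by simp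
  inv_mem' := by intro m hm; simp_all
variable (F) in
def M : Subgroup (Mo F) where
  carrier := {m | m.y = 0 ∧ m.a = 1 ∧ m.c = 0 ∧ m.d = 1}
  mul_mem' := by intro m n hm hn; simp_all
  one_mem' := by simp
  inv_mem' := by intro m hm; simp_all
variable (F) in
def P : Subgroup (Mo F) where
  carrier := {m | m.a = 1 ∧ m.c = 0 ∧ m.d = 1}
  mul_mem' := by intro m n hm hn; simp_all
  one_mem' := by simp
  inv_mem' := by intro m hm; simp_all
variable (F) in
def B : Subgroup (Mo F) where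
  carrier := {m | m.c = 0}
  mul_mem' := by intro m n hm hn; simp_all
  one_mem' := by simp
  inv_mem' := by intro m hm; simp_all

section Mem
variable {m : Mo F}
theorem mem_Z : m ∈ Z F ↔ m.x = 0 ∧ m.y = 0 ∧ m.a = 1 ∧ m.b = 0 ∧ m.c = 0 ∧ m.d = 1 := Iff.rfl
theorem mem_E0 : m ∈ E0 F ↔ m.z = 0 ∧ m.y = 0 ∧ m.a = 1 ∧ m.b = 0 ∧ m.c = 0 ∧ m.d = 1 := Iff.rfl
theorem mem_X : m ∈ X F ↔ m.z = 0 ∧ m.x = 0 ∧ m.a = 1 ∧ m.b = 0 ∧ m.c = 0 ∧ m.d = 1 := Iff.rfl
theorem mem_U : m ∈ U F ↔ m.z = 0 ∧ m.x = 0 ∧ m.y = 0 ∧ m.a = 1 ∧ m.c = 0 ∧ m.d = 1 := Iff.rfl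
theorem mem_T : m ∈ T F ↔ m.z = 0 ∧ m.x = 0 ∧ m.y = 0 ∧ m.b = 0 ∧ m.c = 0 := Iff.rfl
theorem mem_L : m ∈ L F ↔ m.z = 0 ∧ m.x = 0 ∧ m.y = 0 := Iff.rfl
theorem mem_ZL : m ∈ ZL F ↔ m.x = 0 ∧ m.y = 0 := Iff.rfl
theorem mem_E : m ∈ E F ↔ m.y = 0 ∧ m.a = 1 ∧ m.b = 0 ∧ m.c = 0 ∧ m.d = 1 := Iff.rfl
theorem mem_W : m ∈ W F ↔ m.x = 0 ∧ m.y = 0 ∧ m.a = 1 ∧ m.c = 0 ∧ m.d = 1 := Iff.rfl
theorem mem_WT : m ∈ WT F ↔ m.x = 0 ∧ m.y = 0 ∧ m.c = 0 := Iff.rfl
theorem mem_Q : m ∈ Q F ↔ m.a = 1 ∧ m.b = 0 ∧ m.c = 0 ∧ m.d = 1 := Iff.rfl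
theorem mem_M : m ∈ M F ↔ m.y = 0 ∧ m.a = 1 ∧ m.c = 0 ∧ m.d = 1 := Iff.rfl
theorem mem_P : m ∈ P F ↔ m.a = 1 ∧ m.c = 0 ∧ m.d = 1 := Iff.rfl
theorem mem_B : m ∈ B F ↔ m.c = 0 := Iff.rfl
theorem eq_one_iff : m = 1 ↔
    m.z = 0 ∧ m.x = 0 ∧ m.y = 0 ∧ m.a = 1 ∧ m.b = 0 ∧ m.c = 0 ∧ m.d = 1 := Mo.ext_iff
theorem eq_tt_iff : m = tt ↔
    m.z = 0 ∧ m.x = 0 ∧ m.y = 0 ∧ m.a = -1 ∧ m.b = 0 ∧ m.c = 0 ∧ m.d = -1 := Mo.ext_iff
end Mem

theorem range_ell : (ell (F := F)).range = L F := by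
  ext m
  refine ⟨by rintro ⟨g, rfl⟩; exact ⟨rfl, rfl, rfl⟩, fun h => ⟨pr m, ?_⟩⟩
  exact Mo.ext h.1.symm h.2.1.symm h.2.2.symm rfl rfl rfl rfl

section Card

theorem card_of {α : Type*} {H : Subgroup (Mo F)} (f : α → Mo F) (hf : Function.Injective f)
    (h : ∀ m, m ∈ H ↔ ∃ a, f a = m) : Nat.card H = Nat.card α :=
  (Nat.card_congr (Equiv.ofBijective (fun a => (⟨f a, (h _).2 ⟨a, rfl⟩⟩ : H))
    ⟨fun _ _ e => hf (congrArg Subtype.val e), fun m =>
      let ⟨a, ha⟩ := (h _).1 m.2; ⟨a, Subtype.ext ha⟩⟩)).symm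

theorem card_Z : Nat.card (Z F) = Nat.card F :=
  card_of zz (fun _ _ e => congrArg Mo.z e) fun m =>
    ⟨fun h => ⟨m.z, by ext <;> simp_all [zz, mem_Z]⟩, by rintro ⟨a, rfl⟩; simp [zz, mem_Z]⟩

theorem card_E0 : Nat.card (E0 F) = Nat.card F :=
  card_of ee (fun _ _ e => congrArg Mo.x e) fun m =>
    ⟨fun h => ⟨m.x, by ext <;> simp_all [ee, mem_E0]⟩, by rintro ⟨a, rfl⟩; simp [ee, mem_E0]⟩

theorem card_X : Nat.card (X F) = Nat.card F :=
  card_of xx (fun _ _ e => congrArg Mo.y e) fun m =>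
    ⟨fun h => ⟨m.y, by ext <;> simp_all [xx, mem_X]⟩, by rintro ⟨a, rfl⟩; simp [xx, mem_X]⟩

theorem card_U : Nat.card (U F) = Nat.card F :=
  card_of uu (fun _ _ e => congrArg Mo.b e) fun m =>
    ⟨fun h => ⟨m.b, by ext <;> simp_all [uu, mem_U]⟩, by rintro ⟨a, rfl⟩; simp [uu, mem_U]⟩

theorem exists_dd {m : Mo F} (h : m ∈ T F) : ∃ s, dd s = m := by
  have h1 : m.a * m.d = 1 := by have := m.det; simp_all [mem_T]
  refine ⟨Units.mk0 m.a (left_ne_zero_of_mul_eq_one h1), ?_⟩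
  ext <;> simp_all [dd, mem_T]
  exact (eq_inv_of_mul_eq_one_right h1).symm

theorem dd_mem (s : Fˣ) : dd s ∈ T F := by simp [dd, mem_T]

theorem card_T : Nat.card (T F) = Nat.card F - 1 := by
  rw [card_of dd (fun _ _ e => Units.ext (congrArg Mo.a e)) fun m =>
    ⟨exists_dd, by rintro ⟨a, rfl⟩; exact dd_mem a⟩, Nat.card_units]

theorem card_E : Nat.card (E F) = Nat.card F ^ 2 := by
  rw [card_of (fun v : F × F => (⟨v.1, v.2, 0, 1, 0, 0, 1, by ring⟩ : Mo F))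
    (fun _ _ e => Prod.ext (congrArg Mo.z e) (congrArg Mo.x e)) fun m =>
    ⟨fun h => ⟨(m.z, m.x), by ext <;> simp_all [mem_E]⟩, by rintro ⟨a, rfl⟩; simp [mem_E]⟩,
    Nat.card_prod, sq]

theorem card_W : Nat.card (W F) = Nat.card F ^ 2 := by
  rw [card_of (fun v : F × F => (⟨v.1, 0, 0, 1, v.2, 0, 1, by ring⟩ : Mo F))
    (fun _ _ e => Prod.ext (congrArg Mo.z e) (congrArg Mo.b e)) fun m =>
    ⟨fun h => ⟨(m.z, m.b), by ext <;> simp_all [mem_W]⟩, by rintro ⟨a, rfl⟩; simp [mem_W]⟩,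
    Nat.card_prod, sq]

theorem card_M : Nat.card (M F) = Nat.card F ^ 3 := by
  rw [card_of (fun v : F × F × F => (⟨v.1, v.2.1, 0, 1, v.2.2, 0, 1, by ring⟩ : Mo F))
    (fun _ _ e => Prod.ext (congrArg Mo.z e) (Prod.ext (congrArg Mo.x e) (congrArg Mo.b e))) fun m =>
    ⟨fun h => ⟨(m.z, m.x, m.b), by ext <;> simp_all [mem_M]⟩, by rintro ⟨a, rfl⟩; simp [mem_M]⟩]
  simp only [Nat.card_prod]; ring

theorem card_Q : Nat.card (Q F) = Nat.card F ^ 3 := by
  rw [card_of (fun v : F × F × F => (⟨v.1, v.2.1, v.2.2, 1, 0, 0, 1, by ring⟩ : Mo F))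
    (fun _ _ e => Prod.ext (congrArg Mo.z e) (Prod.ext (congrArg Mo.x e) (congrArg Mo.y e))) fun m =>
    ⟨fun h => ⟨(m.z, m.x, m.y), by ext <;> simp_all [mem_Q]⟩, by rintro ⟨a, rfl⟩; simp [mem_Q]⟩]
  simp only [Nat.card_prod]; ring

theorem card_P : Nat.card (P F) = Nat.card F ^ 4 := by
  rw [card_of (fun v : F × F × F × F => (⟨v.1, v.2.1, v.2.2.1, 1, v.2.2.2, 0, 1, by ring⟩ : Mo F))
    (fun _ _ e => Prod.ext (congrArg Mo.z e) (Prod.ext (congrArg Mo.x e)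
      (Prod.ext (congrArg Mo.y e) (congrArg Mo.b e)))) fun m =>
    ⟨fun h => ⟨(m.z, m.x, m.y, m.b), by ext <;> simp_all [mem_P]⟩,
      by rintro ⟨a, rfl⟩; simp [mem_P]⟩]
  simp only [Nat.card_prod]; ring

theorem exists_PT {m : Mo F} (h : m ∈ B F) : ∃ k ∈ P F, ∃ s ∈ T F, m = k * s := by
  have h1 : m.a * m.d = 1 := by have := m.det; simp_all [mem_B]
  refine ⟨⟨m.z, m.x, m.y, 1, m.b * m.a, 0, 1, by ring⟩, by simp [mem_P],
    ⟨0, 0, 0, m.a, 0, 0, m.d, by simpa using h1⟩, by simp [mem_T], ?_⟩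
  ext <;> simp_all [mem_B, mul_assoc]

theorem card_B [Finite F] : Nat.card (B F) = Nat.card F ^ 4 * (Nat.card F - 1) := by
  have := IsMul.card (H := P F) (K := T F) (M := B F)
    ⟨fun m h => h.2.1, fun m h => h.2.2.2.2, fun m => exists_PT⟩
  rwa [show P F ⊓ T F = ⊥ from eq_bot_iff.2 fun m h => by
    simp_all [mem_P, mem_T, eq_one_iff], card_bot, mul_one, card_P, card_T] at this

theorem exists_WT {m : Mo F} (h : m ∈ WT F) : ∃ k ∈ W F, ∃ s ∈ T F, m = k * s := by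
  have h1 : m.a * m.d = 1 := by have := m.det; simp_all [mem_WT]
  refine ⟨⟨m.z, 0, 0, 1, m.b * m.a, 0, 1, by ring⟩, by simp [mem_W],
    ⟨0, 0, 0, m.a, 0, 0, m.d, by simpa using h1⟩, by simp [mem_T], ?_⟩
  ext <;> simp_all [mem_WT, mul_assoc]

theorem card_WT [Finite F] : Nat.card (WT F) = Nat.card F ^ 2 * (Nat.card F - 1) := by
  have := IsMul.card (H := W F) (K := T F) (M := WT F)
    ⟨fun m h => ⟨h.1, h.2.1, h.2.2.2.1⟩, fun m h => ⟨h.2.1, h.2.2.1, h.2.2.2.2⟩, fun m => exists_WT⟩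
  rwa [show W F ⊓ T F = ⊥ from eq_bot_iff.2 fun m h => by
    simp_all [mem_W, mem_T, eq_one_iff], card_bot, mul_one, card_W, card_T] at this

theorem card_L [Finite F] : Nat.card (L F) = Nat.card F * (Nat.card F ^ 2 - 1) := by
  haveI := Fintype.ofFinite F
  rw [← range_ell, ← Nat.card_congr (MonoidHom.ofInjective ell_inj).toEquiv,
    H28.card_SL2 (Nat.card_eq_fintype_card).symm]

theorem card [Finite F] : Nat.card (Mo F) = Nat.card F ^ 4 * (Nat.card F ^ 2 - 1) := by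
  haveI := Fintype.ofFinite F
  rw [Nat.card_congr equivProd, Nat.card_prod, H28.card_SL2 (Nat.card_eq_fintype_card).symm]
  simp only [Nat.card_prod]; ring

end Card

section Sp

def mat (m : Mo F) : Matrix (Fin 2 ⊕ Fin 2) (Fin 2 ⊕ Fin 2) F :=
  fromBlocks !![1, m.c * m.x - m.a * m.y; 0, m.a] !![m.z, m.d * m.x - m.b * m.y; m.x, m.b]
    !![0, 0; 0, m.c] !![1, 0; m.y, m.d]

def toSp : Mo F →* symplecticGroup (Fin 2) F :=
  MonoidHom.mk' (fun m => ⟨mat m, by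
    have := m.det
    rw [SymplecticGroup.mem_iff]
    ext (i | i) (j | j) <;> fin_cases i <;> fin_cases j <;>
      simp [mat, J, fromBlocks_multiply, fromBlocks_transpose, mul_apply] <;> grind⟩)
    fun m n => Subtype.ext (by
      have := m.det
      have := n.det
      show mat _ = mat m * mat n
      ext (i | i) (j | j) <;> fin_cases i <;> fin_cases j <;>
        simp [mat, fromBlocks_multiply] <;> grind)

theorem mat_inj {m n : Mo F} (h : mat m = mat n) : m = n :=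
  Mo.ext (congrFun (congrFun h (.inl 0)) (.inr 0)) (congrFun (congrFun h (.inl 1)) (.inr 0))
    (congrFun (congrFun h (.inr 1)) (.inr 0)) (congrFun (congrFun h (.inl 1)) (.inl 1))
    (congrFun (congrFun h (.inl 1)) (.inr 1)) (congrFun (congrFun h (.inr 1)) (.inl 1))
    (congrFun (congrFun h (.inr 1)) (.inr 1))

/-- the embedding into `PSp₄(F)` -/
def psi : Mo F →* PSp 2 F := (QuotientGroup.mk' _).comp toSp

theorem psi_inj (h2 : (2 : F) ≠ 0) : Function.Injective (psi (F := F)) :=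
  (injective_iff_map_eq_one _).2 fun m hm => by
    rcases H27.mem_center_sp_iff'.mp ((QuotientGroup.eq_one_iff _).1 hm) with e | e
    · exact mat_inj (e.trans (congrArg Subtype.val (map_one toSp)).symm)
    · have := congrFun (congrFun e (.inl 0)) (.inl 0)
      simp [toSp, mat] at this
      exact absurd (by linear_combination this) h2

theorem exists_mat {s : F} (hs : s ≠ 0) (g : symplecticGroup (Fin 2) F)
    (h : g.1 * mat (zz s) = mat (zz s) * g.1) (h1 : g.1 (.inl 0) (.inl 0) = 1) :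
    ∃ m, mat m = g.1 := by
  have hg := SymplecticGroup.mem_iff.1 g.2
  generalize g.1 = A at *
  have e (i j) := congrFun (congrFun h i) j
  have f (i j) := congrFun (congrFun hg i) j
  have e1 := e (.inl 1) (.inr 0)
  have e2 := e (.inr 0) (.inr 0)
  have e3 := e (.inr 1) (.inr 0)
  have e4 := e (.inl 0) (.inl 1)
  have e5 := e (.inl 0) (.inr 1)
  have e6 := e (.inl 0) (.inr 0)
  have f1 := f (.inl 1) (.inr 1)
  have f2 := f (.inl 0) (.inl 1)
  have f3 := f (.inl 0) (.inr 1)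
  simp [mat, zz, J, mul_apply, Fintype.sum_sum_type, hs, h1] at e1 e2 e3 e4 e5 e6 f1 f2 f3
  have hd : A (.inl 1) (.inl 1) * A (.inr 1) (.inr 1) - A (.inl 1) (.inr 1) * A (.inr 1) (.inl 1) = 1 := by
    grind
  refine ⟨⟨A (.inl 0) (.inr 0), A (.inl 1) (.inr 0), A (.inr 1) (.inr 0), _, _, _, _, hd⟩, ?_⟩
  ext (i | i) (j | j) <;> fin_cases i <;> fin_cases j <;> simp [mat] <;> grind

theorem cent_psi (h2 : (2 : F) ≠ 0) {s : F} (hs : s ≠ 0) : C1[psi (zz s)] = psi.range := by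
  refine le_antisymm (fun y hy => ?_) ?_
  · obtain ⟨g, rfl⟩ := QuotientGroup.mk'_surjective (center (symplecticGroup (Fin 2) F)) y
    have h1 : (g * toSp (zz s))⁻¹ * (toSp (zz s) * g) ∈ center _ :=
      QuotientGroup.eq.1 (mem_centralizer_singleton_iff.1 hy)
    have hg := SymplecticGroup.mem_iff.1 g.2
    have h3 : g.1 * mat (zz s) = mat (zz s) * g.1 := by
      have h4 : toSp (zz s) * g = (g * toSp (zz s)) * ((g * toSp (zz s))⁻¹ * (toSp (zz s) * g)) := by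
        group
      have h5 : mat (zz s) * g.1 = g.1 * mat (zz s) * _ := congrArg Subtype.val h4
      rcases H27.mem_center_sp_iff'.mp h1 with e | e
      · rw [h5, e, mul_one]
      · rw [e] at h5
        have e (i j) := congrFun (congrFun h5 i) j
        have e1 := e (.inl 1) (.inl 0)
        have e2 := e (.inl 1) (.inl 1)
        have e3 := e (.inl 1) (.inr 1)
        have e4 := e (.inr 1) (.inl 0)
        have e5 := e (.inr 1) (.inl 1)
        have e6 := e (.inr 1) (.inr 1)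
        have f1 := congrFun (congrFun hg (.inl 1)) (.inr 1)
        simp [mat, zz, J, mul_apply, Fintype.sum_sum_type] at e1 e2 e3 e4 e5 e6 f1
        grind
    have h4 : g.1 (.inl 0) (.inl 0) = 1 ∨ g.1 (.inl 0) (.inl 0) = -1 := by
      have e (i j) := congrFun (congrFun h3 i) j
      have e2 := e (.inr 0) (.inr 0)
      have e4 := e (.inl 0) (.inl 1)
      have e5 := e (.inl 0) (.inr 1)
      have e6 := e (.inl 0) (.inr 0)
      have f1 := congrFun (congrFun hg (.inl 0)) (.inr 0)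
      simp [mat, zz, J, mul_apply, Fintype.sum_sum_type, hs] at e2 e4 e5 e6 f1
      rw [← mul_self_eq_one_iff]
      grind
    rcases h4 with e | e
    · obtain ⟨m, hm⟩ := exists_mat hs g h3 e
      exact ⟨m, congrArg (QuotientGroup.mk' _) (Subtype.ext hm)⟩
    · obtain ⟨m, hm⟩ := exists_mat hs ⟨-g.1, SymplecticGroup.neg_mem g.2⟩ (by simp [h3]) (by simp [e])
      refine ⟨m, QuotientGroup.eq.2 (H27.mem_center_sp_iff'.mpr (Or.inr ?_))⟩
      have h6 : ((toSp m)⁻¹ * toSp m).1 = 1 := by rw [inv_mul_cancel]; rfl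
      have h7 : g.1 = -(toSp m).1 := by rw [show (toSp m).1 = -g.1 from hm, neg_neg]
      rw [Submonoid.coe_mul] at h6 ⊢
      rw [h7, mul_neg, h6]
  · rintro _ ⟨m, rfl⟩
    rw [mem_centralizer_singleton_iff, ← map_mul, ← map_mul]
    congr 1; ext <;> simp [zz, add_comm]

theorem eq_zz (h2 : (2 : F) ≠ 0) {m : Mo F} (hm : m ∈ P F) (h : ∀ y ∈ P F, y * m = m * y) :
    m = zz m.z := by
  have e1 := h (ee 1) (by simp [ee, mem_P])
  have e2 := h (xx 1) (by simp [xx, mem_P])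
  simp only [Mo.ext_iff, mem_P] at e1 e2 hm ⊢
  simp [ee, xx, zz, hm] at e1 e2 ⊢
  grind

theorem exists_equiv [Fintype F] {p : ℕ} [Fact p.Prime] (hp : p ≠ 2) {n : ℕ}
    (hF : Fintype.card F = p ^ n) {x : PSp 2 F} (hx : x ≠ 1) (S : Sylow p (PSp 2 F))
    (hxS : x ∈ (S : Subgroup (PSp 2 F))) (hc : ∀ y ∈ (S : Subgroup (PSp 2 F)), y * x = x * y) :
    (2 : F) ≠ 0 ∧ Nonempty (Mo F ≃* C1[x]) := by
  have hp' : p.Prime := Fact.out
  have hn : n ≠ 0 := by
    rintro rfl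
    exact absurd hF (by simpa using Fintype.one_lt_card.ne')
  have h2 : (2 : F) ≠ 0 := fun e => by
    have h3 := FiniteField.cast_card_eq_zero F
    obtain ⟨k, hk⟩ := (hp'.odd_of_ne_two hp).pow (n := n)
    rw [hF, hk] at h3
    push_cast at h3
    simp [e] at h3
  refine ⟨h2, ?_⟩
  have h3 : Nat.card ((P F).map psi) = p ^ (n * 4) := by
    rw [card_map_of_injective (psi_inj h2), card_P, Nat.card_eq_fintype_card, hF, pow_mul]
  have h4 : ¬ p ∣ ((P F).map psi).index := fun h5 => by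
    have h6 := ((P F).map psi).card_mul_index
    have h7 : Nat.card (PSp 2 F) ∣ Nat.card (symplecticGroup (Fin 2) F) := card_quotient_dvd_card _
    rw [← h6, h3, H27.card_sp, H27.spOrder, pow_mul, hF] at h7
    have h8 := h5.trans (Nat.dvd_of_mul_dvd_mul_left (by positivity [hp'.pos]) h7)
    rw [hp'.prime.dvd_finsetProd_iff] at h8
    obtain ⟨i, -, h8⟩ := h8
    have h9 : p ∣ (p ^ n) ^ (2 * (i + 1)) := dvd_pow (dvd_pow_self p hn) (by omega)
    have h10 : 0 < (p ^ n) ^ (2 * (i + 1)) := pow_pos (pow_pos hp'.pos _) _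
    exact hp'.one_lt.ne' (Nat.dvd_one.1 ((Nat.dvd_sub_iff_right h10 h9).1 h8))
  obtain ⟨g, hg⟩ := MulAction.exists_smul_eq (PSp 2 F) S ((IsPGroup.of_card h3).toSylow h4)
  have h5 : cj g (S : Subgroup (PSp 2 F)) = (P F).map psi := congrArg Sylow.toSubgroup hg
  obtain ⟨m, hm, e⟩ : g * x * g⁻¹ ∈ (P F).map psi := h5 ▸ conj_mem_cj hxS
  have h6 : m = zz m.z := eq_zz h2 hm fun y hy => psi_inj h2 (by
    have h7 : psi y ∈ cj g (S : Subgroup (PSp 2 F)) := h5 ▸ mem_map_of_mem _ hy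
    have := hc _ (mem_cj.1 h7)
    rw [map_mul, map_mul, e]
    calc _ = g * (g⁻¹ * psi y * g * x) * g⁻¹ := by group
      _ = _ := by rw [this]; group)
  have h7 : m.z ≠ 0 := fun h => hx (by
    rw [h6, h, show (zz 0 : Mo F) = 1 from rfl, map_one] at e
    simpa using e.symm)
  have h8 : cj g C1[x] = psi.range := by rw [cj_centralizer_singleton, ← e, h6, cent_psi h2 h7]
  exact ⟨(MonoidHom.ofInjective (psi_inj h2)).trans
    ((MulEquiv.subgroupCongr h8.symm).trans (cjEquiv g _).symm)⟩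

end Sp

end Mo

end Cfsg.Agent.H14.SP
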