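import Mathlib
import Cfsg.Agent.H14.SPMo
import Cfsg.Agent.H95.QCover
import Cfsg.Agent.H82.Higman

/-! Computations in the coordinate model `Mo F`. -/

set_option autoImplicit false
set_option linter.unusedSectionVars false
set_option linter.unusedSimpArgs false

namespace Cfsg.Agent.H14.SP.Mo

open Subgroup Matrix Cfsg.Agent.H63 Cfsg.Agent.H67
open scoped MatrixGroups

variable {F : Type*} [Field F]

/-- unfold everything to coordinates -/
macro "mo_simp" loc:(Lean.Parser.Tactic.location)? : tactic =>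
  `(tactic| simp only [Mo.ext_iff, mem_Z, mem_E0, mem_X, mem_U, mem_T, mem_L, mem_ZL, mem_E, mem_W,
    mem_WT, mem_Q, mem_M, mem_P, mem_B, mul_z, mul_x, mul_y, mul_a, mul_b, mul_c, mul_d, one_z,
    one_x, one_y, one_a, one_b, one_c, one_d, inv_z, inv_x, inv_y, inv_a, inv_b, inv_c, inv_d,
    zz, ee, xx, uu, tt, nn, ne_eq] $[$loc]?)

theorem zz_mem (s : F) : zz s ∈ Z F := by simp [zz, mem_Z]
theorem ee_mem (s : F) : ee s ∈ E0 F := by simp [ee, mem_E0]
theorem xx_mem (s : F) : xx s ∈ X F := by simp [xx, mem_X]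
theorem uu_mem (s : F) : uu s ∈ U F := by simp [uu, mem_U]
theorem tt_mem : tt ∈ T F := by simp [tt, mem_T]
theorem nn_mem : nn ∈ L F := by simp [nn, mem_L]
theorem eq_zz_of_mem {m : Mo F} (h : m ∈ Z F) : zz m.z = m := by ext <;> simp_all [zz, mem_Z]
theorem eq_uu_of_mem {m : Mo F} (h : m ∈ U F) : uu m.b = m := by ext <;> simp_all [uu, mem_U]
theorem eq_xx_of_mem {m : Mo F} (h : m ∈ X F) : xx m.y = m := by ext <;> simp_all [xx, mem_X]
theorem eq_ee_of_mem {m : Mo F} (h : m ∈ E0 F) : ee m.x = m := by ext <;> simp_all [ee, mem_E0]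
theorem zz_eq_one {s : F} : zz s = 1 ↔ s = 0 := by simp [zz, eq_one_iff]
theorem uu_eq_one {s : F} : uu s = 1 ↔ s = 0 := by simp [uu, eq_one_iff]
theorem xx_eq_one {s : F} : xx s = 1 ↔ s = 0 := by simp [xx, eq_one_iff]
theorem ee_eq_one {s : F} : ee s = 1 ↔ s = 0 := by simp [ee, eq_one_iff]
theorem tt_mul_tt : (tt * tt : Mo F) = 1 := by ext <;> simp [tt]
theorem tt_inv : (tt : Mo F)⁻¹ = tt := inv_eq_of_mul_eq_one_right tt_mul_tt
theorem tt_ne_one (h2 : (2 : F) ≠ 0) : (tt : Mo F) ≠ 1 := by mo_simp; grind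
theorem nn_mul_nn : (nn * nn : Mo F) = tt := by ext <;> simp [tt, nn]

theorem Z_le_E : Z F ≤ E F := fun m h => by mo_simp at *; tauto
theorem Z_le_W : Z F ≤ W F := fun m h => by mo_simp at *; tauto
theorem Z_le_Q : Z F ≤ Q F := fun m h => by mo_simp at *; tauto
theorem Z_le_M : Z F ≤ M F := fun m h => by mo_simp at *; tauto
theorem Z_le_ZL : Z F ≤ ZL F := fun m h => by mo_simp at *; tauto
theorem E0_le_E : E0 F ≤ E F := fun m h => by mo_simp at *; tauto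
theorem E_le_M : E F ≤ M F := fun m h => by mo_simp at *; tauto
theorem E_le_Q : E F ≤ Q F := fun m h => by mo_simp at *; tauto
theorem W_le_M : W F ≤ M F := fun m h => by mo_simp at *; tauto
theorem W_le_WT : W F ≤ WT F := fun m h => by mo_simp at *; tauto
theorem U_le_W : U F ≤ W F := fun m h => by mo_simp at *; tauto
theorem U_le_L : U F ≤ L F := fun m h => by mo_simp at *; tauto
theorem T_le_L : T F ≤ L F := fun m h => by mo_simp at *; tauto
theorem T_le_WT : T F ≤ WT F := fun m h => by mo_simp at *; tauto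
theorem T_le_B : T F ≤ B F := fun m h => by mo_simp at *; tauto
theorem L_le_ZL : L F ≤ ZL F := fun m h => by mo_simp at *; tauto
theorem WT_le_ZL : WT F ≤ ZL F := fun m h => by mo_simp at *; tauto
theorem WT_le_B : WT F ≤ B F := fun m h => by mo_simp at *; tauto
theorem X_le_Q : X F ≤ Q F := fun m h => by mo_simp at *; tauto
theorem Q_le_P : Q F ≤ P F := fun m h => by mo_simp at *; tauto
theorem M_le_P : M F ≤ P F := fun m h => by mo_simp at *; tauto
theorem P_le_B : P F ≤ B F := fun m h => by mo_simp at *; tauto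

theorem M_inf_Q : M F ⊓ Q F = E F := by ext m; rw [mem_inf]; mo_simp; tauto
theorem M_inf_ZL : M F ⊓ ZL F = W F := by ext m; rw [mem_inf]; mo_simp; tauto
theorem B_inf_ZL : B F ⊓ ZL F = WT F := by ext m; rw [mem_inf]; mo_simp; tauto
theorem Q_inf_ZL : Q F ⊓ ZL F = Z F := by ext m; rw [mem_inf]; mo_simp; tauto
theorem E_inf_W : E F ⊓ W F = Z F := by ext m; rw [mem_inf]; mo_simp; tauto
theorem W_inf_L : W F ⊓ L F = U F := by ext m; rw [mem_inf]; mo_simp; tauto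
theorem Z_inf_L : Z F ⊓ L F = ⊥ := by ext m; rw [mem_inf, mem_bot]; mo_simp; tauto
theorem W_inf_E0 : W F ⊓ E0 F = ⊥ := by ext m; rw [mem_inf, mem_bot]; mo_simp; tauto
theorem M_inf_X : M F ⊓ X F = ⊥ := by ext m; rw [mem_inf, mem_bot]; mo_simp; tauto
theorem P_inf_T : P F ⊓ T F = ⊥ := by ext m; rw [mem_inf, mem_bot]; mo_simp; tauto

theorem exists_ZU {m : Mo F} (h : m ∈ W F) : ∃ z ∈ Z F, ∃ u ∈ U F, m = z * u :=
  ⟨zz m.z, zz_mem _, uu m.b, uu_mem _, by mo_simp at *; grind⟩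
theorem exists_ZL {m : Mo F} (h : m ∈ ZL F) : ∃ z ∈ Z F, ∃ l ∈ L F, m = z * l :=
  ⟨zz m.z, zz_mem _, ⟨0, 0, 0, m.a, m.b, m.c, m.d, m.det⟩, ⟨rfl, rfl, rfl⟩, by mo_simp at *; grind⟩
theorem exists_WE0 {m : Mo F} (h : m ∈ M F) : ∃ w ∈ W F, ∃ e ∈ E0 F, m = w * e :=
  ⟨⟨m.z, 0, 0, 1, m.b, 0, 1, by ring⟩, by simp [mem_W], ee m.x, ee_mem _, by mo_simp at *; grind⟩
theorem exists_MX {m : Mo F} (h : m ∈ P F) : ∃ k ∈ M F, ∃ x ∈ X F, m = k * x :=
  ⟨m * (xx m.y)⁻¹, by mo_simp at *; grind, xx m.y, xx_mem _, by simp⟩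
theorem exists_QL (m : Mo F) : ∃ k ∈ Q F, ∃ l ∈ L F, m = k * l :=
  ⟨⟨m.z, m.x, m.y, 1, 0, 0, 1, by ring⟩, by simp [mem_Q], ⟨0, 0, 0, m.a, m.b, m.c, m.d, m.det⟩,
    ⟨rfl, rfl, rfl⟩, by mo_simp; grind⟩

theorem Z_comm {z : Mo F} (h : z ∈ Z F) (m : Mo F) : m * z = z * m := by mo_simp at *; grind
theorem M_comm {m n : Mo F} (hm : m ∈ M F) (hn : n ∈ M F) : m * n = n * m := by
  mo_simp at *; grind
theorem T_comm {m n : Mo F} (hm : m ∈ T F) (hn : n ∈ T F) : m * n = n * m := by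
  mo_simp at *; grind
theorem tt_comm {m : Mo F} (hm : m ∈ ZL F) : m * tt = tt * m := by mo_simp at *; grind

theorem mem_Z_of_comm (h2 : (2 : F) ≠ 0) {m : Mo F} (h : m * ee 1 = ee 1 * m)
    (h' : m * xx 1 = xx 1 * m) : m ∈ Z F := by
  mo_simp at *
  have ha : m.a = 1 := by linear_combination h.2.1
  have hc : m.c = 0 := by linear_combination h.2.2.1
  have hb : m.b = 0 := by linear_combination h'.2.1
  have hd : m.d = 1 := by linear_combination h'.2.2.1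
  simp only [ha, hb, hc, hd] at *
  exact ⟨mul_left_cancel₀ h2 (by linear_combination h'.1),
    mul_left_cancel₀ h2 (by linear_combination -h.1), by simp⟩

theorem cent_P (h2 : (2 : F) ≠ 0) {g m : Mo F} (hg : g ∈ P F) (hg' : g ∉ M F) (hm : m ∈ M F)
    (h : g * m = m * g) : m ∈ Z F := by mo_simp at *; grind

theorem cent_E (h2 : (2 : F) ≠ 0) {y g : Mo F} (hy : y ∈ E F) (hy' : y ∉ Z F) (h : g * y = y * g) :
    g ∈ M F := by have := g.det; mo_simp at *; grind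

theorem cent_W {w g : Mo F} (hw : w ∈ W F) (hw' : w ∉ Z F) (h : g * w = w * g) :
    g ∈ M F ∨ g * tt ∈ M F := by
  have := g.det
  have h1 : g.a = 1 ∨ g.a = -1 := by rw [← mul_self_eq_one_iff]; mo_simp at *; grind
  mo_simp at *; grind

theorem cent_tt (h2 : (2 : F) ≠ 0) {g : Mo F} (h : g * tt = tt * g) : g ∈ ZL F := by
  mo_simp at *; grind

theorem exists_conj_W {m : Mo F} (hm : m ∈ M F) (hm' : m ∉ E F) :
    ∃ x ∈ X F, x * m * x⁻¹ ∈ W F :=
  ⟨xx (m.x / m.b), xx_mem _, by mo_simp at *; grind⟩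

theorem conj_W_unique {w x : Mo F} (hw : w ∈ W F) (hw' : w ∉ Z F) (hx : x ∈ X F)
    (h : x * w * x⁻¹ ∈ W F) : x = 1 := by mo_simp at *; grind

theorem sq_eq_one_L (h2 : (2 : F) ≠ 0) {g : Mo F} (hg : g ∈ ZL F) (h : g * g = 1) :
    g = 1 ∨ g = tt := by
  have := g.det
  have h1 : g.a = 1 ∨ g.a = -1 := by rw [← mul_self_eq_one_iff]; mo_simp at *; grind
  mo_simp at *; grind

theorem inv_conj (h2 : (2 : F) ≠ 0) {g : Mo F} (h : g * g = 1) (h1 : g ≠ 1) :
    ∃ y ∈ Q F, g = y * tt * y⁻¹ := by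
  have := g.det
  have h3 : g.a + g.d ≠ 0 := by mo_simp at *; grind
  have hb : g.b = 0 := (mul_eq_zero.1 (by mo_simp at h; linear_combination h.2.2.2.2.1 :
    (g.a + g.d) * g.b = 0)).resolve_left h3
  have hc : g.c = 0 := (mul_eq_zero.1 (by mo_simp at h; linear_combination h.2.2.2.2.2.1 :
    (g.a + g.d) * g.c = 0)).resolve_left h3
  have h4 : g.a = 1 ∨ g.a = -1 := by rw [← mul_self_eq_one_iff]; mo_simp at *; grind
  refine ⟨⟨0, g.x / 2, g.y / 2, 1, 0, 0, 1, by ring⟩, by simp [mem_Q], ?_⟩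
  mo_simp at *
  rcases h4 with h4 | h4 <;> simp only [hb, hc, h4] at * <;> grind

theorem conj_E (h2 : (2 : F) ≠ 0) {y : Mo F} (hy : y ∈ E F) (hy' : y ∉ Z F) :
    ∃ b ∈ B F, b * ee 1 * b⁻¹ = y := by
  have h1 : y.x ≠ 0 := by mo_simp at *; grind
  refine ⟨⟨0, 0, -y.z / (2 * y.x), y.x, 0, 0, y.x⁻¹, by simp [h1]⟩, rfl, ?_⟩
  mo_simp at *; grind

theorem conj_Q {y : Mo F} (hy : y ∈ Q F) : ∃ l ∈ L F, l * y * l⁻¹ ∈ E F := by
  by_cases h1 : y.y = 0
  · exact ⟨1, one_mem _, by mo_simp at *; grind⟩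
  · exact ⟨⟨0, 0, 0, 0, 1, -1, y.x / y.y, by simp⟩, ⟨rfl, rfl, rfl⟩, by mo_simp at *; grind⟩

theorem conj_mem_Q {y : Mo F} (hy : y ∈ Q F) (g : Mo F) : g * y * g⁻¹ ∈ Q F := by
  have := g.det; mo_simp at *; grind
theorem conj_mem_P {y g : Mo F} (hy : y ∈ P F) (hg : g ∈ B F) : g * y * g⁻¹ ∈ P F := by
  have := g.det; mo_simp at *; grind
theorem conj_mem_M {y g : Mo F} (hy : y ∈ M F) (hg : g ∈ B F) : g * y * g⁻¹ ∈ M F := by
  have := g.det; mo_simp at *; grind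
theorem conj_mem_E {y g : Mo F} (hy : y ∈ E F) (hg : g ∈ B F) : g * y * g⁻¹ ∈ E F := by
  have := g.det; mo_simp at *; grind
theorem conj_mem_X {y g : Mo F} (hy : y ∈ X F) (hg : g ∈ T F) : g * y * g⁻¹ ∈ X F := by
  have := g.det; mo_simp at *; grind
theorem conj_mem_U {y g : Mo F} (hy : y ∈ U F) (hg : g ∈ WT F) : g * y * g⁻¹ ∈ U F := by
  have := g.det; mo_simp at *; grind
theorem conj_mem_W {y g : Mo F} (hy : y ∈ W F) (hg : g ∈ WT F) : g * y * g⁻¹ ∈ W F := by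
  have := g.det; mo_simp at *; grind
theorem conj_mem_L {y g : Mo F} (hy : y ∈ L F) (hg : g ∈ ZL F) : g * y * g⁻¹ ∈ L F := by
  have := g.det; mo_simp at *; grind
theorem comm_mem_Z {y y' : Mo F} (hy : y ∈ Q F) (hy' : y' ∈ Q F) : y * y' * y⁻¹ * y'⁻¹ ∈ Z F := by
  mo_simp at *; grind
theorem comm_mem_L {y y' : Mo F} (hy : y ∈ ZL F) (hy' : y' ∈ ZL F) :
    y * y' * y⁻¹ * y'⁻¹ ∈ L F := by mo_simp at *; grind
theorem comm_mem_U {y y' : Mo F} (hy : y ∈ WT F) (hy' : y' ∈ WT F) :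
    y * y' * y⁻¹ * y'⁻¹ ∈ U F := by have := y.det; have := y'.det; mo_simp at *; grind
theorem comm_mem_E0 {y g : Mo F} (hy : y ∈ M F) (hg : g * tt ∈ M F) :
    g * y * g⁻¹ * y⁻¹ ∈ E0 F := by mo_simp at *; grind

theorem mem_B_of_conj {g : Mo F} (h : g * uu 1 * g⁻¹ ∈ P F) : g ∈ B F := by mo_simp at *; grind

theorem mem_E0_iff (h2 : (2 : F) ≠ 0) {m : Mo F} (hm : m ∈ M F) :
    m ∈ E0 F ↔ tt * m * tt⁻¹ = m⁻¹ := by mo_simp at *; grind
theorem tt_conj_Q {y : Mo F} (hy : y ∈ Q F) : tt * y * tt⁻¹ * y ∈ Z F := by mo_simp at *; grind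

theorem eq_one_of_comm_U (h2 : (2 : F) ≠ 0) {s w : Mo F} (hs : s ∈ T F) (hw : w ∈ W F) (hw' : w ∉ Z F)
    (h : s * w = w * s) : s = 1 ∨ s = tt := by
  have := s.det
  have h1 : s.a = 1 ∨ s.a = -1 := by rw [← mul_self_eq_one_iff]; mo_simp at *; grind
  mo_simp at *; grind

theorem eq_one_of_comm_X {s x : Mo F} (hs : s ∈ T F) (hx : x ∈ X F) (hx' : x ≠ 1)
    (h : s * x = x * s) : s = 1 := by have := s.det; mo_simp at *; grind

theorem exists_T_conj_X {x x' : Mo F} (hx : x ∈ X F) (hx' : x' ∈ X F) (h1 : x ≠ 1) (h1' : x' ≠ 1) :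
    ∃ s ∈ T F, s * x * s⁻¹ = x' := by
  have h2 : x.y ≠ 0 := by mo_simp at *; grind
  have h3 : x'.y ≠ 0 := by mo_simp at *; grind
  refine ⟨⟨0, 0, 0, x.y / x'.y, 0, 0, x'.y / x.y, by field_simp; ring⟩, by simp [mem_T], ?_⟩
  mo_simp at *; grind

theorem pow_M {m : Mo F} (hm : m ∈ M F) (k : ℕ) :
    m ^ k = ⟨k * m.z, k * m.x, 0, 1, k * m.b, 0, 1, by ring⟩ := by
  induction k with
  | zero => ext <;> simp
  | succ k ih => rw [pow_succ, ih]; push_cast; mo_simp at *; grind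

theorem pow_Q {m : Mo F} (hm : m ∈ Q F) (k : ℕ) :
    m ^ k = ⟨k * m.z, k * m.x, k * m.y, 1, 0, 0, 1, by ring⟩ := by
  induction k with
  | zero => ext <;> simp
  | succ k ih => rw [pow_succ, ih]; push_cast; mo_simp at *; grind

theorem pow_z {m : Mo F} (hm : m ∈ ZL F) (k : ℕ) : (m ^ k).z = k * m.z := by
  induction k with
  | zero => simp
  | succ k ih =>
    have := pow_mem hm k
    rw [pow_succ]; push_cast; mo_simp at *; grind

theorem eq_M_of_comm [Finite F] (h2 : (2 : F) ≠ 0) {A : Subgroup (Mo F)} (hA : A ≤ P F)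
    (hc : IsMulCommutative A) (h : Nat.card A = Nat.card F ^ 3) : A = M F := by
  refine eq_of_le_of_card_ge (fun g hg => ?_) (by rw [h, card_M])
  by_contra hM
  have h1 : Nat.card A ≤ Nat.card (F × F) :=
    Nat.card_le_card_of_injective (fun a => (a.1.z, a.1.y)) fun a b e => Subtype.ext (by
      have e1 := comm_of_isMulCommutative hc hg a.2
      have e2 := comm_of_isMulCommutative hc hg b.2
      have e3 := hA hg
      have e4 := hA a.2
      have e5 := hA b.2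
      simp only [Prod.mk.injEq] at e
      mo_simp at *; grind)
  rw [h, Nat.card_prod] at h1
  have : 1 < Nat.card F := Finite.one_lt_card
  nlinarith [Nat.mul_lt_mul_of_pos_left this (show 0 < Nat.card F * Nat.card F by positivity)]

theorem isCyclic_T [Finite F] : IsCyclic (T F) :=
  isCyclic_of_surjective (MonoidHom.mk' (fun s : Fˣ => (⟨dd s, dd_mem s⟩ : T F))
    fun a b => Subtype.ext (by ext <;> simp [dd, mul_comm]))
    fun m => let ⟨s, hs⟩ := exists_dd m.2; ⟨s, Subtype.ext hs⟩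

theorem sq_or_tt_sq [Finite F] (h4 : Nat.card F % 4 = 3) {s : Mo F} (hs : s ∈ T F) :
    ∃ r ∈ T F, s = r * r ∨ s = r * r * tt := by
  classical
  haveI := Fintype.ofFinite F
  have h1 : ¬ IsSquare (-1 : F) := by
    rw [FiniteField.isSquare_neg_one_iff, ← Nat.card_eq_fintype_card]; omega
  have h0 := s.det
  have ha : s.a ≠ 0 := by mo_simp at *; grind
  have key : ∀ r : F, s.a = r * r ∨ s.a = -(r * r) → ∃ r ∈ T F, s = r * r ∨ s = r * r * tt :=
    fun r hr => ⟨⟨0, 0, 0, r, 0, 0, r⁻¹, by grind⟩, by simp [mem_T], by mo_simp at *; grind⟩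
  by_cases h : IsSquare s.a
  · exact h.elim fun r hr => key r (.inl hr)
  · have h5 : quadraticChar F (-1 * s.a) = 1 := by
      rw [map_mul, (quadraticChar_neg_one_iff_not_isSquare).2 h1,
        (quadraticChar_neg_one_iff_not_isSquare).2 h]; rfl
    obtain ⟨r, hr⟩ := (quadraticChar_one_iff_isSquare (by simpa using ha)).1 h5
    exact key r (.inr (by linear_combination -hr))

theorem le_of_U {H : Subgroup (Mo F)} (h1 : U F ≤ H) (h2 : ∀ u ∈ U F, nn * u * nn⁻¹ ∈ H) :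
    L F ≤ H := by
  have key : ∀ m ∈ L F, m.c ≠ 0 → m ∈ H := fun m hm hc => by
    have h0 := m.det
    have : m = uu ((m.a - 1) / m.c) * (nn * uu (-m.c) * nn⁻¹) * uu ((m.d - 1) / m.c) := by
      mo_simp at *; grind
    rw [this]
    exact mul_mem (mul_mem (h1 (uu_mem _)) (h2 _ (uu_mem _))) (h1 (uu_mem _))
  intro m hm
  by_cases hc : m.c = 0
  · have h3 := h2 _ (uu_mem 1)
    have h0 := m.det
    refine (H.mul_mem_cancel_left h3).1 (key _ (mul_mem (conj_mem_L (U_le_L (uu_mem 1))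
      (L_le_ZL nn_mem)) hm) ?_)
    mo_simp at *; grind
  · exact key m hm hc

theorem commutator_L [Finite F] (h3 : 3 < Nat.card F) : ⁅L F, L F⁆ = L F := by
  haveI := Fintype.ofFinite F
  rw [← range_ell, MonoidHom.range_eq_map, ← map_commutator, ← _root_.commutator_def,
    H95.QC.commutator_SL2 (by rwa [← Nat.card_eq_fintype_card])]

theorem mem_zpowers_tt {m : Mo F} : m ∈ zpowers tt ↔ m = 1 ∨ m = tt := by
  refine ⟨fun h => ?_, by rintro (rfl | rfl); exacts [one_mem _, mem_zpowers _]⟩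
  refine zpowers_le.2 (show tt ∈ (⟨⟨⟨{m | m = 1 ∨ m = tt}, ?_⟩, .inl rfl⟩, ?_⟩ : Subgroup (Mo F))
    from .inr rfl) h
  · rintro _ _ (rfl | rfl) (rfl | rfl) <;> simp [tt_mul_tt]
  · rintro _ (rfl | rfl) <;> simp [tt_inv]

theorem exists_sq_ne_one [Finite F] (h3 : 3 < Nat.card F) : ∃ c : F, c ≠ 0 ∧ c ^ 2 ≠ 1 := by
  haveI := Fintype.ofFinite F
  exact H95.QC.exists_sq_ne_one (by rwa [← Nat.card_eq_fintype_card])

theorem simple_L [Finite F] (h3 : 3 < Nat.card F) {J : Subgroup (Mo F)} (hJ : J ⊴ L F) :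
    J ≤ zpowers tt ∨ J = L F := by
  have hm (g : SL(2, F)) : ell g ∈ L F := range_ell (F := F) ▸ ⟨g, rfl⟩
  have hn : (J.comap ell).Normal := ⟨fun a ha g => by
    rw [mem_comap, map_mul, map_mul, map_inv]; exact hJ.conj_mem (hm g) ha⟩
  obtain ⟨c, hc, hc'⟩ := exists_sq_ne_one h3
  by_cases h : J.comap ell ≤ center _
  · refine .inl fun m hmJ => ?_
    obtain ⟨g, rfl⟩ : m ∈ (ell (F := F)).range := range_ell (F := F) ▸ hJ.le hmJ
    obtain ⟨u, hu⟩ : uu 1 ∈ (ell (F := F)).range := range_ell (F := F) ▸ U_le_L (uu_mem 1)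
    obtain ⟨n, hn⟩ : nn ∈ (ell (F := F)).range := range_ell (F := F) ▸ nn_mem
    have e1 := congrArg ell (mem_center_iff.1 (h hmJ) u)
    have e2 := congrArg ell (mem_center_iff.1 (h hmJ) n)
    rw [map_mul, map_mul] at e1 e2
    rw [hu] at e1
    rw [hn] at e2
    have e3 := hm g
    have e4 := (ell g).det
    rw [mem_zpowers_tt]
    generalize ell g = m at *
    have h1 : m.a = 1 ∨ m.a = -1 := by rw [← mul_self_eq_one_iff]; mo_simp at *; grind
    mo_simp at *; grind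
  · refine .inr (hJ.le.antisymm fun m hmL => ?_)
    obtain ⟨g, rfl⟩ : m ∈ (ell (F := F)).range := range_ell (F := F) ▸ hmL
    exact (H82.normal_eq_top_of_not_le_center hc hc' h).ge (mem_top g)

theorem cent_T {c : F} (hc : c ≠ 0) (hc' : c ^ 2 ≠ 1) {g : Mo F} (hg : g ∈ L F)
    (h : g * dd (Units.mk0 c hc) = dd (Units.mk0 c hc) * g) : g ∈ T F := by
  simp only [dd, Units.val_mk0] at h
  mo_simp at *; grind

theorem nn_conj_T {s : Mo F} (hs : s ∈ T F) : nn * s * nn⁻¹ = s⁻¹ := by mo_simp at *; grind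

theorem eq_nn {s : Mo F} (hs : s ∈ T F) (h : (s * nn * uu 1) ^ 3 = tt) : s = 1 := by
  have := s.det
  simp only [pow_succ, pow_zero, one_mul] at h
  mo_simp at *; grind

theorem nn_uu_cube : (nn * uu 1 : Mo F) ^ 3 = tt := by
  simp only [pow_succ, pow_zero, one_mul]
  mo_simp; grind

section Three

variable [CharP F 3]

theorem cube_P {m : Mo F} (hm : m ∈ P F) (h : m ^ 3 = 1) : m ∈ M F ∨ m ∈ Q F := by
  simp only [pow_succ, pow_zero, one_mul] at h
  mo_simp at *; grind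

def jj : Mo F := ⟨0, 0, 0, 1, 1, 1, -1, by grind⟩

/-- choose the right disjunct -/
macro "mo_pick" : tactic =>
  `(tactic| (try simp only [jj]) <;>
    (repeat (first | (left; mo_simp <;> grind) | right)) <;> (mo_simp <;> grind))

theorem jj_mem : jj ∈ L F := ⟨rfl, rfl, rfl⟩
theorem jj_mul_jj : (jj * jj : Mo F) = tt := by simp only [jj]; mo_simp; grind
theorem jj_mul_nn : (jj * nn : Mo F) = tt * (nn * jj) := by simp only [jj]; mo_simp; grind

variable (F) in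
/-- the quaternion group of order 8 -/
def S1 : Subgroup (Mo F) where
  carrier := {m | m = 1 ∨ m = tt ∨ m = nn ∨ m = tt * nn ∨ m = jj ∨ m = tt * jj ∨ m = nn * jj ∨
    m = tt * (nn * jj)}
  mul_mem' := by
    have h1 : (nn * tt : Mo F) = tt * nn := tt_comm (L_le_ZL nn_mem)
    have h2 : (jj * tt : Mo F) = tt * jj := tt_comm (L_le_ZL jj_mem)
    have h3 (x : Mo F) : nn * (tt * x) = tt * (nn * x) := by rw [← mul_assoc, h1, mul_assoc]
    have h4 (x : Mo F) : jj * (tt * x) = tt * (jj * x) := by rw [← mul_assoc, h2, mul_assoc]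
    have h5 (x : Mo F) : tt * (tt * x) = x := by rw [← mul_assoc, tt_mul_tt, one_mul]
    have h6 (x : Mo F) : nn * (nn * x) = tt * x := by rw [← mul_assoc, nn_mul_nn]
    have h7 (x : Mo F) : jj * (jj * x) = tt * x := by rw [← mul_assoc, jj_mul_jj]
    have h8 (x : Mo F) : jj * (nn * x) = tt * (nn * (jj * x)) := by
      rw [← mul_assoc, jj_mul_nn, mul_assoc, mul_assoc]
    rintro _ _ (rfl | rfl | rfl | rfl | rfl | rfl | rfl | rfl)
      (rfl | rfl | rfl | rfl | rfl | rfl | rfl | rfl) <;>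
      simp only [Set.mem_ofPred_eq, one_mul, mul_one, mul_assoc, h1, h2, h3, h4, h5, h6, h7, h8,
        tt_mul_tt, nn_mul_nn, jj_mul_jj, jj_mul_nn, true_or, or_true]
  one_mem' := .inl rfl
  inv_mem' := by
    rintro _ (rfl | rfl | rfl | rfl | rfl | rfl | rfl | rfl) <;>
      simp only [Set.mem_ofPred_eq] <;> mo_pick

theorem mem_S1 {m : Mo F} : m ∈ S1 F ↔ m = 1 ∨ m = tt ∨ m = nn ∨ m = tt * nn ∨ m = jj ∨
    m = tt * jj ∨ m = nn * jj ∨ m = tt * (nn * jj) := Iff.rfl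

theorem tt_mem_S1 : tt ∈ S1 F := by simp [mem_S1]
theorem nn_mem_S1 : nn ∈ S1 F := by simp [mem_S1]
theorem jj_mem_S1 : jj ∈ S1 F := by simp [mem_S1]

theorem S1_le_L : S1 F ≤ L F := by
  have := T_le_L (tt_mem (F := F))
  have := nn_mem (F := F)
  have := jj_mem (F := F)
  rintro _ (rfl | rfl | rfl | rfl | rfl | rfl | rfl | rfl) <;> simp [mul_mem, *]

theorem S1_le {H : Subgroup (Mo F)} (h1 : nn ∈ H) (h2 : jj ∈ H) : S1 F ≤ H := by
  have : tt ∈ H := nn_mul_nn (F := F) ▸ mul_mem h1 h1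
  rintro _ (rfl | rfl | rfl | rfl | rfl | rfl | rfl | rfl) <;> simp [mul_mem, *]

theorem card_S1 : Nat.card (S1 F) = 8 := by
  rw [card_of (![1, tt, nn, tt * nn, jj, tt * jj, nn * jj, tt * (nn * jj)] : Fin 8 → Mo F) ?_ fun m =>
    by simp [mem_S1, Fin.exists_fin_succ, eq_comm], Nat.card_fin]
  intro i j h
  fin_cases i <;> fin_cases j <;> first | rfl | (simp only [jj] at h; simp at h; mo_simp at h; grind)

theorem S1_sq {m : Mo F} (h : m ∈ S1 F) : m = 1 ∨ m = tt ∨ m * m = tt := by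
  rcases h with rfl | rfl | rfl | rfl | rfl | rfl | rfl | rfl <;> mo_pick

theorem S1_inv {m : Mo F} (h : m ∈ S1 F) (h' : m * m = tt) : ∃ s ∈ S1 F, s * m * s⁻¹ = m * tt := by
  have : nn * m * nn⁻¹ = m * tt ∨ jj * m * jj⁻¹ = m * tt := by
    rcases h with rfl | rfl | rfl | rfl | rfl | rfl | rfl | rfl <;> simp only [jj] at * <;>
      mo_simp at * <;> grind
  exact this.elim (fun h => ⟨_, nn_mem_S1, h⟩) fun h => ⟨_, jj_mem_S1, h⟩

theorem cent_S1 {g : Mo F} (hg : g ∈ L F) (h : g * nn = nn * g) (h' : g * jj = jj * g) :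
    g = 1 ∨ g = tt := by
  have := g.det
  simp only [jj] at h'
  have h1 : g.a = 1 ∨ g.a = -1 := by rw [← mul_self_eq_one_iff]; mo_simp at *; grind
  mo_simp at *; grind

theorem uu_mem_norm [Finite F] : uu 1 ∈ N[S1 F] := mem_normalizer_of_cj_le (cj_le_iff.2 (by
  rintro _ (rfl | rfl | rfl | rfl | rfl | rfl | rfl | rfl) <;> rw [mem_S1] <;> mo_pick))

theorem mem_S1_of_comm (h1 : ∀ a : F, a * a ≠ -1) {g : Mo F} (hg : g ∈ L F) (h : g * nn = nn * g)
    (h' : g * jj * g⁻¹ ∈ S1 F) : g ∈ S1 F := by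
  have := g.det
  have h2 := h1 g.a
  have h3 : g.a = 0 ∨ g.b = 0 := by simp only [mem_S1, jj] at h'; mo_simp at *; grind
  have h4 : g.a = 0 ∧ (g.b = 1 ∨ g.b = -1) ∨ g.b = 0 ∧ (g.a = 1 ∨ g.a = -1) := by
    simp only [← mul_self_eq_one_iff]; clear h'; mo_simp at *; grind
  clear h' h1 h2 h3
  rw [mem_S1]
  mo_simp at hg h
  rcases h4 with ⟨h4, h5 | h5⟩ | ⟨h4, h5 | h5⟩ <;> mo_pick

theorem norm_S1 [Finite F] (h1 : ∀ a : F, a * a ≠ -1) {g : Mo F} (hg : g ∈ L F)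
    (h : g ∈ N[S1 F]) : ∃ s ∈ S1 F, ∃ u ∈ zpowers (uu (1 : F)), g = s * u := by
  have key : ∀ g ∈ L F, g ∈ N[S1 F] → g * nn * g⁻¹ = nn ∨ g * nn * g⁻¹ = tt * nn → g ∈ S1 F := by
    rintro g hg h (e | e)
    · exact mem_S1_of_comm h1 hg (mul_inv_eq_iff_eq_mul.1 e) (conj_mem_of_mem_normalizer h jj_mem_S1)
    · refine ((S1 F).mul_mem_cancel_left jj_mem_S1).1 (mem_S1_of_comm h1 (mul_mem jj_mem hg) ?_
        (conj_mem_of_mem_normalizer (mul_mem (le_normalizer jj_mem_S1) h) jj_mem_S1))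
      rw [mul_assoc, mul_inv_eq_iff_eq_mul.1 e]
      simp only [jj]; mo_simp; grind
  have hu : uu 1 ∈ L F := U_le_L (uu_mem 1)
  have h2 : ∃ u ∈ zpowers (uu (1 : F)), u * g * nn * (u * g)⁻¹ = nn ∨
      u * g * nn * (u * g)⁻¹ = tt * nn := by
    have e (u : Mo F) : u * g * nn * (u * g)⁻¹ = u * (g * nn * g⁻¹) * u⁻¹ := by group
    simp only [e]
    have h3 : g * nn * g⁻¹ * (g * nn * g⁻¹) = tt := by
      rw [conj_mul, nn_mul_nn, tt_comm (L_le_ZL hg), mul_inv_cancel_right]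
    have h4 := conj_mem_of_mem_normalizer h nn_mem_S1
    generalize g * nn * g⁻¹ = m at *
    have h5 : (m = nn ∨ m = tt * nn) ∨ (uu 1 * m * (uu 1)⁻¹ = nn ∨ uu 1 * m * (uu 1)⁻¹ = tt * nn) ∨
        ((uu 1)⁻¹ * m * (uu 1)⁻¹⁻¹ = nn ∨ (uu 1)⁻¹ * m * (uu 1)⁻¹⁻¹ = tt * nn) := by
      simp only [or_assoc]
      rcases h4 with rfl | rfl | rfl | rfl | rfl | rfl | rfl | rfl
      · mo_simp at h3; grind
      · mo_simp at h3; grind
      all_goals clear h3; mo_pick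
    rcases h5 with h5 | h5 | h5
    · exact ⟨1, one_mem _, by simpa using h5⟩
    · exact ⟨_, mem_zpowers _, h5⟩
    · exact ⟨_, inv_mem (mem_zpowers _), h5⟩
  obtain ⟨u, hu', h3⟩ := h2
  have h4 : u ∈ N[S1 F] := zpowers_le.2 uu_mem_norm hu'
  exact ⟨_, conj_mem_of_mem_normalizer' h4 (key _ (mul_mem (zpowers_le.2 hu hu') hg)
    (mul_mem h4 h) h3), u⁻¹, inv_mem hu', by group⟩

end Three

end Cfsg.Agent.H14.SP.Mo
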