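import Mathlib
import Cfsg.Agent.H14.SPMo2
import Cfsg.Agent.H63.QuoCore
import Cfsg.Agent.H63.BG1

/-! Groups in which the centraliser of a `p`-central element is that of `PSp₄(q)`. -/

set_option autoImplicit false
set_option linter.unusedSectionVars false
set_option linter.unusedSimpArgs false
set_option linter.style.haveILetI false

namespace Cfsg.Agent.H14.SP

open Subgroup Cfsg.Agent.H63 Cfsg.Agent.H67

section Count

variable {G α : Type*} [Group G] (f : G → α → α) (h1 : ∀ a, f 1 a = a)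
  (hm : ∀ g h a, f (g * h) a = f g (f h a))

include h1 hm

theorem ncard_orbit {Γ K : Subgroup G} (a : α) (hK : ∀ g ∈ Γ, f g a = a ↔ g ∈ K) :
    {b | ∃ g ∈ Γ, f g a = b}.ncard = K.relIndex Γ := by
  letI : SMul Γ α := ⟨fun g a => f g a⟩
  letI : MulAction Γ α := { one_smul := h1, mul_smul := fun g h a => hm g h a }
  have e : MulAction.stabilizer Γ a = K.subgroupOf Γ := by ext g; exact hK g g.2
  rw [relIndex, ← e, MulAction.index_stabilizer]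
  congr 1
  ext b
  exact ⟨fun ⟨g, hg, e⟩ => ⟨⟨g, hg⟩, e⟩, fun ⟨g, e⟩ => ⟨g, g.2, e⟩⟩

theorem relIndex_dvd_ncard {Γ K : Subgroup G} {S : Set α} (hf : S.Finite)
    (hS : ∀ g ∈ Γ, ∀ s ∈ S, f g s ∈ S) (hK : ∀ s ∈ S, ∀ g ∈ Γ, f g s = s ↔ g ∈ K) :
    K.relIndex Γ ∣ S.ncard := by
  classical
  haveI := hf.to_subtype
  letI : SMul Γ S := ⟨fun g a => ⟨f g a, hS g g.2 a a.2⟩⟩
  letI : MulAction Γ S :=
    { one_smul := fun a => Subtype.ext (h1 a), mul_smul := fun g h a => Subtype.ext (hm g h a) }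
  haveI := Fintype.ofFinite (MulAction.orbitRel.Quotient Γ S)
  rw [← Nat.card_coe_set_eq, Nat.card_congr (MulAction.selfEquivSigmaOrbits' Γ S), Nat.card_sigma]
  refine Finset.dvd_sum fun w _ => ?_
  have e : MulAction.stabilizer Γ w.out = K.subgroupOf Γ := by
    ext g; exact Subtype.ext_iff.trans (hK _ w.out.2 g g.2)
  rw [w.orbit_eq_orbit_out Quotient.out_eq', Nat.card_coe_set_eq, ← MulAction.index_stabilizer, e]
  rfl

end Count

theorem ncard_diff_of_le {G : Type*} [Group G] [Finite G] {A B : Subgroup G} (h : A ≤ B) :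
    {x | x ∈ B ∧ x ∉ A}.ncard = Nat.card B - Nat.card A :=
  Set.ncard_sdiff (s := (A : Set G)) (t := (B : Set G)) h

variable {G : Type*} [Group G] {F : Type*} [Field F]

section Defs
variable (ι : Mo F →* G)
abbrev gC : Subgroup G := ι.range
abbrev gZ : Subgroup G := (Mo.Z F).map ι
abbrev gE0 : Subgroup G := (Mo.E0 F).map ι
abbrev gX : Subgroup G := (Mo.X F).map ι
abbrev gU : Subgroup G := (Mo.U F).map ι
abbrev gT : Subgroup G := (Mo.T F).map ι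
abbrev gL : Subgroup G := (Mo.L F).map ι
abbrev gZL : Subgroup G := (Mo.ZL F).map ι
abbrev gE : Subgroup G := (Mo.E F).map ι
abbrev gW : Subgroup G := (Mo.W F).map ι
abbrev gWT : Subgroup G := (Mo.WT F).map ι
abbrev gQ : Subgroup G := (Mo.Q F).map ι
abbrev gM : Subgroup G := (Mo.M F).map ι
abbrev gP : Subgroup G := (Mo.P F).map ι
abbrev gB : Subgroup G := (Mo.B F).map ι
abbrev gt : G := ι Mo.tt
end Defs

structure Sx (ι : Mo F →* G) : Prop where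
  inj : Function.Injective ι
  two : (2 : F) ≠ 0
  cz : ∀ s ≠ 0, C1[ι (Mo.zz s)] = ι.range

theorem exists_sx [Fintype F] {p : ℕ} [Fact p.Prime] (hp : p ≠ 2) {n : ℕ}
    (hF : Fintype.card F = p ^ n) {x : PSp 2 F} (hx : x ≠ 1) (S : Sylow p (PSp 2 F))
    (hxS : x ∈ (S : Subgroup (PSp 2 F))) (hc : ∀ y ∈ (S : Subgroup (PSp 2 F)), y * x = x * y)
    {a : G} (e : C1[a] ≃* C1[x])
    (hb : ∀ z ∈ C1[a], z ≠ 1 → (∀ c ∈ C1[a], c * z = z * c) → C1[z] = C1[a]) :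
    ∃ ι : Mo F →* G, Sx ι ∧ gC ι = C1[a] := by
  obtain ⟨h2, ⟨f⟩⟩ := Mo.exists_equiv hp hF hx S hxS hc
  let g := f.trans e.symm
  have hi : Function.Injective (C1[a].subtype.comp g.toMonoidHom) :=
    Subtype.val_injective.comp g.injective
  have hr : (C1[a].subtype.comp g.toMonoidHom).range = C1[a] := by
    rw [MonoidHom.range_comp, MonoidHom.range_eq_top.2 g.surjective, ← MonoidHom.range_eq_map,
      range_subtype]
  refine ⟨_, ⟨hi, h2, fun s hs => ?_⟩, hr⟩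
  rw [hr]
  refine hb _ (g _).2 (fun e => hs (Mo.zz_eq_one.1 (hi (e.trans (map_one _).symm)))) fun c hc => ?_
  obtain ⟨m, rfl⟩ := hr.ge hc
  rw [← map_mul, ← map_mul, Mo.Z_comm (Mo.zz_mem s)]

/-- the conjugate embedding -/
def cjι (g : G) (ι : Mo F →* G) : Mo F →* G := (MulAut.conj g).toMonoidHom.comp ι

theorem map_cjι (g : G) (ι : Mo F →* G) (A : Subgroup (Mo F)) :
    A.map (cjι g ι) = cj g (A.map ι) := (map_map _ _ _).symm

theorem range_cjι (g : G) (ι : Mo F →* G) : gC (cjι g ι) = cj g (gC ι) :=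
  MonoidHom.range_comp _ _

namespace Sx

variable {ι : Mo F →* G} (h : Sx ι)
include h

theorem cj (g : G) : Sx (cjι g ι) :=
  ⟨(MulAut.conj g).injective.comp h.inj, h.two, fun s hs => by
    rw [show (cjι g ι).range = _ from range_cjι g ι, gC, ← h.cz s hs, cj_centralizer_singleton]; rfl⟩

theorem mem {A : Subgroup (Mo F)} {m : Mo F} : ι m ∈ A.map ι ↔ m ∈ A := mem_map_iff_mem h.inj
theorem eq {m n : Mo F} : ι m = ι n ↔ m = n := h.inj.eq_iff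
theorem eq_one {m : Mo F} : ι m = 1 ↔ m = 1 := map_eq_one_iff _ h.inj
theorem card_map (A : Subgroup (Mo F)) : Nat.card (A.map ι) = Nat.card A :=
  card_map_of_injective h.inj
theorem inf {A B D : Subgroup (Mo F)} (e : A ⊓ B = D) : A.map ι ⊓ B.map ι = D.map ι :=
  e ▸ (map_inf _ _ _ h.inj).symm
theorem inf_bot {A B : Subgroup (Mo F)} (e : A ⊓ B = ⊥) : A.map ι ⊓ B.map ι = ⊥ :=
  (h.inf e).trans (Subgroup.map_bot _)
omit h in
theorem le_C (A : Subgroup (Mo F)) : A.map ι ≤ gC ι := map_le_range _ _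

end Sx

/-- pull statements back to the model -/
macro "pull " h:term : tactic =>
  `(tactic| simp only [gt, ne_eq, SetLike.mem_coe, ← map_mul, ← map_inv, ← map_pow, Sx.mem $h, Sx.eq $h,
    Sx.eq_one $h] at *)

namespace Sx

variable {ι : Mo F →* G} (h : Sx ι)
include h

theorem t_ne : gt ι ≠ 1 := fun e => Mo.tt_ne_one h.two (h.eq_one.1 e)
omit h in
theorem t_mul : gt ι * gt ι = 1 := by rw [← map_mul, Mo.tt_mul_tt, map_one]
omit h in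
theorem t_inv : (gt ι)⁻¹ = gt ι := inv_eq_of_mul_eq_one_right t_mul
omit h in
theorem t_mem : gt ι ∈ gT ι := mem_map_of_mem _ Mo.tt_mem
omit h in
theorem mem_zpowers_t {x : G} : x ∈ zpowers (gt ι) ↔ x = 1 ∨ x = gt ι := by
  rw [← MonoidHom.map_zpowers]
  refine ⟨?_, by rintro (rfl | rfl); exacts [one_mem _, mem_map_of_mem _ (mem_zpowers _)]⟩
  rintro ⟨m, hm, rfl⟩
  rcases Mo.mem_zpowers_tt.1 hm with rfl | rfl <;> simp
theorem orderOf_t : orderOf (gt ι) = 2 := orderOf_eq_prime (by rw [sq, t_mul]) h.t_ne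

theorem cent_z {z : G} (hz : z ∈ gZ ι) (h1 : z ≠ 1) : C1[z] = gC ι := by
  obtain ⟨m, hm, rfl⟩ := hz
  rw [← Mo.eq_zz_of_mem hm] at h1 ⊢
  exact h.cz _ fun e => h1 (h.eq_one.2 (Mo.zz_eq_one.2 e))

theorem mem_C {z g : G} (hz : z ∈ gZ ι) (h1 : z ≠ 1) (e : g * z = z * g) : g ∈ gC ι :=
  h.cent_z hz h1 ▸ mem_centralizer_singleton_iff.2 e

omit h in
theorem Z_comm {z g : G} (hz : z ∈ gZ ι) (hg : g ∈ gC ι) : g * z = z * g := by
  obtain ⟨z, hz, rfl⟩ := hz; obtain ⟨g, rfl⟩ := hg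
  rw [← map_mul, ← map_mul, Mo.Z_comm hz]
omit h in
theorem M_comm {m n : G} (hm : m ∈ gM ι) (hn : n ∈ gM ι) : m * n = n * m := by
  obtain ⟨m, hm, rfl⟩ := hm; obtain ⟨n, hn, rfl⟩ := hn
  rw [← map_mul, ← map_mul, Mo.M_comm hm hn]
omit h in
theorem T_comm {m n : G} (hm : m ∈ gT ι) (hn : n ∈ gT ι) : m * n = n * m := by
  obtain ⟨m, hm, rfl⟩ := hm; obtain ⟨n, hn, rfl⟩ := hn
  rw [← map_mul, ← map_mul, Mo.T_comm hm hn]
omit h in
theorem t_comm {m : G} (hm : m ∈ gZL ι) : m * gt ι = gt ι * m := by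
  obtain ⟨m, hm, rfl⟩ := hm
  rw [← map_mul, ← map_mul, Mo.tt_comm hm]
omit h in
theorem ZL_le_K : gZL ι ≤ C1[gt ι] := fun _ hm => mem_centralizer_singleton_iff.2 (t_comm hm)
omit h in
theorem isComm_M : IsMulCommutative (gM ι) := ⟨⟨fun a b => Subtype.ext (M_comm a.2 b.2)⟩⟩

theorem exists_z : ∃ z ∈ gZ ι, z ≠ 1 :=
  ⟨_, mem_map_of_mem _ (Mo.zz_mem 1), fun e => one_ne_zero (Mo.zz_eq_one.1 (h.eq_one.1 e))⟩

theorem cent_Z : C[gZ ι] = gC ι := by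
  obtain ⟨z, hz, h1⟩ := h.exists_z
  exact le_antisymm (h.cent_z hz h1 ▸ centralizer_le_centralizer_singleton hz)
    fun g hg => mem_centralizer_iff.2 fun z hz => (Z_comm hz hg).symm

theorem mem_Z_of_comm {m : G} (hm : m ∈ gC ι) (hc : ∀ y ∈ gQ ι, m * y = y * m) : m ∈ gZ ι := by
  obtain ⟨m, rfl⟩ := hm
  have e1 := hc _ (mem_map_of_mem _ (Mo.E_le_Q (Mo.E0_le_E (Mo.ee_mem 1))))
  have e2 := hc _ (mem_map_of_mem _ (Mo.X_le_Q (Mo.xx_mem 1)))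
  clear hc
  pull h
  exact Mo.mem_Z_of_comm h.two e1 e2

theorem center_C : Z[gC ι] = gZ ι :=
  le_antisymm (fun _ hm => h.mem_Z_of_comm hm.1 fun _ hy => (hm.2 _ (le_C _ hy)).symm)
    (le_inf (le_C _) fun _ hz _ hg => Z_comm hz hg)

theorem center_P : Z[gP ι] = gZ ι :=
  le_antisymm (fun _ hm => h.mem_Z_of_comm (le_C _ hm.1) fun _ hy =>
    (hm.2 _ (map_mono Mo.Q_le_P hy)).symm)
    (le_inf (map_mono (Mo.Z_le_Q.trans Mo.Q_le_P)) fun _ hz _ hg => Z_comm hz (le_C _ hg))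

theorem NC_le : N[gC ι] ≤ N[gZ ι] := h.center_C ▸ normalizer_le_normalizer_center _
theorem NP_le : N[gP ι] ≤ N[gZ ι] := h.center_P ▸ normalizer_le_normalizer_center _
theorem le_NC : N[gZ ι] ≤ N[gC ι] := h.cent_Z ▸ normalizer_le_normalizer_centralizer _
theorem C_le : gC ι ≤ N[gZ ι] := le_normalizer.trans h.NC_le
theorem C_normal : gC ι ⊴ N[gZ ι] := ⟨h.C_le, h.le_NC⟩

/-- `Z` is a trivial intersection set -/
theorem ti {z g : G} (hz : z ∈ gZ ι) (h1 : z ≠ 1) (hg : g * z * g⁻¹ ∈ gZ ι) : g ∈ N[gZ ι] :=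
  h.NC_le (cj_eq_self_iff.1 (by
    rw [← h.cent_z hz h1, cj_centralizer_singleton, h.cent_z hz h1, h.cent_z hg (by simpa)]))

theorem cj_eq_of_mem {y g : G} (hy : y ∈ gZ ι) (h1 : y ≠ 1) (hg : y ∈ H63.cj g (gZ ι)) :
    H63.cj g (gZ ι) = gZ ι :=
  cj_eq_self (by simpa using inv_mem (h.ti (g := g⁻¹) hy h1 (by simpa using mem_cj.1 hg)))

theorem cent_cj {y g : G} (hy : y ∈ H63.cj g (gZ ι)) (h1 : y ≠ 1) : C1[y] = H63.cj g (gC ι) := by
  obtain ⟨z, hz, rfl⟩ := mem_cj'.1 hy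
  rw [← h.cent_z hz (by simpa using h1), cj_centralizer_singleton]

theorem cent_P {g m : G} (hg : g ∈ gP ι) (hg' : g ∉ gM ι) (hm : m ∈ gM ι) (e : g * m = m * g) :
    m ∈ gZ ι := by
  obtain ⟨g, hg, rfl⟩ := hg; obtain ⟨m, hm, rfl⟩ := hm
  pull h; exact Mo.cent_P h.two hg hg' hm e

theorem cent_E {y g : G} (hy : y ∈ gE ι) (hy' : y ∉ gZ ι) (hg : g ∈ gC ι) (e : g * y = y * g) :
    g ∈ gM ι := by
  obtain ⟨y, hy, rfl⟩ := hy; obtain ⟨g, rfl⟩ := hg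
  pull h; exact Mo.cent_E h.two hy hy' e

theorem cent_W {y g : G} (hy : y ∈ gW ι) (hy' : y ∉ gZ ι) (hg : g ∈ gC ι) (e : g * y = y * g) :
    g ∈ gM ι ∨ g * gt ι ∈ gM ι := by
  obtain ⟨y, hy, rfl⟩ := hy; obtain ⟨g, rfl⟩ := hg
  pull h; exact Mo.cent_W hy hy' e

theorem cent_t {g : G} (hg : g ∈ gC ι) (e : g ∈ C1[gt ι]) : g ∈ gZL ι := by
  obtain ⟨g, rfl⟩ := hg
  rw [mem_centralizer_singleton_iff] at e
  pull h; exact Mo.cent_tt h.two e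

theorem mem_W {g : G} (hg : g ∈ gM ι) (e : g ∈ C1[gt ι]) : g ∈ gW ι :=
  (h.inf Mo.M_inf_ZL).le ⟨hg, h.cent_t (le_C _ hg) e⟩

theorem exists_conj_W {m : G} (hm : m ∈ gM ι) (hm' : m ∉ gE ι) :
    ∃ x ∈ gX ι, x * m * x⁻¹ ∈ gW ι := by
  obtain ⟨m, hm, rfl⟩ := hm
  obtain ⟨x, hx, e⟩ := Mo.exists_conj_W hm fun a => hm' (h.mem.2 a)
  exact ⟨ι x, h.mem.2 hx, by pull h; exact e⟩

theorem conj_W_unique {w x : G} (hw : w ∈ gW ι) (hw' : w ∉ gZ ι) (hx : x ∈ gX ι)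
    (e : x * w * x⁻¹ ∈ gW ι) : x = 1 := by
  obtain ⟨w, hw, rfl⟩ := hw; obtain ⟨x, hx, rfl⟩ := hx
  pull h; exact Mo.conj_W_unique hw hw' hx e

theorem sq_eq_one {g : G} (hg : g ∈ gZL ι) (e : g * g = 1) : g = 1 ∨ g = gt ι := by
  obtain ⟨g, hg, rfl⟩ := hg
  pull h; exact Mo.sq_eq_one_L h.two hg e

theorem inv_conj {g : G} (hg : g ∈ gC ι) (e : g * g = 1) (h1 : g ≠ 1) :
    ∃ y ∈ gQ ι, g = y * gt ι * y⁻¹ := by
  obtain ⟨g, rfl⟩ := hg
  pull h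
  obtain ⟨y, hy, e⟩ := Mo.inv_conj h.two e h1
  exact ⟨ι y, h.mem.2 hy, by pull h; exact e⟩

theorem conj_E {y y' : G} (hy : y ∈ gE ι) (hz : y ∉ gZ ι) (hy' : y' ∈ gE ι) (hz' : y' ∉ gZ ι) :
    ∃ b ∈ gB ι, b * y * b⁻¹ = y' := by
  obtain ⟨y, hy, rfl⟩ := hy; obtain ⟨y', hy', rfl⟩ := hy'
  obtain ⟨b, hb, rfl⟩ := Mo.conj_E h.two hy fun a => hz (h.mem.2 a)
  obtain ⟨b', hb', rfl⟩ := Mo.conj_E h.two hy' fun a => hz' (h.mem.2 a)
  exact ⟨ι (b' * b⁻¹), h.mem.2 (mul_mem hb' (inv_mem hb)), by pull h; group⟩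

theorem conj_Q {y : G} (hy : y ∈ gQ ι) : ∃ l ∈ gL ι, l * y * l⁻¹ ∈ gE ι := by
  obtain ⟨y, hy, rfl⟩ := hy
  obtain ⟨l, hl, e⟩ := Mo.conj_Q hy
  exact ⟨ι l, h.mem.2 hl, by pull h; exact e⟩

omit h in
theorem norm_of [Finite G] {A D : Subgroup (Mo F)} (e : ∀ y ∈ A, ∀ g ∈ D, g * y * g⁻¹ ∈ A) :
    D.map ι ≤ N[A.map ι] := by
  rintro _ ⟨g, hg, rfl⟩
  refine mem_normalizer_of_cj_le (cj_le_iff.2 ?_)
  rintro _ ⟨y, hy, rfl⟩
  rw [← map_inv, ← map_mul, ← map_mul]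
  exact mem_map_of_mem _ (e y hy g hg)

omit h in
theorem dec {A D J : Subgroup (Mo F)} (e : ∀ m ∈ J, ∃ a ∈ A, ∃ d ∈ D, m = a * d) {x : G}
    (hx : x ∈ J.map ι) : ∃ a ∈ A.map ι, ∃ d ∈ D.map ι, x = a * d := by
  obtain ⟨m, hm, rfl⟩ := hx
  obtain ⟨a, ha, d, hd, rfl⟩ := e m hm
  exact ⟨_, mem_map_of_mem _ ha, _, mem_map_of_mem _ hd, map_mul _ _ _⟩

omit h in
theorem exists_ZU {x : G} (hx : x ∈ gW ι) : ∃ a ∈ gZ ι, ∃ d ∈ gU ι, x = a * d :=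
  dec (fun _ => Mo.exists_ZU) hx
omit h in
theorem exists_ZL {x : G} (hx : x ∈ gZL ι) : ∃ a ∈ gZ ι, ∃ d ∈ gL ι, x = a * d :=
  dec (fun _ => Mo.exists_ZL) hx
omit h in
theorem exists_WE0 {x : G} (hx : x ∈ gM ι) : ∃ a ∈ gW ι, ∃ d ∈ gE0 ι, x = a * d :=
  dec (fun _ => Mo.exists_WE0) hx
omit h in
theorem exists_MX {x : G} (hx : x ∈ gP ι) : ∃ a ∈ gM ι, ∃ d ∈ gX ι, x = a * d :=
  dec (fun _ => Mo.exists_MX) hx
omit h in
theorem exists_PT {x : G} (hx : x ∈ gB ι) : ∃ a ∈ gP ι, ∃ d ∈ gT ι, x = a * d :=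
  dec (fun _ => Mo.exists_PT) hx
omit h in
theorem exists_WT {x : G} (hx : x ∈ gWT ι) : ∃ a ∈ gW ι, ∃ d ∈ gT ι, x = a * d :=
  dec (fun _ => Mo.exists_WT) hx

theorem mem_E0_iff {m : G} (hm : m ∈ gM ι) : m ∈ gE0 ι ↔ gt ι * m * (gt ι)⁻¹ = m⁻¹ := by
  obtain ⟨m, hm, rfl⟩ := hm
  pull h; exact Mo.mem_E0_iff h.two hm

theorem t_not_comm : ¬ ∀ y ∈ gQ ι, gt ι * y = y * gt ι := fun e =>
  h.t_ne (mem_bot.1 ((h.inf_bot Mo.Z_inf_L).le
    ⟨h.mem_Z_of_comm ⟨_, rfl⟩ e, map_mono Mo.T_le_L t_mem⟩))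

variable [Finite G]

omit h in
theorem C_le_NQ : gC ι ≤ N[gQ ι] := by
  rw [gC, MonoidHom.range_eq_map]; exact norm_of fun _ hy g _ => Mo.conj_mem_Q hy g
omit h in
theorem B_le_NP : gB ι ≤ N[gP ι] := norm_of fun _ hy _ hg => Mo.conj_mem_P hy hg
omit h in
theorem B_le_NM : gB ι ≤ N[gM ι] := norm_of fun _ hy _ hg => Mo.conj_mem_M hy hg
omit h in
theorem B_le_NE : gB ι ≤ N[gE ι] := norm_of fun _ hy _ hg => Mo.conj_mem_E hy hg
omit h in
theorem T_le_NX : gT ι ≤ N[gX ι] := norm_of fun _ hy _ hg => Mo.conj_mem_X hy hg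
omit h in
theorem WT_le_NU : gWT ι ≤ N[gU ι] := norm_of fun _ hy _ hg => Mo.conj_mem_U hy hg
omit h in
theorem WT_le_NW : gWT ι ≤ N[gW ι] := norm_of fun _ hy _ hg => Mo.conj_mem_W hy hg
omit h in
theorem ZL_le_NL : gZL ι ≤ N[gL ι] := norm_of fun _ hy _ hg => Mo.conj_mem_L hy hg
omit h in
theorem P_le_H : gP ι ≤ N[gM ι] := (map_mono Mo.P_le_B).trans B_le_NM

theorem mem_B {g : G} (hg : g ∈ gC ι) (hg' : g ∈ N[gM ι]) : g ∈ gB ι := by
  have := map_mono (f := ι) Mo.M_le_P (conj_mem_of_mem_normalizer hg'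
    (mem_map_of_mem ι (Mo.W_le_M (Mo.U_le_W (Mo.uu_mem 1)))))
  obtain ⟨g, rfl⟩ := hg
  clear hg'
  pull h; exact Mo.mem_B_of_conj this

theorem H_inf_C : N[gM ι] ⊓ gC ι = gB ι :=
  le_antisymm (fun _ hg => h.mem_B hg.2 hg.1) (le_inf B_le_NM (le_C _))

theorem finF : Finite F :=
  Finite.of_injective (fun s => ι (Mo.zz s)) fun _ _ e => congrArg Mo.z (h.inj e)

theorem one_lt : 1 < Nat.card F := haveI := h.finF; Finite.one_lt_card

theorem exists_p : ∃ p : ℕ, ∃ _ : Fact p.Prime, CharP F p :=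
  haveI := h.finF
  let ⟨p, _⟩ := CharP.exists F
  ⟨p, ⟨CharP.char_is_prime F p⟩, ‹_›⟩

theorem eq_M {A : Subgroup G} (hA : A ≤ gP ι) (hc : IsMulCommutative A)
    (e : Nat.card A = Nat.card F ^ 3) : A = gM ι := by
  haveI := h.finF
  have h1 : (A.comap ι).map ι = A := map_comap_eq_self (hA.trans (le_C _))
  rw [← h1, Mo.eq_M_of_comm h.two (A := A.comap ι) (fun m hm => h.mem.1 (hA hm))
    ⟨⟨fun a b => Subtype.ext (h.inj (by simpa using comm_of_isMulCommutative hc a.2 b.2))⟩⟩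
    (by rw [← h.card_map, h1, e])]

theorem NP_le_H : N[gP ι] ≤ N[gM ι] := fun g hg => cj_eq_self_iff.1
  (h.eq_M (cj_le_of_mem_normalizer hg (map_mono Mo.M_le_P)) (isMulCommutative_cj_iff.2 isComm_M)
    (by rw [card_cj, h.card_map, Mo.card_M]))

theorem index_N_dvd : (gC ι).relIndex N[gZ ι] ∣ Nat.card F - 1 := by
  have := relIndex_dvd_ncard (fun g a : G => g * a * g⁻¹) (by simp) (fun _ _ _ => by group)
    (Γ := N[gZ ι]) (K := gC ι) (S := {x | x ∈ gZ ι ∧ x ∉ (⊥ : Subgroup G)}) (Set.toFinite _)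
    (fun g hg s hs => ⟨conj_mem_of_mem_normalizer hg hs.1, by simpa using hs.2⟩)
    fun s hs g _ => by
      rw [← h.cent_z hs.1 hs.2, mem_centralizer_singleton_iff, mul_inv_eq_iff_eq_mul]
  rwa [ncard_diff_of_le bot_le, h.card_map, Mo.card_Z, card_bot] at this

/-- not all the non-identity elements of `Z` are conjugate -/
def NC (ι : Mo F →* G) : Prop :=
  ∃ z ∈ gZ ι, ∃ z' ∈ gZ ι, z ≠ 1 ∧ z' ≠ 1 ∧ ∀ g : G, g * z * g⁻¹ ≠ z'

theorem index_N_ne (hc : NC ι) : (gC ι).relIndex N[gZ ι] ≠ Nat.card F - 1 := fun e => by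
  obtain ⟨z, hz, z', hz', h1, h1', hc⟩ := hc
  have h2 := ncard_orbit (fun g a : G => g * a * g⁻¹) (by simp) (fun _ _ _ => by group)
    (Γ := N[gZ ι]) (K := gC ι) z fun g _ => by
      rw [← h.cent_z hz h1, mem_centralizer_singleton_iff, mul_inv_eq_iff_eq_mul]
  have h3 := ncard_diff_of_le (bot_le : ⊥ ≤ gZ ι)
  rw [h.card_map, Mo.card_Z, card_bot, ← e, ← h2] at h3
  have h4 := Set.eq_of_subset_of_ncard_le (s := {b | ∃ g ∈ N[gZ ι], g * z * g⁻¹ = b}) (by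
    rintro _ ⟨g, hg, rfl⟩
    exact ⟨conj_mem_of_mem_normalizer hg hz, by simpa using h1⟩) h3.le
  obtain ⟨g, -, e⟩ := h4.ge (⟨hz', h1'⟩ : z' ∈ {x | x ∈ gZ ι ∧ x ∉ (⊥ : Subgroup G)})
  exact hc g e

variable {p : ℕ} [hp : Fact p.Prime] [CharP F p]

theorem p_ne_two : p ≠ 2 := fun e => h.two (by simpa [e] using CharP.cast_eq_zero F p)

theorem exists_pow : ∃ n, n ≠ 0 ∧ Nat.card F = p ^ n := by
  haveI := h.finF
  haveI := Fintype.ofFinite F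
  obtain ⟨n, -, hn⟩ := FiniteField.card F p
  exact ⟨n, n.ne_zero, by rw [Nat.card_eq_fintype_card, hn]⟩

theorem isP_pow {A : Subgroup G} {k : ℕ} (e : Nat.card A = Nat.card F ^ k) : IsPGroup p A := by
  obtain ⟨n, -, hn⟩ := h.exists_pow (p := p)
  exact IsPGroup.of_card (e.trans (by rw [hn, ← pow_mul]))

theorem isP_P : IsPGroup p (gP ι) := h.isP_pow ((h.card_map _).trans Mo.card_P)

theorem isP {A : Subgroup (Mo F)} (hA : A ≤ Mo.P F) : IsPGroup p (A.map ι) :=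
  h.isP_P.to_le (map_mono hA)

theorem p_dvd : p ∣ Nat.card F := by
  obtain ⟨n, h0, hn⟩ := h.exists_pow (p := p)
  exact hn ▸ dvd_pow_self p h0

theorem not_dvd_pow {k : ℕ} (hk : k ≠ 0) : ¬ p ∣ Nat.card F ^ k - 1 := fun e =>
  hp.out.one_lt.ne' (Nat.dvd_one.1 ((Nat.dvd_sub_iff_right (Nat.one_le_pow _ _ (by
    have := h.one_lt; omega)) (dvd_pow h.p_dvd hk)).1 e))

theorem not_dvd : ¬ p ∣ Nat.card F - 1 := by simpa using h.not_dvd_pow (p := p) one_ne_zero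

omit h hp in
theorem pow_M {m : G} (hm : m ∈ gM ι) : m ^ p = 1 := by
  obtain ⟨m, hm, rfl⟩ := hm
  rw [← map_pow, Mo.pow_M hm, ← map_one ι]; congr 1; ext <;> simp
omit h hp in
theorem pow_Q {m : G} (hm : m ∈ gQ ι) : m ^ p = 1 := by
  obtain ⟨m, hm, rfl⟩ := hm
  rw [← map_pow, Mo.pow_Q hm, ← map_one ι]; congr 1; ext <;> simp

theorem card_C : Nat.card (gC ι) = Nat.card F ^ 4 * (Nat.card F ^ 2 - 1) := by
  haveI := h.finF
  rw [← Nat.card_congr (MonoidHom.ofInjective h.inj).toEquiv, Mo.card]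

theorem syl_of_card {A D : Subgroup G} (hA : A ≤ D) {k j : ℕ} (e : Nat.card A = Nat.card F ^ k)
    (e' : Nat.card D = Nat.card F ^ k * j) (hj : ¬ p ∣ j) : IsSyl p A D := by
  refine syl_mk hA (h.isP_pow e) ?_
  have := card_mul_relIndex hA
  rw [e, e'] at this
  rwa [Nat.eq_of_mul_eq_mul_left (by have := h.one_lt; positivity) this]

theorem syl_C : IsSyl p (gP ι) (gC ι) :=
  h.syl_of_card (le_C _) ((h.card_map _).trans Mo.card_P) h.card_C (h.not_dvd_pow two_ne_zero)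

theorem not_dvd_index : ¬ p ∣ (gC ι).relIndex N[gZ ι] := fun e => h.not_dvd (e.trans h.index_N_dvd)

theorem syl_N : IsSyl p (gP ι) N[gZ ι] :=
  hall_of_relIndex h.syl_C h.C_le ((piNat_compl_singleton_iff hp.out).2 h.not_dvd_index)

theorem syl_top : IsSyl p (gP ι) ⊤ := syl_top_of_normalizer_le h.syl_N h.NP_le

theorem syl_H : IsSyl p (gP ι) N[gM ι] := hall_of_le h.syl_top P_le_H le_top

theorem le_C_of_isP {A : Subgroup G} (hA : A ≤ N[gZ ι]) (hp' : IsPGroup p A) : A ≤ gC ι :=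
  le_of_isPi_of_normal_relIndex hA h.le_NC (isPi_of_isPGroup hp.out hp')
    ((piNat_compl_singleton_iff hp.out).2 h.not_dvd_index)

theorem HN_le_NP : N[gM ι] ⊓ N[gZ ι] ≤ N[gP ι] := by
  refine (le_normalizer_inf (inf_le_left.trans le_normalizer) (inf_le_right.trans h.le_NC)).trans ?_
  rw [h.H_inf_C]
  obtain ⟨p, _, _⟩ := h.exists_p
  exact normalizer_le_normalizer_of_normal_hall (hall_of_le (h.syl_C (p := p))
    (map_mono Mo.P_le_B) (le_C _)) ⟨map_mono Mo.P_le_B, B_le_NP⟩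

theorem le_Q_of_normal {V : Subgroup G} (hV : V ⊴ gC ι) (hp' : IsPGroup p V) : V ≤ gQ ι := by
  intro v hv
  have h1 := le_syl_of_normalIn h.syl_C hV hp'
  have h2 := h1 (hV.conj_mem (⟨Mo.nn, rfl⟩ : ι Mo.nn ∈ gC ι) hv)
  obtain ⟨m, hm, rfl⟩ := h1 hv
  clear hv
  pull h
  mo_simp at *; grind

omit hp [CharP F p] in
theorem N_le_NQ : N[gZ ι] ≤ N[gQ ι] := fun g hg => by
  obtain ⟨p, _, _⟩ := h.exists_p
  have h1 : gQ ι ⊴ gC ι := ⟨le_C _, C_le_NQ⟩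
  exact mem_normalizer_of_cj_le (h.le_Q_of_normal (p := p)
    (by simpa only [cj_eq_self (h.le_NC hg)] using h1.cj g) (isPGroup_cj (h.isP Mo.Q_le_P) g))

omit hp [CharP F p] in
theorem HN_le_NE : N[gM ι] ⊓ N[gZ ι] ≤ N[gE ι] := by
  rw [gE, ← h.inf Mo.M_inf_Q]
  exact le_normalizer_inf inf_le_left (inf_le_right.trans h.N_le_NQ)

theorem exists_cj_P (S : Sylow p G) : ∃ g, gP (cjι g ι) = S := by
  obtain ⟨g, -, e⟩ := syl_conj h.syl_top (H67.syl_top S)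
  exact ⟨g, (map_cjι _ _ _).trans e.symm⟩

theorem exists_conj_Z (S : Sylow p G) {u : G} (hu : u ∈ (S : Subgroup G))
    (hc : ∀ y ∈ (S : Subgroup G), y * u = u * y) : ∃ g, g * u * g⁻¹ ∈ gZ ι := by
  obtain ⟨g, -, e⟩ := syl_conj (H67.syl_top S) h.syl_top
  refine ⟨g, ?_⟩
  rw [← h.center_P, e, ← cj_centralizer, ← cj_inf]
  exact conj_mem_cj ⟨hu, hc⟩

theorem nc_of (S S' : Sylow p G) {u v : G} (hu : u ∈ (S : Subgroup G))
    (hc : ∀ y ∈ (S : Subgroup G), y * u = u * y) (hv : v ∈ (S' : Subgroup G))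
    (hc' : ∀ y ∈ (S' : Subgroup G), y * v = v * y) (h1 : u ≠ 1) (h1' : v ≠ 1)
    (e : ∀ g : G, g * u * g⁻¹ ≠ v) : NC ι := by
  obtain ⟨g, hg⟩ := h.exists_conj_Z S hu hc
  obtain ⟨g', hg'⟩ := h.exists_conj_Z S' hv hc'
  refine ⟨_, hg, _, hg', by simpa, by simpa, fun k hk => e (g'⁻¹ * k * g) ?_⟩
  calc _ = g'⁻¹ * (k * (g * u * g⁻¹) * k⁻¹) * g' := by group
    _ = v := by rw [hk]; group

/-- conjugates of `Z` inside `M` are conjugate under `N(M)` -/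
theorem exists_H {g : G} (hM : gM ι ≤ H63.cj g (gC ι)) :
    ∃ k ∈ N[gM ι], H63.cj g (gZ ι) = H63.cj k (gZ ι) := by
  obtain ⟨p, _, _⟩ := h.exists_p
  obtain ⟨c, hc, e⟩ := exists_cj_le_syl (h.syl_C (p := p)) (le_cj_iff_cj_inv_le.1 hM)
    (isPGroup_cj (h.isP Mo.M_le_P) _)
  rw [cj_cj] at e
  have h1 := h.eq_M e (isMulCommutative_cj_iff.2 isComm_M) (by rw [card_cj, h.card_map, Mo.card_M])
  refine ⟨(c * g⁻¹)⁻¹, inv_mem (cj_eq_self_iff.1 h1), cj_eq_cj_iff.2 ?_⟩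
  simpa using h.C_le hc

end Sx

end Cfsg.Agent.H14.SP
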