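import Mathlib

set_option autoImplicit false

namespace Cfsg.Agent.H14.K4Ar

/-- the reduced inequality -/
def C (x y z : ℤ) : Prop :=
  ∀ a b c : ℤ, |a * x + b * y + c * z| ≤
    (a ^ 2 + b ^ 2 + c ^ 2) * (1 + x ^ 2 + y ^ 2 + z ^ 2) - (a * x + b * y + c * z) ^ 2

theorem C.swap12 {x y z : ℤ} (h : C x y z) : C y x z := by
  intro a b c
  have := h b a c
  calc |a * y + b * x + c * z| = |b * x + a * y + c * z| := by ring_nf
    _ ≤ _ := this
    _ = _ := by ring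

theorem C.swap23 {x y z : ℤ} (h : C x y z) : C x z y := by
  intro a b c
  have := h a c b
  calc |a * x + b * z + c * y| = |a * x + c * y + b * z| := by ring_nf
    _ ≤ _ := this
    _ = _ := by ring

/-- scaled form: `D * w = j * d + e` -/
theorem key {x y z : ℤ} (h : C x y z) (D j a b c e f g : ℤ) (hD : 0 < D)
    (h1 : D * a = j * x + e) (h2 : D * b = j * y + f) (h3 : D * c = j * z + g) :
    j * (D - j) * (x ^ 2 + y ^ 2 + z ^ 2) + (e * x + f * y + g * z) ^ 2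
      + (D - 2 * j) * (e * x + f * y + g * z)
      ≤ (e ^ 2 + f ^ 2 + g ^ 2) * (1 + x ^ 2 + y ^ 2 + z ^ 2) := by
  have h0 := le_trans (le_abs_self _) (h a b c)
  have hD2 : 0 ≤ D ^ 2 := sq_nonneg D
  have h4 := mul_le_mul_of_nonneg_left h0 hD2
  have he : e = D * a - j * x := by linarith
  have hf : f = D * b - j * y := by linarith
  have hg : g = D * c - j * z := by linarith
  subst he hf hg
  nlinarith [h4]

theorem even3 {x y z : ℤ} (h : C x y z) (hx : x ≠ 0) (h1 : x % 2 = 0) (h2 : y % 2 = 0)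
    (h3 : z % 2 = 0) : False := by
  have := key h 2 1 (x / 2) (y / 2) (z / 2) 0 0 0 (by norm_num) (by omega) (by omega) (by omega)
  have hx2 : 0 < x ^ 2 := by positivity
  nlinarith [sq_nonneg y, sq_nonneg z]

theorem near (D j x : ℤ) (r : ℤ) (h : (j * x + r) % D = 0) : ∃ a, D * a = j * x + r :=
  ⟨(j * x + r) / D, Int.mul_ediv_cancel' (Int.dvd_of_emod_eq_zero h)⟩

theorem use {x y z : ℤ} (h : C x y z) (D j e f g : ℤ) (hD : 0 < D)
    (h1 : (j * x + e) % D = 0) (h2 : (j * y + f) % D = 0) (h3 : (j * z + g) % D = 0) :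
    4 * j * (D - j) * (x ^ 2 + y ^ 2 + z ^ 2) - (D - 2 * j) ^ 2
      ≤ 4 * (e ^ 2 + f ^ 2 + g ^ 2) * (1 + x ^ 2 + y ^ 2 + z ^ 2) := by
  obtain ⟨a, ha⟩ := near D j x e h1
  obtain ⟨b, hb⟩ := near D j y f h2
  obtain ⟨c, hc⟩ := near D j z g h3
  have := key h D j a b c e f g hD ha hb hc
  nlinarith [sq_nonneg (2 * (e * x + f * y + g * z) + (D - 2 * j))]

theorem odd2 {x y z : ℤ} (h : C x y z) (hz : z ≠ 0) (h1 : x % 2 = 1) (h2 : y % 2 = 1)
    (h3 : z % 2 = 0) : x ^ 2 + y ^ 2 + z ^ 2 ≤ 15 := by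
  have hz2 : 0 < z ^ 2 := by positivity
  by_cases h4 : z % 4 = 0
  · obtain ⟨e, he, he2⟩ : ∃ e : ℤ, (1 * x + e) % 4 = 0 ∧ e ^ 2 = 1 := by
      by_cases hh : x % 4 = 1
      · exact ⟨-1, by omega, by norm_num⟩
      · exact ⟨1, by omega, by norm_num⟩
    obtain ⟨f, hf, hf2⟩ : ∃ e : ℤ, (1 * y + e) % 4 = 0 ∧ e ^ 2 = 1 := by
      by_cases hh : y % 4 = 1
      · exact ⟨-1, by omega, by norm_num⟩
      · exact ⟨1, by omega, by norm_num⟩
    have := use h 4 1 e f 0 (by norm_num) he hf (by omega)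
    rw [he2, hf2] at this
    nlinarith
  · have r1 : ∀ (j t : ℤ), (j * t) % 2 = 1 →
        (∃ e : ℤ, (j * t + e) % 8 = 0 ∧ e ^ 2 = 1 ∧ ((j * t) % 8 = 1 ∨ (j * t) % 8 = 7)) ∨
        (∃ e : ℤ, (j * t + e) % 8 = 0 ∧ e ^ 2 = 9 ∧ ((j * t) % 8 = 3 ∨ (j * t) % 8 = 5)) := by
      intro j t ht
      generalize j * t = s at *
      have : s % 8 = 1 ∨ s % 8 = 3 ∨ s % 8 = 5 ∨ s % 8 = 7 := by omega
      rcases this with h | h | h | h
      · exact Or.inl ⟨-1, by omega, by norm_num, Or.inl h⟩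
      · exact Or.inr ⟨-3, by omega, by norm_num, Or.inl h⟩
      · exact Or.inr ⟨3, by omega, by norm_num, Or.inr h⟩
      · exact Or.inl ⟨1, by omega, by norm_num, Or.inr h⟩
    have r2 : ∀ j : ℤ, j % 2 = 1 → (j * z) % 4 = 2 → ∃ g : ℤ, (j * z + g) % 8 = 0 ∧ g ^ 2 = 4 := by
      intro j _ hj
      generalize j * z = s at *
      by_cases hh : s % 8 = 2
      · exact ⟨-2, by omega, by norm_num⟩
      · exact ⟨2, by omega, by norm_num⟩
    obtain ⟨g3, hg3, hg32⟩ := r2 3 (by norm_num) (by omega)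
    obtain ⟨g1, hg1, hg12⟩ := r2 1 (by norm_num) (by omega)
    rcases r1 3 x (by omega) with ⟨e, he, he2, _⟩ | ⟨e, he, he2, hx8⟩
    · rcases r1 3 y (by omega) with ⟨f, hf, hf2, _⟩ | ⟨f, hf, hf2, _⟩
      · have := use h 8 3 e f g3 (by norm_num) he hf hg3
        rw [he2, hf2, hg32] at this
        nlinarith
      · have := use h 8 3 e f g3 (by norm_num) he hf hg3
        rw [he2, hf2, hg32] at this
        nlinarith
    · rcases r1 3 y (by omega) with ⟨f, hf, hf2, _⟩ | ⟨f, hf, hf2, hy8⟩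
      · have := use h 8 3 e f g3 (by norm_num) he hf hg3
        rw [he2, hf2, hg32] at this
        nlinarith
      · rcases r1 1 x (by omega) with ⟨e1, he1, he12, _⟩ | ⟨e1, _, _, hh⟩
        · rcases r1 1 y (by omega) with ⟨f1, hf1, hf12, _⟩ | ⟨f1, _, _, hh⟩
          · have := use h 8 1 e1 f1 g1 (by norm_num) he1 hf1 hg1
            rw [he12, hf12, hg12] at this
            nlinarith
          · omega
        · omega

theorem sq8 (x : ℤ) : (x % 2 = 0 ∧ (x ^ 2 % 8 = 0 ∨ x ^ 2 % 8 = 4)) ∨ (x % 2 = 1 ∧ x ^ 2 % 8 = 1) := by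
  have : x % 8 = 0 ∨ x % 8 = 1 ∨ x % 8 = 2 ∨ x % 8 = 3 ∨ x % 8 = 4 ∨ x % 8 = 5 ∨ x % 8 = 6 ∨
      x % 8 = 7 := by omega
  rcases this with h | h | h | h | h | h | h | h <;> simp [pow_two, Int.mul_emod, h] <;> omega

theorem odd_le {x y z : ℤ} (h : C x y z) (hx : x ≠ 0) (hy : y ≠ 0) (hz : z ≠ 0)
    (ho : (1 + x ^ 2 + y ^ 2 + z ^ 2) % 2 = 1) :
    1 + x ^ 2 + y ^ 2 + z ^ 2 = 7 ∨ 1 + x ^ 2 + y ^ 2 + z ^ 2 = 15 := by
  have px : 0 < x ^ 2 := by positivity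
  have py : 0 < y ^ 2 := by positivity
  have pz : 0 < z ^ 2 := by positivity
  have fin : ∀ a b c : ℤ, C a b c → c ≠ 0 → a % 2 = 1 → b % 2 = 1 → c % 2 = 0 →
      1 + a ^ 2 + b ^ 2 + c ^ 2 = 7 ∨ 1 + a ^ 2 + b ^ 2 + c ^ 2 = 15 := by
    intro a b c hC hc ha hb hc2
    have h15 := odd2 hC hc ha hb hc2
    have pc : 0 < c ^ 2 := by positivity
    have a1 := sq8 a
    have b1 := sq8 b
    have c1 := sq8 c
    have pa : 0 ≤ a ^ 2 := sq_nonneg a
    have pb : 0 ≤ b ^ 2 := sq_nonneg b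
    have c8 : c ^ 2 ≠ 8 := by
      intro h8
      have : c ≤ 2 := by nlinarith
      have : -2 ≤ c := by nlinarith
      interval_cases c <;> simp at h8
    have c12 : c ^ 2 ≠ 12 := by
      intro h8
      have : c ≤ 3 := by nlinarith
      have : -3 ≤ c := by nlinarith
      interval_cases c <;> simp at h8
    generalize a ^ 2 = A at *
    generalize b ^ 2 = B at *
    generalize c ^ 2 = D at *
    omega
  rcases sq8 x with ⟨x0, x1⟩ | ⟨x0, x1⟩ <;> rcases sq8 y with ⟨y0, y1⟩ | ⟨y0, y1⟩ <;>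
    rcases sq8 z with ⟨z0, z1⟩ | ⟨z0, z1⟩
  · exact (even3 h hx x0 y0 z0).elim
  · exfalso; omega
  · exfalso; omega
  · have := fin y z x h.swap12.swap23 hx y0 z0 x0
    omega
  · exfalso; omega
  · have := fin x z y h.swap23 hy x0 z0 y0
    omega
  · exact fin x y z h hz x0 y0 z0
  · exfalso; omega

theorem arC (p m : ℕ) (hp : p.Prime) (x y z : ℤ) (hx : x ≠ 0) (hy : y ≠ 0) (hz : z ≠ 0)
    (hq : ((p ^ m : ℕ) : ℤ) = 1 + x ^ 2 + y ^ 2 + z ^ 2) (h : C x y z) :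
    p ^ m = 4 ∨ p ^ m = 7 := by
  have px : 0 < x ^ 2 := by positivity
  have py : 0 < y ^ 2 := by positivity
  have pz : 0 < z ^ 2 := by positivity
  rcases hp.eq_two_or_odd' with rfl | hodd
  · left
    rcases m with _ | _ | _ | m
    · exfalso; norm_num at hq; omega
    · exfalso; norm_num at hq; omega
    · norm_num
    · exfalso
      have h8 : ((2 ^ (m + 1 + 1 + 1) : ℕ) : ℤ) = 8 * 2 ^ m := by push_cast; ring
      rw [h8] at hq
      rcases sq8 x with ⟨x0, x1⟩ | ⟨x0, x1⟩ <;> rcases sq8 y with ⟨y0, y1⟩ | ⟨y0, y1⟩ <;>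
        rcases sq8 z with ⟨z0, z1⟩ | ⟨z0, z1⟩ <;> omega
  · right
    have ho : Odd (p ^ m) := hodd.pow
    have ho2 : (p ^ m) % 2 = 1 := Nat.odd_iff.mp ho
    rcases odd_le h hx hy hz (by omega) with h7 | h15
    · omega
    · exfalso
      have e15 : p ^ m = 15 := by omega
      have h3 : 3 ∣ p ^ m := by omega
      have h5 : 5 ∣ p ^ m := by omega
      have a3 := (Nat.prime_dvd_prime_iff_eq Nat.prime_three hp).mp (Nat.prime_three.dvd_of_dvd_pow h3)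
      have a5 := (Nat.prime_dvd_prime_iff_eq Nat.prime_five hp).mp (Nat.prime_five.dvd_of_dvd_pow h5)
      omega

theorem ar (p m : ℕ) (hp : p.Prime) (q : ℤ) (hqp : q = ((p ^ m : ℕ) : ℤ)) (x y z : ℤ)
    (hx : x ≠ 0) (hy : y ≠ 0) (hz : z ≠ 0) (hq : q = 1 + x ^ 2 + y ^ 2 + z ^ 2)
    (h : ∀ u a b c : ℤ, q * |u| ≤
      u ^ 2 + (u * x + q * a) ^ 2 + (u * y + q * b) ^ 2 + (u * z + q * c) ^ 2) :
    p ^ m = 4 ∨ p ^ m = 7 := by
  refine arC p m hp x y z hx hy hz (hqp ▸ hq) ?_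
  intro a b c
  have hq0 : 0 < q := by rw [hq]; positivity
  have h1 := h (-(a * x + b * y + c * z)) a b c
  rw [abs_neg] at h1
  have h2 : (-(a * x + b * y + c * z)) ^ 2 + (-(a * x + b * y + c * z) * x + q * a) ^ 2
      + (-(a * x + b * y + c * z) * y + q * b) ^ 2 + (-(a * x + b * y + c * z) * z + q * c) ^ 2
      = q * ((a ^ 2 + b ^ 2 + c ^ 2) * (1 + x ^ 2 + y ^ 2 + z ^ 2) - (a * x + b * y + c * z) ^ 2) := by
    rw [hq]; ring
  rw [h2] at h1
  exact le_of_mul_le_mul_left h1 hq0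

end Cfsg.Agent.H14.K4Ar
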