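import Mathlib
import Cfsg.Agent.H17.KnDef2
import Cfsg.Agent.H67.Pi
import Cfsg.Agent.H52.Fitting

/-!
# The centraliser of `DP` modulo `DP` and its core
-/

set_option autoImplicit false
set_option maxRecDepth 100000
set_option synthInstance.maxSize 2000

namespace Cfsg.Agent.H14.KnG7

open Cfsg.Agent.H11.A16 hiding z2
open Equiv Subgroup Cfsg.Agent.H63 Cfsg.Agent.H8.GD Cfsg.Agent.H17.Kn
open Cfsg.Agent.H89.Rec (Syl)
open DihedralGroup (r sr)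

universe u

/-- the dihedral group of order eight -/
abbrev D8 := DihedralGroup 4

/-- a four-group -/
def V0 : Subgroup D8 where
  carrier := {g | g = 1 ∨ g = r 2 ∨ g = sr 0 ∨ g = sr 2}
  one_mem' := .inl rfl
  mul_mem' := fun {a b} => by simp only [Set.mem_ofPred_eq]; revert a b; decide
  inv_mem' := fun {a} => by simp only [Set.mem_ofPred_eq]; revert a; decide

theorem mem_V0 {g : D8} : g ∈ V0 ↔ g = 1 ∨ g = r 2 ∨ g = sr 0 ∨ g = sr 2 := Iff.rfl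

theorem card_V0 : Nat.card V0 = 4 := by
  change Nat.card {g : D8 // g = 1 ∨ g = r 2 ∨ g = sr 0 ∨ g = sr 2} = 4
  rw [Nat.card_eq_fintype_card]
  decide +kernel

theorem d8 : (∀ g : D8, g * g = 1 → g = 1 ∨ g = r 2 ∨ g = sr 0 ∨ g = sr 2 ∨ g = sr 1 ∨
    g = r 1 * sr 1 * (r 1)⁻¹) ∧ (∀ g : D8, g * g = 1 ∨ g * g = r 2) ∧
    (∀ g : D8, g * r 2 = r 2 * g) ∧ (r 2 : D8) ≠ 1 ∧ (sr 2 : D8) ≠ r 2 ∧
    (∀ g : D8, g = 1 ∨ g = r 2 ∨ g = sr 0 ∨ g = sr 2 → g * g = 1) ∧ (r 1 * r 1 : D8) = r 2 := by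
  decide

theorem odd_of {H : Type u} [Group H] {Y : Subgroup H} (h : IsOdd Y) : Odd (Nat.card Y) := by
  rw [← Nat.not_even_iff_odd, even_iff_two_dvd]
  exact fun k => h 2 Nat.prime_two k rfl

theorem odd_mem {H : Type u} [Group H] {Y : Subgroup H} (h : Odd (Nat.card Y)) {y : H}
    (hy : y ∈ Y) : Odd (orderOf y) := h.of_dvd_nat (Y.orderOf_dvd_natCard hy)

section Abstract

variable {H : Type u} [Group H] [Finite H]

theorem core_bot (g : Gen H) {Z : Subgroup H} (hc : ∀ a ∈ Z, ∀ b, Commute a b)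
    (h2 : IsPGroup 2 Z) (K : Subgroup H) [K.Normal] (hK : K = Z ⊔ piCore {2}ᶜ H) :
    oddCore (H ⧸ K) = ⊥ := by
  haveI : Z.Normal := ⟨fun a ha b => by rwa [← (hc a ha b).eq, mul_inv_cancel_right]⟩
  set M : Subgroup H := (oddCore (H ⧸ K)).comap (QuotientGroup.mk' K) with hM
  have KM : K ≤ M := fun n hn => by
    rw [hM, mem_comap, QuotientGroup.mk'_apply, (QuotientGroup.eq_one_iff n).2 hn]
    exact one_mem _
  have ZK : Z ≤ K := hK ▸ le_sup_left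
  have i2 : Odd (K.relIndex M) := by
    have e : K.relIndex M = Nat.card (oddCore (H ⧸ K)) := by
      conv_lhs => rw [← QuotientGroup.ker_mk' K, relIndex_ker, hM,
        map_comap_eq_self_of_surjective (QuotientGroup.mk'_surjective K)]
    rw [e]
    exact Nat.coprime_two_right.1 H52.coprime_card_pPrimeCore
  have i1 : Odd (Z.relIndex K) := by
    rw [hK, relIndex_sup_left]
    exact (odd_of (H67.isPi_piCore _)).of_dvd_nat (relIndex_dvd_card _ _)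
  obtain ⟨O, OM, h1, h3, h4⟩ := g.dec M Z ⟨ZK.trans KM, h2, by
    rw [← relIndex_mul_relIndex _ _ _ ZK KM]; exact i1.mul i2⟩ fun a ha b _ => hc a ha b
  haveI : O.Normal := normalizer_eq_top_iff.1 (top_le_iff.1 (normalizer_eq_top M ▸ h3))
  have le : O ≤ piCore {2}ᶜ H := H67.le_piCore fun p hp hd => by
    haveI := Fact.mk hp
    obtain ⟨y, hy⟩ := exists_prime_orderOf_dvd_card' p hd
    have := (h1 y (OM y.2)).1 y.2
    rw [orderOf_coe, hy] at this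
    rintro rfl
    exact absurd this (by decide)
  rw [eq_bot_iff]
  intro y hy
  obtain ⟨m, rfl⟩ := QuotientGroup.mk'_surjective K y
  obtain ⟨a, ha, o, ho, rfl⟩ := h4 m hy
  exact (QuotientGroup.eq_one_iff _).2 (mul_mem (ZK ha) (hK ▸ mem_sup_right (le ho)))

theorem sec (g : Gen H) (h7 : G7bStmt.{u}) {Z R W : Subgroup H} (κ : D8 →* H) {θ n : H}
    (hc : ∀ a ∈ Z, ∀ b, Commute a b) (z2 : ∀ a ∈ Z, a * a = 1) (hR : Syl R ⊤) (ZR : Z ≤ R)
    (κR : ∀ d, κ d ∈ R) (dec : ∀ y ∈ R, ∃ a ∈ Z, ∃ d, y = a * κ d) (inj : ∀ d, κ d ∈ Z → d = 1)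
    (t1 : θ * κ (r 2) * θ⁻¹ = κ (sr 2)) (t2 : θ * κ (sr 0) * θ⁻¹ = κ (r 2))
    (t3 : θ * κ (sr 2) * θ⁻¹ = κ (sr 0)) (n1 : n * κ (sr 1) * n⁻¹ = κ (r 2))
    (oW : Odd (Nat.card W)) (κW : ∀ d, κ d ∈ N[W]) (θW : θ ∈ N[W])
    (cen : ∀ y : H, ∀ a ∈ Z, y * κ (r 2) * y⁻¹ = κ (r 2) * a → ∃ c ∈ R, ∃ w ∈ W, y = c * w) :
    (piCore {2}ᶜ H).relIndex W ∣ 3 := by
  haveI : Z.Normal := ⟨fun a ha b => by rwa [← (hc a ha b).eq, mul_inv_cancel_right]⟩
  obtain ⟨d1, -, d3, d4, d5, d6, -⟩ := d8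
  have oO : ∀ o ∈ piCore {2}ᶜ H, Odd (orderOf o) := fun o ho =>
    odd_mem (odd_of (H67.isPi_piCore _)) ho
  have Z2 : IsPGroup 2 Z := hR.grp.to_le ZR
  set K : Subgroup H := Z ⊔ piCore {2}ᶜ H with hK
  set π := QuotientGroup.mk' K with hπ
  have sur : Function.Surjective π := QuotientGroup.mk'_surjective K
  have ker : ∀ y, π y = 1 ↔ ∃ a ∈ Z, ∃ o ∈ piCore {2}ᶜ H, a * o = y := fun y =>
    (QuotientGroup.eq_one_iff y).trans mem_sup_of_normal_right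
  have kZ : ∀ a ∈ Z, π a = 1 := fun a ha => (ker a).2 ⟨a, ha, 1, one_mem _, mul_one a⟩
  have kO : ∀ o ∈ piCore {2}ᶜ H, π o = 1 := fun o ho => (ker o).2 ⟨1, one_mem _, o, ho, one_mul o⟩
  set μ : D8 →* H ⧸ K := π.comp κ with hμ
  have μa : ∀ d, μ d = π (κ d) := fun _ => rfl
  have iμ : Function.Injective μ := (injective_iff_map_eq_one μ).2 fun d hd => by
    obtain ⟨a, ha, o, ho, e⟩ := (ker _).1 hd
    have := g.one R o hR.grp ((mul_mem_cancel_left (ZR ha)).1 (e ▸ κR d)) (oO o ho)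
    rw [this, mul_one] at e
    exact inj d (e ▸ ha)
  have eD : R.map π = μ.range := le_antisymm (by
    rintro _ ⟨y, hy, rfl⟩
    obtain ⟨a, ha, d, rfl⟩ := dec y hy
    exact ⟨d, by rw [map_mul, kZ a ha, one_mul, μa]⟩) (by
    rintro _ ⟨d, rfl⟩
    exact ⟨_, κR d, rfl⟩)
  have sD : Syl μ.range ⊤ := eD ▸ ⟨le_top, hR.grp.map π, by
    have := hR.odd
    rw [relIndex_top_right] at this ⊢
    exact this.of_dvd_nat (index_map_dvd _ sur)⟩
  have cj : ∀ {y : H} {a b : D8}, y * κ a * y⁻¹ = κ b → π y * μ a * (π y)⁻¹ = μ b :=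
    fun e => by rw [μa, μa, ← e, map_mul, map_mul, map_inv]
  have one : ∀ a : H ⧸ K, orderOf a = 2 → IsConj a (μ (r 2)) := fun a ha => by
    have a1 : a ^ 2 = 1 := orderOf_dvd_iff_pow_eq_one.1 ha.dvd
    obtain ⟨k, -, d, e⟩ := sD.exists_conj (mem_top a) (n := 1) a1
    have a2 : a * a = 1 := (pow_two a).symm.trans a1
    refine (isConj_iff.2 ⟨k, e.symm⟩).trans ?_
    have c0 : IsConj (μ (sr 0)) (μ (r 2)) := isConj_iff.2 ⟨_, cj t2⟩
    have c1 : IsConj (μ (sr 1)) (μ (r 2)) := isConj_iff.2 ⟨_, cj n1⟩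
    rcases d1 d (iμ (by rw [map_mul, e, conj_mul, a2, map_one, mul_one, mul_inv_cancel])) with
      rfl | rfl | rfl | rfl | rfl | rfl
    · rw [map_one, eq_comm, conj_eq_one_iff] at e
      rw [e, orderOf_one] at ha
      exact absurd ha (by decide)
    · exact IsConj.refl _
    · exact c0
    · exact (isConj_iff.2 ⟨_, cj t1⟩).symm
    · exact c1
    · exact IsConj.trans (IsConj.symm (isConj_iff.2 ⟨μ (r 1), by
        rw [map_mul, map_mul, map_inv]⟩)) c1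
  have nW : ∀ y ∈ N[W], π y ∈ N[W.map π] := fun y hy => le_normalizer_map π ⟨y, hy, rfl⟩
  have key := h7 μ.range (V0.map μ) (W.map π) (μ (r 2)) (π θ) sD
    ⟨(MonoidHom.ofInjective iμ).symm⟩ (core_bot g hc Z2 K hK)
    (fun a b ha hb => (one a ha).trans (one b hb).symm) (map_le_range _ _)
    (by rw [card_map_of_injective iμ, card_V0])
    (by rintro _ ⟨d, hd, rfl⟩; rw [← map_mul, d6 d hd, map_one])
    ⟨_, .inr (.inl rfl), rfl⟩ (fun e => d4 (iμ (e.trans (map_one μ).symm)))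
    (by rintro _ ⟨d, rfl⟩; exact (show Commute d (r 2) from d3 d).map μ)
    (mem_normalizer_fintype (by
      rintro _ ⟨d, rfl | rfl | rfl | rfl, rfl⟩
      · rw [map_one, mul_one, mul_inv_cancel]; exact one_mem _
      · exact ⟨_, .inr (.inr (.inr rfl)), (cj t1).symm⟩
      · exact ⟨_, .inr (.inl rfl), (cj t2).symm⟩
      · exact ⟨_, .inr (.inr (.inl rfl)), (cj t3).symm⟩))
    (fun e => d5 (iμ (by rw [← cj t1, e.eq, mul_inv_cancel_right])))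
    (oW.of_dvd_nat (card_map_dvd _ _)) (by rintro _ ⟨d, rfl⟩; exact nW _ (κW d)) (nW _ θW)
    (fun y hy => by
      obtain ⟨y, rfl⟩ := sur y
      have e := mem_centralizer_singleton_iff.1 hy
      obtain ⟨a, ha, o, ho, e2⟩ := (ker ((κ (r 2))⁻¹ * (y * κ (r 2) * y⁻¹))).1 (by
        rw [map_mul, map_mul, map_mul, map_inv, map_inv, ← μa, e, mul_inv_cancel_right,
          inv_mul_cancel])
      have k2 : κ (r 2) * κ (r 2) = 1 := by rw [← map_mul, d6 _ (.inr (.inl rfl)), map_one]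
      have A2 : κ (r 2) * a * (κ (r 2) * a) = 1 := by
        rw [mul_assoc, ← mul_assoc a, (hc a ha _).eq, mul_assoc, z2 a ha, mul_one, k2]
      have e3 : κ (r 2) * a * (y * κ (r 2) * y⁻¹) = o := by
        rw [← mul_inv_cancel_left (κ (r 2)) (y * κ (r 2) * y⁻¹), ← e2, ← mul_assoc (κ (r 2)) a o,
          ← mul_assoc, A2, one_mul]
      obtain ⟨m, hm⟩ := g.dih _ (y * κ (r 2) * y⁻¹) A2
        (by rw [conj_mul, k2, mul_one, mul_inv_cancel]) (e3 ▸ oO o ho)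
      rw [e3] at hm
      obtain ⟨c, hc', w, hw, e4⟩ := cen (o ^ m * y) a ha (by rw [← hm]; group)
      have e5 : π y = π c * π w := by
        rw [← map_mul, ← e4, map_mul, kO _ (pow_mem ho m), one_mul]
      rw [e5]
      exact mul_mem (mem_sup_left (eD ▸ ⟨c, hc', rfl⟩)) (mem_sup_right ⟨w, hw, rfl⟩))
  rw [← relIndex_ker, hπ, QuotientGroup.ker_mk', ← inf_relIndex_right] at key
  rw [← inf_relIndex_right]
  convert key using 2
  refine le_antisymm (inf_le_inf_right _ le_sup_right) fun y hy => ⟨?_, hy.2⟩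
  obtain ⟨a, ha, o, ho, rfl⟩ := mem_sup_of_normal_right.1 hy.1
  have c : Commute (a * o) o⁻¹ := ((hc a ha o).mul_left (Commute.refl o)).inv_right
  have := c.orderOf_mul_dvd_mul_orderOf
  rw [mul_inv_cancel_right] at this
  rw [g.one Z a Z2 ha (((odd_mem oW hy.2).mul (oO _ (inv_mem ho))).of_dvd_nat this), one_mul]
  exact ho

end Abstract

/-! ### The model -/

/-- the dihedral group of the last block -/
def δf : D8 → N2
  | r i => (f0 * dl 6) ^ i.val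
  | sr i => f0 * (f0 * dl 6) ^ i.val

theorem δ_mul : ∀ a b, δf (a * b) = δf a * δf b := by decide +kernel

/-- the dihedral group of the last block -/
def δ : D8 →* N2 := MonoidHom.mk' δf δ_mul

/-- the elements of `DP` -/
def dd (a b c : Fin 4) : N2 := wb 0 a * wb 1 b * wb 2 c

theorem f1 : ∀ a b c e, dd a b c * wb 3 e ∈ FX 6 → e = 3 := by decide +kernel

theorem f2 : ∀ a b c, dd a b c ∈ DP ∧ th 3 * pm2 (dd a b c) * (th 3)⁻¹ = pm2 (dd a b c) ∧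
    (cs false (ty (δ (r 2))) = cs false (ty (δ (r 2) * dd a b c)) → dd a b c = 1) ∧
    Commute f0 (dd a b c) ∧ Commute (dl 6) (dd a b c) := by decide +kernel

theorem f3 : (∀ d, δ d ∈ DP → d = 1) ∧ wb 3 3 = 1 ∧ δ (sr 1) = dl 6 ∧ δ (r 2) = dl 6 * dl 7 ∧
    z2 = dd 0 0 0 * δ (r 2) ∧ ty z2 = 8 ∧ z2 ∈ FF ∧ (∀ k, wb 3 k = δ (![r 2, sr 0, sr 2, 1] k)) ∧
    (δ (r 2) ∈ JI 3 ∧ δ (sr 0) ∈ JI 3 ∧ δ (sr 2) ∈ JI 3) ∧
    th 3 * pm2 (δ (r 2)) * (th 3)⁻¹ = pm2 (δ (sr 2)) ∧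
    th 3 * pm2 (δ (sr 0)) * (th 3)⁻¹ = pm2 (δ (r 2)) ∧
    th 3 * pm2 (δ (sr 2)) * (th 3)⁻¹ = pm2 (δ (sr 0)) ∧
    wb 0 1 ∈ DP ∧ wb 1 1 ∈ DP ∧ wb 2 1 ∈ DP := by decide +kernel

/-- a component -/
def cb (t : ZMod 2) : Fin 4 := if t = 0 then 3 else 0
/-- the last component -/
def cg (t t' : ZMod 2) : D8 := if t = 0 then (if t' = 0 then 1 else sr 3) else
  (if t' = 0 then sr 1 else r 2)

theorem f4 : ∀ f : P → ZMod 2, Commute (⟨1, f⟩ : N2) (wb 0 1) → Commute (⟨1, f⟩ : N2) (wb 1 1) →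
    Commute (⟨1, f⟩ : N2) (wb 2 1) →
    (⟨1, f⟩ : N2) = dd (cb (f 0)) (cb (f 2)) (cb (f 4)) * δ (cg (f 6) (f 7)) := by decide +kernel

/-- the centraliser of `DP` -/
abbrev Cm : Subgroup N2 := C[DP]

theorem mem_Cm {m : N2} : m ∈ Cm ↔ ∀ e ∈ DP, Commute m e :=
  ⟨fun h e he => (h e he).symm, fun h e he => (h e he).symm⟩

section Model

variable (hB : Base.{u})
include hB

theorem nf {e : N2} (he : e ∈ DP) : ∃ a b c, e = dd a b c := by
  obtain ⟨a, b, c, k, rfl⟩ := hB.m1.nfF e he.1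
  obtain rfl := f1 a b c k he.2
  exact ⟨a, b, c, by rw [f3.2.1, mul_one]; rfl⟩

theorem δ_Cm (d : D8) : δ d ∈ Cm := mem_Cm.2 fun e he => by
  obtain ⟨a, b, c, rfl⟩ := nf hB he
  obtain ⟨-, -, -, h1, h2⟩ := f2 a b c
  rcases d with i | i
  · exact (h1.mul_left h2).pow_left _
  · exact h1.mul_left ((h1.mul_left h2).pow_left _)

theorem FF_Cm : FF ≤ Cm := fun u hu => mem_Cm.2 fun e he => hB.m2.ab.2.1 u hu e he.1

theorem Cm_S2 : Cm ≤ S2 := fun m hm =>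
  hB.m2.le.2.2.2.2.2.2.2.2.2.2.2.1 (hB.m3.cDP m (mem_Cm.1 hm))

theorem Cm_dec {m : N2} (hm : m ∈ Cm) : ∃ e ∈ DP, ∃ d, m = e * δ d := by
  obtain ⟨u, hu, e, he, rfl⟩ := hB.m2.pJJ m (hB.m3.cDP m (mem_Cm.1 hm))
  have h1 := mem_Cm.1 ((mul_mem_cancel_left (FF_Cm hB hu)).1 hm)
  obtain ⟨σ, f⟩ := e
  obtain rfl : σ = 1 := he
  obtain ⟨-, -, -, -, -, -, -, w3, -, -, -, -, w0, w1, w2⟩ := f3
  obtain ⟨a, b, c, k, rfl⟩ := hB.m1.nfF u hu
  rw [f4 f (h1 _ w0) (h1 _ w1) (h1 _ w2), w3]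
  generalize cb (f 0) = a', cb (f 2) = b', cb (f 4) = c', cg (f 6) (f 7) = d',
    ![r 2, sr 0, sr 2, (1 : D8)] k = d
  refine ⟨_, mul_mem (f2 a b c).1 (f2 a' b' c').1, d * d', ?_⟩
  rw [map_mul, mul_assoc, ← mul_assoc (δ _), (mem_Cm.1 (δ_Cm hB _) _ (f2 _ _ _).1).eq]
  simp only [mul_assoc, dd]

end Model

theorem g7 (hB : Base.{u}) (h7 : G7bStmt.{u}) : G7Stmt.{u} := by
  intro G _ _ J φ s ρ n W F D
  obtain ⟨i1, -, i3, i4, i5, i6, i7, -, ⟨j1, j2, j3⟩, k1, k2, k3, -⟩ := f3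
  obtain ⟨-, d2, -, d4, -, d6, d7⟩ := d8
  have g : Gen G := hB.gen
  have em := F.em2
  have CS := Cm_S2 hB
  have DC : DP ≤ Cm := inf_le_left.trans (FF_Cm hB)
  have DS : DP ≤ S2 := DC.trans CS
  have δS : ∀ d, δ d ∈ S2 := fun d => CS (δ_Cm hB d)
  have emC := em.mono CS
  have emD := em.mono DS
  have mC : ∀ {y : G}, y ∈ C[im J DP] ↔ ∀ e ∈ DP, Commute y (J e) := fun {y} =>
    ⟨fun h e he => (h _ (mem_im he)).symm, fun h a ha => by
      obtain ⟨e, he, rfl⟩ := emD.mem.1 ha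
      exact (h e he).symm⟩
  have JC : ∀ m ∈ Cm, J m ∈ C[im J DP] := fun m hm => mC.2 fun e he => by
    rw [Commute, SemiconjBy, ← em.mul _ (CS hm) _ (DS he), ← em.mul _ (DS he) _ (CS hm),
      (mem_Cm.1 hm e he).eq]
  have RC : im J Cm ≤ C[im J DP] := im_le JC
  have R2 : IsPGroup 2 (im J Cm) := emC.two (hB.m1.two.to_le CS)
  have cz : ∀ y ∈ C[im J DP], Commute y (J (δ (r 2))) →
      ∃ m ∈ Cm, ∃ o ∈ C1[J z2], ρ o = 1 ∧ y = J m * o := fun y hy hc => by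
    have hz : y ∈ C1[J z2] := mem_centralizer_singleton_iff.2 (by
      rw [i5, em.mul _ (DS (f2 0 0 0).1) _ (δS _)]
      exact ((mC.1 hy _ (f2 0 0 0).1).mul_right hc).eq)
    have hm : ρ y ∈ Cm := mem_Cm.2 fun e he => by
      have l := F.mo.le e (DS he)
      rw [Commute, SemiconjBy, ← F.mo.res e (DS he), ← F.mo.mul _ hz _ l, ← F.mo.mul _ l _ hz,
        (mC.1 hy e he).eq]
    have l := F.mo.le _ (CS (inv_mem hm))
    refine ⟨_, hm, J (ρ y)⁻¹ * y, mul_mem l hz, ?_, ?_⟩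
    · rw [F.mo.mul _ l _ hz, F.mo.res _ (CS (inv_mem hm)), inv_mul_cancel]
    · rw [em.inv (CS hm), mul_inv_cancel_left]
  have ne : J (δ (r 2)) ≠ 1 := fun e =>
    d4 (i1 _ (em.inj _ (δS _) _ (one_mem _) (e.trans em.one.symm) ▸ one_mem _))
  have syl : Syl (im J Cm) C[im J DP] := by
    by_contra hn
    obtain ⟨S, S2', l1, l2, y, hy, hn', hN⟩ := g.up _ _ R2 RC hn
    obtain ⟨u, hu, e⟩ := emC.mem.1 ((mem_normalizer_iff.1 hN _).1 (mem_im (δ_Cm hB (r 1))))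
    obtain ⟨a, ha, d, rfl⟩ := Cm_dec hB hu
    have e2 : y * J (δ (r 2)) * y⁻¹ = J (δ (d * d)) := by
      rw [← d7, map_mul, em.mul _ (δS _) _ (δS _), ← conj_mul, ← e, ← emC.mul _ hu _ hu, map_mul,
        mul_assoc, ← mul_assoc (δ d), (mem_Cm.1 (δ_Cm hB d) a ha).eq, mul_assoc, ← mul_assoc a,
        hB.m2.ab.2.2.2.2.1 a ha.1, one_mul]
    rcases d2 d with k | k <;> rw [k] at e2
    · rw [map_one, em.one, conj_eq_one_iff] at e2
      exact ne e2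
    · obtain ⟨m, hm, o, ho, h1, rfl⟩ := cz y (l2 hy) (mul_inv_eq_iff_eq_mul.1 e2)
      have := g.one S o S2' ((mul_mem_cancel_left (l1 (mem_im hm))).1 hy) (F.mo.ker o ho h1)
      rw [this, mul_one] at hn'
      exact hn' (mem_im hm)
  obtain ⟨θ, -, hθ⟩ := F.tht 3
  have FJ : FF ≤ JI 3 := hB.m2.le.2.2.2.2.2.2.2.2.2.2.2.2.2.2.2.2.2.2.2.2.2.2.2.2 3
  have θC : θ ∈ C[im J DP] := mC.2 fun e he => by
    obtain ⟨a, b, c, rfl⟩ := nf hB he
    exact mul_inv_eq_iff_eq_mul.1 (hθ _ (FJ he.1) _ (FJ he.1) (f2 a b c).2.1)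
  have FS : FF ≤ S2 := (FF_Cm hB).trans CS
  have θW : θ ∈ N[W] := D.nF (mem_normalizer_fintype fun a ha => by
    obtain ⟨u, hu, rfl⟩ := (em.mono FS).mem.1 ha
    obtain ⟨v, hv, e⟩ := (hB.m2.thm 3).1 u hu
    rw [hθ u (FJ hu) v (FJ hv) e]
    exact mem_im hv)
  let κ : D8 →* C[im J DP] :=
    (em.hom.comp (δ.codRestrict S2 δS)).codRestrict _ fun d => JC _ (δ_Cm hB d)
  have κa : ∀ d, (κ d : G) = J (δ d) := fun _ => rfl
  have nW : ∀ y : C[im J DP], (y : G) ∈ N[W] → y ∈ N[W.subgroupOf C[im J DP]] := fun y hy =>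
    mem_normalizer_fintype fun a ha => (mem_normalizer_iff.1 hy _).1 ha
  have key := sec (H := C[im J DP]) hB.gen h7 (Z := (im J DP).subgroupOf _)
    (R := (im J Cm).subgroupOf _) (W := W.subgroupOf _) κ (θ := ⟨θ, θC⟩) (n := ⟨n, F.nD⟩)
    (fun a ha b => Subtype.ext (b.2 a ha))
    (fun a ha => Subtype.ext (by
      obtain ⟨e, he, k⟩ := emD.mem.1 ha
      change (a : G) * a = 1
      rw [← show J e = (a : G) from k, ← emD.mul _ he _ he, hB.m2.ab.2.2.2.2.1 e he.1, em.one]))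
    ⟨le_top, syl.isPGroup, by rw [relIndex_top_right]; exact syl.odd⟩
    (fun a ha => im_mono DC ha) (fun d => mem_im (δ_Cm hB d))
    (fun y hy => by
      obtain ⟨u, hu, e⟩ := emC.mem.1 hy
      obtain ⟨a, ha, d, rfl⟩ := Cm_dec hB hu
      exact ⟨⟨J a, JC a (DC ha)⟩, mem_im ha, d, Subtype.ext
        (e.symm.trans (em.mul _ (DS ha) _ (δS d)))⟩)
    (fun d hd => i1 d ((em.mem_iff DS (δS d)).1 hd))
    (Subtype.ext (hθ _ j1 _ j3 k1)) (Subtype.ext (hθ _ j2 _ j1 k2))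
    (Subtype.ext (hθ _ j3 _ j2 k3))
    (Subtype.ext (by
      change n * J (δ (sr 1)) * n⁻¹ = J (δ (r 2))
      rw [i3, i4]
      exact F.np 6 (by decide)))
    ((odd_of D.odd).of_dvd_nat (card_comap_dvd_of_injective _ _ (subtype_injective _)))
    (fun d => nW _ (D.nC (F.mo.le _ (δS d)))) (nW _ θW)
    (fun y a ha e => by
      obtain ⟨b, hb, k⟩ := emD.mem.1 ha
      have e' : (y : G) * J (δ (r 2)) * (y : G)⁻¹ = J (δ (r 2)) * a := congrArg Subtype.val e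
      rw [← show J b = (a : G) from k, ← em.mul _ (δS _) _ (DS hb)] at e'
      have sq : δ (r 2) * δ (r 2) = 1 := by rw [← map_mul, d6 _ (.inr (.inl rfl)), map_one]
      have c := (F.cl _ (δS _) _ (mul_mem (δS _) (DS hb)) sq (by
        rw [mul_assoc, ← mul_assoc b, ← (mem_Cm.1 (δ_Cm hB _) b hb).eq, mul_assoc,
          hB.m2.ab.2.2.2.2.1 b hb.1, mul_one, sq])).1 ⟨_, e'⟩
      obtain ⟨a', b', c', rfl⟩ := nf hB hb
      rw [(f2 a' b' c').2.2.1 c, mul_one] at e'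
      obtain ⟨m, hm, o, ho, h1, e2⟩ := cz y y.2 (mul_inv_eq_iff_eq_mul.1 e')
      exact ⟨⟨J m, JC m hm⟩, mem_im hm,
        ⟨o, (mul_mem_cancel_left (JC m hm)).1 (e2 ▸ y.2)⟩,
        D.full z2 i7 i6 ((F.kerO o ho).1 h1), Subtype.ext e2⟩)
  rwa [← relIndex_map_map_of_injective _ _ (subtype_injective _), subgroupOf_map_subtype] at key

end Cfsg.Agent.H14.KnG7
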