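import Mathlib
import Cfsg.Agent.H46.L40Defs

/-! Project L40, piece TIE: normal form of a semidihedral Sylow subgroup of `L₃(3)`. -/

set_option autoImplicit false
set_option maxRecDepth 100000

namespace Cfsg.Agent.H14.L40Tie

open Cfsg.Agent.H46.L40

abbrev R3 : Type := ℕ × ℕ × ℕ
abbrev M9 : Type := R3 × R3 × R3

def dot (a b c x y z : ℕ) : ℕ := Nat.mod (Nat.add (Nat.add (Nat.mul a x) (Nat.mul b y)) (Nat.mul c z)) 3

def rowMul (r : R3) (y : M9) : R3 :=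
  (dot r.1 r.2.1 r.2.2 y.1.1 y.2.1.1 y.2.2.1, dot r.1 r.2.1 r.2.2 y.1.2.1 y.2.1.2.1 y.2.2.2.1,
    dot r.1 r.2.1 r.2.2 y.1.2.2 y.2.1.2.2 y.2.2.2.2)

def mul9 (x y : M9) : M9 := (rowMul x.1 y, rowMul x.2.1 y, rowMul x.2.2 y)

def det9 (x : M9) : ℕ :=
  dot x.1.1 x.1.2.1 x.1.2.2 (dot x.2.1.2.1 (Nat.mul 2 x.2.1.2.2) 0 x.2.2.2.2 x.2.2.2.1 0)
    (dot x.2.1.2.2 (Nat.mul 2 x.2.1.1) 0 x.2.2.1 x.2.2.2.2 0)
    (dot x.2.1.1 (Nat.mul 2 x.2.1.2.1) 0 x.2.2.2.1 x.2.2.1 0)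

theorem dot_cast (a b c x y z : ℕ) : (dot a b c x y z : ZMod 3) = a * x + b * y + c * z := by
  change (((a * x + b * y + c * z) % 3 : ℕ) : ZMod 3) = _
  rw [ZMod.natCast_mod]; push_cast; rfl

theorem dot_val (a b c x y z : ZMod 3) :
    (a * x + b * y + c * z).val = dot a.val b.val c.val x.val y.val z.val := by
  have : dot a.val b.val c.val x.val y.val z.val < 3 := Nat.mod_lt _ (by decide)
  rw [← ZMod.val_cast_of_lt this, dot_cast]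
  simp

def ofS (m : S3) : M9 :=
  (((m.1 0 0).val, (m.1 0 1).val, (m.1 0 2).val), ((m.1 1 0).val, (m.1 1 1).val, (m.1 1 2).val),
    ((m.1 2 0).val, (m.1 2 1).val, (m.1 2 2).val))

def toM (x : M9) : Matrix (Fin 3) (Fin 3) (ZMod 3) :=
  !![x.1.1, x.1.2.1, x.1.2.2; x.2.1.1, x.2.1.2.1, x.2.1.2.2; x.2.2.1, x.2.2.2.1, x.2.2.2.2]

theorem ofS_mul (m n : S3) : ofS (m * n) = mul9 (ofS m) (ofS n) := by
  simp only [ofS, mul9, rowMul, Matrix.SpecialLinearGroup.coe_mul, Matrix.mul_apply,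
    Fin.sum_univ_three, dot_val]

theorem toM_ofS (m : S3) : toM (ofS m) = m.1 := by
  ext i j
  fin_cases i <;> fin_cases j <;> simp [toM, ofS]

theorem toM_mul (x y : M9) : toM (mul9 x y) = toM x * toM y := by
  simp only [toM, mul9, rowMul, dot_cast, Matrix.mul_fin_three]

theorem det_toM (x : M9) : (toM x).det = det9 x := by
  have h3 : (3 : ZMod 3) = 0 := rfl
  rw [Matrix.det_fin_three]
  simp only [toM, det9, dot_cast, Nat.mul_eq, Nat.cast_mul, Nat.cast_ofNat, Nat.cast_zero]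
  simp
  linear_combination (-((x.1.1 : ZMod 3) * x.2.1.2.2 * x.2.2.2.1 + x.1.2.1 * x.2.1.1 * x.2.2.2.2 +
    x.1.2.2 * x.2.1.2.1 * x.2.2.1)) * h3

theorem ofS_inj {m n : S3} (h : ofS m = ofS n) : m = n :=
  Subtype.ext (by rw [← toM_ofS, h, toM_ofS])

theorem det_ofS (m : S3) : det9 (ofS m) = 1 := by
  have h : det9 (ofS m) < 3 := Nat.mod_lt _ (by decide)
  rw [← ZMod.val_cast_of_lt h, ← det_toM, toM_ofS, m.2]
  rfl

theorem exists_S (x : M9) (h : det9 x = 1) : ∃ m : S3, m.1 = toM x :=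
  ⟨⟨toM x, by rw [det_toM, h, Nat.cast_one]⟩, rfl⟩

theorem lift {g g' n : S3} {x : M9} (hn : n.1 = toM x) (h : mul9 (ofS g) x = mul9 x (ofS g')) :
    g * n = n * g' := Subtype.ext (by
  rw [Matrix.SpecialLinearGroup.coe_mul, Matrix.SpecialLinearGroup.coe_mul, hn, ← toM_ofS,
    ← toM_mul, h, toM_mul, toM_ofS])

def one9 : M9 := ((1, 0, 0), (0, 1, 0), (0, 0, 1))
def z9 : M9 := ((2, 0, 0), (0, 2, 0), (0, 0, 1))
def a9 : M9 := ((1, 0, 0), (0, 2, 0), (0, 0, 2))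
def y9 : M9 := ((1, 2, 0), (1, 1, 0), (0, 0, 2))
def y9' : M9 := ((2, 1, 0), (2, 2, 0), (0, 0, 2))
def blk (a b d e i : ℕ) : M9 := ((a, b, 0), (d, e, 0), (0, 0, i))

theorem vals : ofS 1 = one9 ∧ ofS z0 = z9 ∧ ofS a0 = a9 ∧ ofS (q0 * a0) = y9 ∧
    ofS (q0 * a0 * z0) = y9' := by
  refine ⟨?_, ?_, ?_, ?_, ?_⟩ <;> decide +kernel

/-- Representatives of the cosets of the centraliser of `z0`. -/
def reps : List M9 :=
  [
   ((0,1,1),(1,0,0),(0,2,1)), ((0,1,1),(1,0,1),(0,2,1)), ((0,1,1),(1,0,2),(0,2,1)), ((0,1,1),(2,0,0),(0,1,2)),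
   ((0,1,1),(2,0,1),(0,1,2)), ((0,1,1),(2,0,2),(0,1,2)), ((0,1,1),(0,2,1),(2,0,0)), ((0,1,1),(0,2,1),(2,0,1)),
   ((0,1,1),(0,2,1),(2,0,2)), ((0,1,1),(1,0,0),(2,2,1)), ((0,1,1),(1,0,1),(2,2,0)), ((0,1,1),(1,0,2),(2,2,2)),
   ((0,1,1),(2,0,0),(2,1,2)), ((0,1,1),(2,0,1),(2,1,0)), ((0,1,1),(2,0,2),(2,1,1)), ((0,1,1),(0,1,2),(1,0,0)),
   ((0,1,1),(0,1,2),(1,0,1)), ((0,1,1),(0,1,2),(1,0,2)), ((0,1,1),(1,0,0),(1,2,1)), ((0,1,1),(1,0,1),(1,2,2)),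
   ((0,1,1),(1,0,2),(1,2,0)), ((0,1,1),(2,0,0),(1,1,2)), ((0,1,1),(2,0,1),(1,1,1)), ((0,1,1),(2,0,2),(1,1,0)),
   ((0,0,1),(0,1,0),(2,0,0)), ((0,0,1),(0,1,0),(2,0,2)), ((0,0,1),(0,1,0),(2,0,1)), ((0,0,1),(0,1,2),(2,0,0)),
   ((0,0,1),(0,1,2),(2,0,2)), ((0,0,1),(0,1,2),(2,0,1)), ((0,0,1),(0,1,1),(2,0,0)), ((0,0,1),(0,1,1),(2,0,2)),
   ((0,0,1),(0,1,1),(2,0,1)), ((0,1,1),(1,0,0),(0,1,0)), ((0,1,1),(1,0,2),(0,1,0)), ((0,1,1),(1,0,1),(0,1,0)),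
   ((0,1,1),(2,0,0),(0,2,0)), ((0,1,1),(2,0,2),(0,2,0)), ((0,1,1),(2,0,1),(0,2,0)), ((0,1,1),(0,1,0),(2,0,0)),
   ((0,1,1),(0,1,0),(2,0,2)), ((0,1,1),(0,1,0),(2,0,1)), ((0,1,1),(1,0,0),(2,1,0)), ((0,1,1),(1,0,2),(2,1,1)),
   ((0,1,1),(1,0,1),(2,1,2)), ((0,1,1),(2,0,0),(2,2,0)), ((0,1,1),(2,0,2),(2,2,2)), ((0,1,1),(2,0,1),(2,2,1)),
   ((0,1,1),(0,2,0),(1,0,0)), ((0,1,1),(0,2,0),(1,0,2)), ((0,1,1),(0,2,0),(1,0,1)), ((0,1,1),(1,0,0),(1,1,0)),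
   ((0,1,1),(1,0,2),(1,1,2)), ((0,1,1),(1,0,1),(1,1,1)), ((0,1,1),(2,0,0),(1,2,0)), ((0,1,1),(2,0,2),(1,2,1)),
   ((0,1,1),(2,0,1),(1,2,2)), ((0,1,0),(1,0,1),(2,0,1)), ((0,1,0),(1,0,2),(1,0,1)), ((0,1,0),(0,0,1),(1,0,0)),
   ((0,1,0),(0,0,1),(1,0,2)), ((0,1,0),(0,0,1),(1,0,1)), ((0,1,0),(1,0,1),(1,0,0)), ((0,1,0),(1,0,2),(2,0,0)),
   ((0,1,0),(1,0,0),(0,0,2)), ((0,1,0),(1,0,0),(1,0,2)), ((0,1,0),(1,0,0),(2,0,2)), ((0,1,0),(1,0,0),(0,1,2)),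
   ((0,1,0),(1,0,0),(1,1,2)), ((0,1,0),(1,0,0),(2,1,2)), ((0,1,0),(1,0,0),(0,2,2)), ((0,1,0),(1,0,0),(1,2,2)),
   ((0,1,0),(1,0,0),(2,2,2)), ((0,1,0),(1,0,1),(0,0,2)), ((0,1,0),(1,0,2),(0,0,2)), ((0,1,0),(1,0,1),(2,2,1)),
   ((0,1,0),(1,0,2),(1,1,1)), ((0,1,0),(0,1,1),(1,0,0)), ((0,1,0),(0,1,1),(1,0,1)), ((0,1,0),(0,1,1),(1,0,2)),
   ((0,1,0),(1,0,1),(1,2,0)), ((0,1,0),(1,0,2),(2,1,0)), ((0,1,0),(1,0,1),(0,2,2)), ((0,1,0),(1,0,2),(0,1,2)),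
   ((0,1,0),(1,0,1),(2,1,1)), ((0,1,0),(1,0,2),(1,2,1)), ((0,1,0),(0,2,1),(1,0,0)), ((0,1,0),(0,2,1),(1,0,2)),
   ((0,1,0),(0,2,1),(1,0,1)), ((0,1,0),(1,0,1),(1,1,0)), ((0,1,0),(1,0,2),(2,2,0)), ((0,1,0),(1,0,1),(0,1,2)),
   ((0,1,0),(1,0,2),(0,2,2)), ((0,1,1),(1,0,0),(0,0,2)), ((0,1,1),(1,0,1),(0,0,2)), ((0,1,1),(1,0,2),(0,0,2)),
   ((0,1,1),(2,0,0),(0,0,1)), ((0,1,1),(2,0,2),(0,0,1)), ((0,1,1),(2,0,1),(0,0,1)), ((0,1,1),(0,0,2),(2,0,0)),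
   ((0,1,1),(0,0,2),(2,0,1)), ((0,1,1),(0,0,2),(2,0,2)), ((0,1,1),(1,0,1),(2,0,1)), ((0,1,1),(1,0,2),(2,0,0)),
   ((0,1,1),(1,0,0),(2,0,2)), ((0,1,1),(2,0,1),(2,0,2)), ((0,1,1),(2,0,2),(2,0,0)), ((0,1,1),(2,0,0),(2,0,1)),
   ((0,1,1),(0,0,1),(1,0,0)), ((0,1,1),(0,0,1),(1,0,2)), ((0,1,1),(0,0,1),(1,0,1)), ((0,1,1),(1,0,2),(1,0,1)),
   ((0,1,1),(1,0,1),(1,0,0)), ((0,1,1),(1,0,0),(1,0,2)), ((0,1,1),(2,0,2),(1,0,2)), ((0,1,1),(2,0,1),(1,0,0)),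
   ((0,1,1),(2,0,0),(1,0,1))]

def eq3 (x y : R3) : Bool := Nat.beq x.1 y.1 && Nat.beq x.2.1 y.2.1 && Nat.beq x.2.2 y.2.2
def eq9 (x y : M9) : Bool := eq3 x.1 y.1 && eq3 x.2.1 y.2.1 && eq3 x.2.2 y.2.2
def all3 (p : ℕ → Bool) : Bool := p 0 && p 1 && p 2
def any3 (p : ℕ → Bool) : Bool := p 0 || p 1 || p 2

theorem eq9_iff {x y : M9} : eq9 x y = true ↔ x = y := by
  simp only [eq9, eq3, Bool.and_eq_true, Nat.beq_eq, Prod.ext_iff, and_assoc]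

theorem eq9_self (x : M9) : eq9 x x = true := eq9_iff.2 rfl

theorem all3_imp {p : ℕ → Bool} (h : all3 p = true) (a : ZMod 3) : p a.val = true := by
  simp only [all3, Bool.and_eq_true] at h
  fin_cases a
  exacts [h.1.1, h.1.2, h.2]

theorem any3_imp {p : ℕ → Bool} (h : any3 p = true) : ∃ a, p a = true := by
  simp only [any3, Bool.or_eq_true] at h
  rcases h with (h | h) | h <;> exact ⟨_, h⟩

def t1 (x : M9) : Bool :=
  !eq9 (mul9 x x) one9 || !Nat.beq (det9 x) 1 || eq9 x one9 ||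
    reps.any fun m => eq9 (mul9 x m) (mul9 m z9) && Nat.beq (det9 m) 1

theorem enum1' : (all3 fun a => all3 fun b => all3 fun c => all3 fun d => all3 fun e =>
    all3 fun f => all3 fun g => all3 fun h => all3 fun i =>
      t1 ((a, b, c), (d, e, f), (g, h, i))) = true := by decide +kernel

theorem inv_conj {z : S3} (h : z * z = 1) (h1 : z ≠ 1) : ∃ m : S3, z * m = m * z0 := by
  have h2 := congrArg ofS h
  rw [ofS_mul, vals.1] at h2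
  have h3 : t1 (ofS z) = true := all3_imp (all3_imp (all3_imp (all3_imp (all3_imp (all3_imp
    (all3_imp (all3_imp (all3_imp enum1' _) _) _) _) _) _) _) _) _
  simp only [t1, h2, det_ofS, eq9_self, Nat.beq_refl, Bool.not_true, Bool.false_or,
    Bool.or_eq_true, eq9_iff, List.any_eq_true, Bool.and_eq_true, Nat.beq_eq] at h3
  rcases h3 with e | ⟨m, -, e, d⟩
  · exact absurd (ofS_inj (e.trans vals.1.symm)) h1
  obtain ⟨n, hn⟩ := exists_S m d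
  exact ⟨n, lift hn (by rw [vals.2.1, e])⟩

def t3 (y x n : M9) : Bool :=
  Nat.beq (det9 n) 1 && eq9 (mul9 x n) (mul9 n a9) &&
    (eq9 (mul9 y n) (mul9 n y9) || eq9 (mul9 y n) (mul9 n y9'))

def t2 (y x : M9) : Bool :=
  !Nat.beq (det9 x) 1 || !eq9 (mul9 x x) one9 || !eq9 (mul9 (mul9 x y) x) (mul9 (mul9 y y) y) ||
    any3 fun a => any3 fun b => any3 fun d => any3 fun e => any3 fun i => t3 y x (blk a b d e i)

def t4 (y : M9) : Bool :=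
  !Nat.beq (det9 y) 1 || !eq9 (mul9 (mul9 y y) (mul9 y y)) z9 ||
    all3 fun a => all3 fun b => all3 fun d => all3 fun e => all3 fun i => t2 y (blk a b d e i)

theorem enum2' : (all3 fun a => all3 fun b => all3 fun d => all3 fun e => all3 fun i =>
    t4 (blk a b d e i)) = true := by decide +kernel

theorem blk_of {x : S3} (h : x * z0 = z0 * x) :
    ofS x = blk (x.1 0 0).val (x.1 0 1).val (x.1 1 0).val (x.1 1 1).val (x.1 2 2).val := by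
  have h1 : ∀ c : ZMod 3, c = 2 * c → c = 0 := by decide
  have h2 : ∀ c : ZMod 3, c * 2 = c → c = 0 := by decide
  have e : ∀ i j, (x.1 * z0.1) i j = (z0.1 * x.1) i j := fun i j =>
    congrFun (congrFun (congrArg Subtype.val h) i) j
  have e1 := h1 (x.1 0 2) (by simpa [z0, Matrix.mul_apply, Fin.sum_univ_three] using e 0 2)
  have e2 := h1 (x.1 1 2) (by simpa [z0, Matrix.mul_apply, Fin.sum_univ_three] using e 1 2)
  have e3 := h2 (x.1 2 0) (by simpa [z0, Matrix.mul_apply, Fin.sum_univ_three] using e 2 0)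
  have e4 := h2 (x.1 2 1) (by simpa [z0, Matrix.mul_apply, Fin.sum_univ_three] using e 2 1)
  rw [ofS, e1, e2, e3, e4]
  rfl

theorem pair {y a : S3} (hy : y * y * (y * y) = z0) (ha : a * a = 1) (h : a * y * a = y * y * y) :
    ∃ n : S3, a * n = n * a0 ∧ (y * n = n * (q0 * a0) ∨ y * n = n * (q0 * a0 * z0)) := by
  have c1 : y * z0 = z0 * y := by rw [← hy]; group
  have c2 : a * z0 = z0 * a := by
    have i1 : a⁻¹ = a := inv_eq_of_mul_eq_one_right ha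
    have e1 : a * y * a⁻¹ = y * y * y := by rw [i1, h]
    have e2 : z0 * z0 = 1 := by decide +kernel
    have e3 : a * z0 * a⁻¹ = z0 * z0 * z0 := by
      calc a * z0 * a⁻¹ = a * y * a⁻¹ * (a * y * a⁻¹) * (a * y * a⁻¹ * (a * y * a⁻¹)) := by
            rw [← hy]; group
        _ = _ := by rw [e1, ← hy]; simp only [mul_assoc]
    rw [e2, one_mul] at e3
    rw [← mul_inv_eq_iff_eq_mul, e3]
  have h6 : t4 (ofS y) = true := by
    rw [blk_of c1]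
    exact all3_imp (all3_imp (all3_imp (all3_imp (all3_imp enum2' _) _) _) _) _
  simp only [t4, ← ofS_mul, hy, vals.2.1, det_ofS, eq9_self, Nat.beq_refl, Bool.not_true,
    Bool.false_or] at h6
  have h7 : t2 (ofS y) (ofS a) = true := by
    rw [blk_of c2]
    exact all3_imp (all3_imp (all3_imp (all3_imp (all3_imp h6 _) _) _) _) _
  simp only [t2, ← ofS_mul, ha, h, vals.1, det_ofS, eq9_self, Nat.beq_refl, Bool.not_true,
    Bool.false_or] at h7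
  obtain ⟨_, h7⟩ := any3_imp h7
  obtain ⟨_, h7⟩ := any3_imp h7
  obtain ⟨_, h7⟩ := any3_imp h7
  obtain ⟨_, h7⟩ := any3_imp h7
  obtain ⟨_, h7⟩ := any3_imp h7
  simp only [t3, Bool.and_eq_true, Bool.or_eq_true, eq9_iff, Nat.beq_eq] at h7
  obtain ⟨⟨d, e1⟩, e2⟩ := h7
  obtain ⟨n, hn⟩ := exists_S _ d
  exact ⟨n, lift hn (by rw [vals.2.2.1, e1]), e2.imp (fun e => lift hn (by rw [vals.2.2.2.1, e]))
    fun e => lift hn (by rw [vals.2.2.2.2, e])⟩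

theorem tr_mul (x y : S3) : tr (x * y) = tr x * tr y :=
  Subtype.ext (by
    rw [Matrix.SpecialLinearGroup.coe_mul]
    simp [tr, Matrix.SpecialLinearGroup.transpose])

theorem tr_tr (x : S3) : tr (tr x) = x := by
  have h1 : tr 1 = 1 := Subtype.ext (by simp [tr, Matrix.SpecialLinearGroup.transpose])
  have h2 : (tr x)⁻¹ = tr x⁻¹ := inv_eq_of_mul_eq_one_right (by rw [← tr_mul, mul_inv_cancel, h1])
  rw [tr, h2, tr, inv_inv]
  exact Subtype.ext (by simp [Matrix.SpecialLinearGroup.transpose])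

/-- The inverse transpose automorphism. -/
noncomputable def trE : S3 ≃* S3 := ⟨⟨tr, tr, tr_tr, tr_tr⟩, tr_mul⟩

theorem tr_a0 : tr a0 = a0 := by
  rw [tr, inv_eq_of_mul_eq_one_right (show a0 * a0 = 1 by decide +kernel)]
  decide +kernel

theorem tr_y0 : tr (q0 * a0) = q0 * a0 * z0 := by
  rw [tr, inv_eq_of_mul_eq_one_right (show q0 * a0 * (a0 * q0 * z0) = 1 by decide +kernel)]
  decide +kernel

/-- **TIE** -/
theorem tie : TieS := by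
  intro w q a h1 h2 _ h4 h5 h6
  obtain ⟨m, hm⟩ := inv_conj h2 h1
  obtain ⟨n, e1, e2⟩ := pair (y := m⁻¹ * (q * a) * m) (a := m⁻¹ * a * m)
    (by
      calc _ = m⁻¹ * (q * a * (q * a) * (q * a * (q * a)) * m) := by group
        _ = _ := by rw [h5, hm, inv_mul_cancel_left])
    (by
      calc _ = m⁻¹ * (a * a) * m := by group
        _ = _ := by rw [h4]; group)
    (by
      calc _ = m⁻¹ * (a * (q * a) * a) * m := by group
        _ = _ := by rw [h6]; simp only [pow_succ, pow_zero, one_mul]; group)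
  suffices ∃ ψ : S3 ≃* S3, ψ (q0 * a0) = q * a ∧ ψ a0 = a by
    obtain ⟨ψ, f1, f2⟩ := this
    refine ⟨ψ, by rw [← chk.2.2.2.1, map_mul, f1, h5], ?_, f2⟩
    rw [map_mul, f2] at f1
    exact mul_right_cancel f1
  have f2 : MulAut.conj (m * n) a0 = a := by
    rw [MulAut.conj_apply, mul_assoc m, ← e1]; group
  rcases e2 with e2 | e2
  · exact ⟨MulAut.conj (m * n), by rw [MulAut.conj_apply, mul_assoc m, ← e2]; group, f2⟩
  · refine ⟨trE.trans (MulAut.conj (m * n)), ?_, ?_⟩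
    · change MulAut.conj (m * n) (tr (q0 * a0)) = _
      rw [tr_y0, MulAut.conj_apply, mul_assoc m, ← e2]; group
    · change MulAut.conj (m * n) (tr a0) = _
      rw [tr_a0, f2]

end Cfsg.Agent.H14.L40Tie
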