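import Mathlib
import Cfsg.Agent.H71.P3Defs
import Cfsg.Agent.H28.CksPd2
import Cfsg.Agent.H84.CksPd1
import Cfsg.Agent.H36.CksBas1
import Cfsg.Agent.H94.CksMda
import Cfsg.Agent.H86.CksExt
import Cfsg.Agent.H60.CksGen
import Cfsg.Agent.H47.Plx
import Cfsg.Agent.H52.CksQdx
import Cfsg.Agent.H31.CksRgx
import Cfsg.Agent.H44.CkPl
import Cfsg.Agent.H75.CksQ

/-! Project P3, piece HW: the degrees of the constituents of `1_B^G` are divisible by `p`. -/

set_option autoImplicit false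

namespace Cfsg.Agent.H14.P3Hw

open Cfsg Cfsg.Agent.H74.Cks Cfsg.Agent.H35 Subgroup Cfsg.Agent.H28.CksPd2

theorem avg_eq {G : Type} [Group G] (K : Subgroup G) [Fintype K] (χ : G → ℂ) :
    avg K χ = classInner (fun y : K => χ y) (fun _ => 1) := by
  rw [H11.classInner_one_right, avg, finsum_eq_sum_of_fintype]

theorem avg_nat {G : Type} [Group G] [Finite G] (K : Subgroup G) {χ : G → ℂ}
    (hχ : IsCharacter G χ) : ∃ m : ℕ, avg K χ = m := by
  have := Fintype.ofFinite K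
  rw [avg_eq]
  exact H11.exists_nat_classInner (H11.isCharacter_restrict hχ K)
    (H11.isCharacter_of_irr H11.isIrrCharacter_one)

theorem avg_top {G : Type} [Group G] [Finite G] {χ : G → ℂ} (hχ : IsIrrCharacter G χ)
    (h1 : χ ≠ fun _ => 1) : avg ⊤ χ = 0 := by
  have := Fintype.ofFinite G
  rw [← H11.classInner_irr_of_ne hχ H11.isIrrCharacter_one h1, H11.classInner_one_right, avg,
    card_top, ← finsum_eq_sum_of_fintype]
  exact congrArg _ (finsum_comp_equiv (topEquiv (G := G)).toEquiv)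

theorem avg_conj {G : Type} [Group G] {K L : Subgroup G} {g : G}
    (h : ∀ x, x ∈ K ↔ g * x * g⁻¹ ∈ L) {χ : G → ℂ} (hχ : IsClassFunction G χ) :
    avg K χ = avg L χ := by
  let e : K ≃ L := (MulAut.conj g).toEquiv.subtypeEquiv h
  rw [avg, avg, Nat.card_congr e, ← finsum_comp_equiv e]
  exact congrArg _ (finsum_congr fun y => (hχ _ _).symm)

theorem hw0 : H71.P3.Hw0Stmt := by
  intro G _ _ _ p n _ S gen χ hχ χ1 h0
  classical
  obtain ⟨hB, -, -, -, -, -, Q0, -, anti, QU, hX, XQ, -⟩ := H36.CkB.bas1 S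
  have pU : IsPGroup p S.U := S.sp.U_pgroup _
  have := Fintype.ofFinite S.U
  have := H11.finite_monoidHom_units (G := S.U)
  have := Fintype.ofFinite (S.U →* ℂˣ)
  have XU : ∀ i, S.X i ≤ S.U := fun i => (hX i).1 ▸ le_sup_left
  have pr : ∀ i, ∃ π : S.U →* (S.X i).subgroupOf S.U, (∀ x : (S.X i).subgroupOf S.U, π x = x) ∧
      ∀ y ∈ (S.Q {i}).subgroupOf S.U, π y = 1 := fun i => by
    have : ((S.Q {i}).subgroupOf S.U).Normal := (normal_subgroupOf_iff_le_normalizer (QU _)).2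
      ((S.sp.U_le _).trans ((BN.B_le_PJ _).trans (S.sp.U_normal _)))
    refine exists_proj ?_ (eq_bot_iff.2 fun y hy => mem_bot.2 (Subtype.ext
      (mem_bot.1 ((hX i).2.1.le ⟨hy.1, hy.2⟩))))
    rw [← subgroupOf_sup (XU i) (QU _), (hX i).1, subgroupOf_self]
  choose π π1 π2 using pr
  let J : (S.U →* ℂˣ) → Finset (Fin n) := fun l => {i | ∃ y : S.U, (y : G) ∈ S.X i ∧ l y ≠ 1}
  have hJ : ∀ l : S.U →* ℂˣ, ∀ y : S.U, (y : G) ∈ S.Q (J l) → l y = 1 := fun l y hy => by
    have e : l = ∏ i ∈ J l, (l.comp ((S.X i).subgroupOf S.U).subtype).comp (π i) := by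
      refine MonoidHom.eq_of_eqOn_dense (s := {y : S.U | ∃ i, (y : G) ∈ S.X i}) ?_ ?_
      · refine map_injective S.U.subtype_injective ?_
        rw [MonoidHom.map_closure, ← MonoidHom.range_eq_map, range_subtype]
        refine le_antisymm ((closure_le _).2 ?_) (gen.ge.trans (iSup_le fun i x hx =>
          subset_closure ⟨⟨x, XU i hx⟩, ⟨i, hx⟩, rfl⟩))
        rintro _ ⟨y, -, rfl⟩
        exact y.2
      · rintro x ⟨k, hk⟩
        rw [MonoidHom.finsetProd_apply, Finset.prod_eq_single k (fun i _ ik => by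
          simp [π2 i x (XQ {i} k (by simpa using ik.symm) hk)]) fun h => ?_]
        · exact (congrArg (fun t : (S.X k).subgroupOf S.U => l t) (π1 k ⟨x, hk⟩)).symm
        · by_contra h1
          exact h (Finset.mem_filter.2 ⟨Finset.mem_univ _, _, (π k x).2, h1⟩)
    rw [e, MonoidHom.finsetProd_apply]
    exact Finset.prod_eq_one fun i hi => by
      simp [π2 i y (anti {i} _ (Finset.singleton_subset_iff.2 hi) hy)]
  obtain ⟨z, hz⟩ := lin_congr pU (H11.isCharacter_restrict (H11.isCharacter_of_irr hχ) S.U)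
  have h1 : ∀ l : S.U →* ℂˣ, classInner (fun y : S.U => χ y)
      (fun y => (l y : ℂ)) = ∑ K : Finset (Fin n), if K ⊆ J l then
        (-1 : ℂ) ^ K.card * avg (S.P K) χ else 0 := fun l => by
    rw [← Finset.sum_filter, show Finset.univ.filter (· ⊆ J l) = (J l).powerset by ext; simp,
      ← H84.CksPd1.pd1 S _ hχ h0 l (J l) (fun i hi => (Finset.mem_filter.1 hi).2) (hJ l),
      finsum_eq_sum_of_fintype, H11.classInner_def]
    simp only [H11.conj_monoidHom_apply, map_inv]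
  have h2 : ∀ K : Finset (Fin n), ∃ c : ℤ, (∑ l : S.U →* ℂˣ, if K ⊆ J l then
      (-1 : ℂ) ^ K.card * avg (S.P K) χ else 0) = p * c := by
    intro K
    rw [← Finset.sum_filter, Finset.sum_const, nsmul_eq_mul]
    by_cases hK : K = Finset.univ
    · refine ⟨0, ?_⟩
      have e : S.P K = ⊤ := by
        have := Fintype.ofEquiv _ S.e
        rw [hK, Sys.P, Finset.map_univ_equiv, BN.PJ_univ]
      rw [e, avg_top hχ χ1]
      simp
    obtain ⟨i, hi⟩ : ∃ i, i ∉ K := by simpa [Finset.eq_univ_iff_forall] using hK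
    have : Nontrivial ((S.X i).subgroupOf S.U) := (nontrivial_iff_ne_bot _).2 fun e =>
      (hX i).2.2.1 (by rw [← inf_eq_left.2 (XU i), ← disjoint_iff, ← subgroupOf_eq_bot, e])
    obtain ⟨a, a1⟩ := exists_ne_one (pU.to_subgroup ((S.X i).subgroupOf S.U))
    obtain ⟨k, hk⟩ := pU.exists_card_eq
    obtain ⟨c, hc⟩ := dvd_card (p := p) (k := k) (a := a.comp (π i)) (s := {l | K ⊆ J l})
      (fun e => a1 (MonoidHom.ext fun x => by simpa [π1] using DFunLike.congr_fun e (x : S.U)))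
      (MonoidHom.ext fun y => by
        rw [MonoidHom.pow_apply, ← map_pow, ← hk, pow_card_eq_one', map_one]; rfl)
      fun l hl j hj => by
        obtain ⟨y, hy, k⟩ := (Finset.mem_filter.1 (hl hj)).2
        refine Finset.mem_filter.2 ⟨Finset.mem_univ _, y, hy, ?_⟩
        simpa [π2 i y (XQ {i} j (by rw [Finset.mem_singleton]; rintro rfl; exact hi hj) hy)] using k
    rw [Nat.card_eq_fintype_card, Fintype.card_subtype] at hc
    obtain ⟨d, hd⟩ := avg_nat (S.P K) (H11.isCharacter_of_irr hχ)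
    refine ⟨c * ((-1) ^ K.card * d), ?_⟩
    rw [show (Finset.univ.filter fun l => K ⊆ J l).card = p * c from hc, hd]
    push_cast
    ring
  choose c hc using h2
  obtain ⟨d, -, hd⟩ := H11.exists_pos_degree hχ
  simp only [h1] at hz
  rw [Finset.sum_comm] at hz
  simp only [hc, ← Finset.mul_sum, OneMemClass.coe_one] at hz
  have h3 : (d : ℤ) = p * (∑ K, c K + z) := by
    refine Int.cast_injective (α := ℂ) ?_
    push_cast at hz ⊢
    rw [← hd]
    linear_combination hz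
  obtain ⟨m, hm⟩ : p ∣ d := Int.natCast_dvd_natCast.1 ⟨_, h3⟩
  exact ⟨m, by rw [hd, hm]⟩

theorem hw1 : H71.P3.Hw1Stmt := by
  intro F _ _ p _ _ k hk p2 U χ hχ χ1 h0
  have := H27.isSimpleGroup_psp (F := F) k (by omega) (Or.inl hk)
  obtain ⟨S, hm, hq⟩ := (H94.CksMda.mdc @H86.CksExt.ext F p).1 k hk
  obtain ⟨c1, c2⟩ := H74.Cks.H60Gen.gen3 (@H44.CkPl.torq @H36.CkB.bas1)
    (@H75.CksQ.qgen @H36.CkB.bas1) S _ _ (Or.inr (Or.inl ⟨hk, rfl, rfl⟩)) hm
  have nd : ¬ S.Deg := fun ⟨j, _, _, q2, _⟩ => by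
    obtain ⟨n, -, hn⟩ := FiniteField.card F p
    rw [hq j, hn] at q2
    exact p2 ((Nat.prime_dvd_prime_iff_eq Fact.out Nat.prime_two).1
      (q2 ▸ dvd_pow_self p n.ne_zero))
  have hg := c2 (H47.Plx.plx @H31.CksRgx.rgx S c1)
    (H52.CksQdx.qdxStmt @H36.CkB.bas1 @H31.CksRgx.rgx S c1) nd
  refine hw0 S hg χ hχ χ1 fun e => h0 ?_
  obtain ⟨hB, ⟨U', hU'⟩, -⟩ := H36.CkB.bas1 S
  obtain ⟨g, hg⟩ := MulAction.exists_smul_eq (PSp k F) U U'
  have hu : ∀ x, x ∈ (U : Subgroup (PSp k F)) ↔ g * x * g⁻¹ ∈ S.U := fun x => by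
    rw [← hU', ← hg, Sylow.coe_subgroup_smul, mem_pointwise_smul_iff_inv_smul_mem]
    simp [mul_assoc]
  rw [← e, ← hB]
  refine avg_conj (g := g) (fun x => ⟨fun hx => mem_normalizer_fintype fun y hy => ?_,
    fun hx => mem_normalizer_fintype fun y hy => (hu _).2 ?_⟩) (H11.isClassFunction_of_irr hχ)
  · have h1 := (hu (g⁻¹ * y * g)).2 (by simpa [mul_assoc] using hy)
    simpa [mul_assoc] using (hu _).1 ((mem_normalizer_iff.1 hx _).1 h1)
  · simpa [mul_assoc] using (mem_normalizer_iff.1 hx _).1 ((hu y).1 hy)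

end Cfsg.Agent.H14.P3Hw
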