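import Mathlib
import Cfsg.Agent.H58.Q4K

/-! Four-point stabilisers of order prime to three. -/

set_option autoImplicit false

namespace Cfsg.Agent.H14.Q4Ug

open Subgroup Function Cfsg.Agent.H58.Q4

universe u

variable {G Ω : Type u} [Group G] [Finite G] [MulAction G Ω] [Finite Ω]

theorem dvd_ncard {y : G} (hp : (orderOf y).Prime) {S : Set Ω} (hS : ∀ x ∈ S, y • x ∈ S)
    (h : ∀ x ∈ S, y • x ≠ x) : orderOf y ∣ S.ncard := by
  rw [← Nat.card_zpowers]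
  refine card_dvd_of_semi (fun r hr x hx => ?_) fun r hr x hx e => ?_
  · obtain ⟨n, rfl⟩ := (mem_powers_iff_mem_zpowers).2 hr
    induction n with
    | zero => simpa using hx
    | succ n ih =>
      simp only [pow_succ', mul_smul]
      exact hS _ (ih (pow_mem (mem_zpowers y) n))
  · obtain ⟨n, rfl⟩ := (mem_powers_iff_mem_zpowers).2 hr
    by_cases hn : orderOf y ∣ n
    · exact orderOf_dvd_iff_pow_eq_one.1 hn
    · exact (h x hx (smul_eq_of_pow ((Nat.coprime_comm.1 (hp.coprime_iff_not_dvd.2 hn))) e)).elim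

omit [Finite Ω] in
theorem exists_three {c : G} {Φ : Set Ω} (h : Tr4 (Nm (zpowers c)) Φ) {F : Set Ω} (hF : F ⊆ Φ)
    (h4 : F.ncard = 4) : ∃ y : G, orderOf y = 3 ∧ Commute y c := by
  obtain ⟨a0, a1, a2, a3, n1, n2, n3, n4, n5, n6, rfl⟩ := Set.ncard_eq_four.1 h4
  have m0 : a0 ∈ Φ := hF (by simp)
  have m1 : a1 ∈ Φ := hF (by simp)
  have m2 : a2 ∈ Φ := hF (by simp)
  have m3 : a3 ∈ Φ := hF (by simp)
  have inj : ∀ b0 b1 b2 b3 : Ω, b0 ≠ b1 → b0 ≠ b2 → b0 ≠ b3 → b1 ≠ b2 → b1 ≠ b3 → b2 ≠ b3 →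
      Injective ![b0, b1, b2, b3] := fun b0 b1 b2 b3 h1 h2 h3 h4 h5 h6 i j e => by
    fin_cases i <;> fin_cases j <;> simp_all [eq_comm]
  obtain ⟨g, hg, e⟩ := h ![a0, a1, a2, a3] ![a1, a0, a2, a3] (inj _ _ _ _ n1 n2 n3 n4 n5 n6)
    (inj _ _ _ _ n1.symm n4 n5 n2 n3 n6) (fun i => by fin_cases i <;> simpa)
    (fun i => by fin_cases i <;> simpa)
  obtain ⟨g', hg', e'⟩ := h ![a0, a1, a2, a3] ![a2, a1, a0, a3] (inj _ _ _ _ n1 n2 n3 n4 n5 n6)
    (inj _ _ _ _ n4.symm n2.symm n6 n1.symm n5 n3) (fun i => by fin_cases i <;> simpa)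
    (fun i => by fin_cases i <;> simpa)
  have e0 : g • a0 = a1 := e 0
  have e1 : g • a1 = a0 := e 1
  have e2 : g • a2 = a2 := e 2
  have f0 : g' • a0 = a2 := e' 0
  have f1 : g' • a1 = a1 := e' 1
  have f2 : g' • a2 = a0 := e' 2
  have k0 : ((g' * g)⁻¹ * (g * g')) • a0 = a1 := by
    rw [mul_smul, inv_smul_eq_iff, mul_smul, mul_smul, f0, e2, e1, f0]
  have k1 : ((g' * g)⁻¹ * (g * g')) • a1 = a2 := by
    rw [mul_smul, inv_smul_eq_iff, mul_smul, mul_smul, f1, e1, e2, f2]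
  have k2 : ((g' * g)⁻¹ * (g * g')) • a2 = a0 := by
    rw [mul_smul, inv_smul_eq_iff, mul_smul, mul_smul, f2, e0, f1]
  have kc : Commute ((g' * g)⁻¹ * (g * g')) c := by
    obtain ⟨i, hi⟩ := conj_mem_of_Nm hg (mem_zpowers c)
    obtain ⟨j, hj⟩ := conj_mem_of_Nm hg' (mem_zpowers c)
    simp only at hi hj
    have h1 : g * g' * c * (g * g')⁻¹ = g' * g * c * (g' * g)⁻¹ := by
      calc _ = g * (g' * c * g'⁻¹) * g⁻¹ := by group
        _ = c ^ (i * j) := by rw [← hj, ← conj_zpow, ← hi, zpow_mul]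
        _ = g' * (g * c * g⁻¹) * g'⁻¹ := by rw [← hi, ← conj_zpow, ← hj, mul_comm i, zpow_mul]
        _ = _ := by group
    calc (g' * g)⁻¹ * (g * g') * c = (g' * g)⁻¹ * (g * g' * c * (g * g')⁻¹) * (g * g') := by group
      _ = _ := by rw [h1]; group
  generalize (g' * g)⁻¹ * (g * g') = k at k0 k1 k2 kc
  have h3 : 3 ∣ orderOf k := by
    by_contra hn
    refine n1 (k0.symm.trans (smul_eq_of_pow (Nat.prime_three.coprime_iff_not_dvd.2 hn) ?_)).symm
    rw [pow_three, mul_smul, mul_smul, k0, k1, k2]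
  exact ⟨_, orderOf_pow_orderOf_div (orderOf_pos k).ne' h3, kc.pow_left _⟩

/-- **UG** -/
theorem ug (blk : BlkStmt.{u}) (cf : CfStmt.{u}) : UgStmt.{u} := by
  intro G Ω _ _ _ _ K P ev _ Q mq db F hF h3 c hc hcK ho
  obtain ⟨-, hodd, -, -, -, -, -, -, -, -, hF', -⟩ := blk G Ω K P ev F hF
  have A : ∀ g : G, 4 ≤ (F1 Ω g).ncard → ¬ 3 ∣ orderOf g := fun g hg hd => by
    obtain ⟨F', h1, h2⟩ := Set.exists_subset_card_eq hg
    exact h3 ((hF' F' h2).2.2.2 ▸ hd.trans (orderOf_dvd_natCard _ (mem_St.2 fun x hx => h1 hx)))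
  have B : ∀ (g : G) (S : Set Ω), orderOf g = 3 → F1 Ω g ⊆ S → (∀ x ∈ Sᶜ, g • x ∈ Sᶜ) →
      S.ncard % 3 = Nat.card Ω % 3 := fun g S hg h1 h2 => by
    have h4 := dvd_ncard (hg ▸ Nat.prime_three) h2 fun x hx e => hx (h1 e)
    have h5 := Set.ncard_add_ncard_compl S
    rw [hg] at h4
    omega
  have hp : (orderOf c).Prime := ho ▸ Nat.minFac_prime fun e => hcK (relIndex_eq_one.1 e hc)
  have h5 : 4 ≤ orderOf c := by
    have h1 : orderOf c ≠ 2 := fun e => by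
      have := Nat.minFac_dvd ((K F).relIndex (St G F))
      rw [← ho, e] at this
      exact (Nat.not_even_iff_odd.2 hodd) (even_iff_two_dvd.2 this)
    have h2 : orderOf c ≠ 3 := fun e => h3 (e ▸ orderOf_dvd_natCard _ hc)
    have := hp.two_le
    omega
  have hl := (cf G Ω K P ev F hF c hc hcK hp).1
  have n3 : Nat.card Ω % 3 = 0 := by
    obtain ⟨T, hT, hT3⟩ := Set.exists_subset_card_eq (show 3 ≤ (Fx Ω Q).ncard by
      have := mq.big; omega)
    obtain ⟨⟨y, hy, -, -, e1, e2, -⟩, -⟩ := db T hT hT3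
    have h1 : ¬ 3 ∣ orderOf (y ^ 3) := A _ (le_trans mq.big.le
      (Set.ncard_le_ncard (fun x hx => mem_St.1 e2 x hx)))
    have h2 : orderOf (y ^ orderOf (y ^ 3)) = 3 := by
      refine orderOf_eq_prime (by rw [← pow_mul, mul_comm, pow_mul, pow_orderOf_eq_one]) fun e => ?_
      have h4 : (3 : ℕ).Coprime (orderOf y) := Nat.prime_three.coprime_iff_not_dvd.2 fun h =>
        h1 (h.trans (orderOf_dvd_iff_pow_eq_one.2 e))
      have h6 : Fx Ω Q ⊆ T := fun x hx => e1 ▸ ⟨smul_eq_of_pow h4 (mem_St.1 e2 x hx), hx⟩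
      have := Set.ncard_le_ncard h6
      have := mq.big
      omega
    have h4 : T ⊆ F1 Ω (y ^ orderOf (y ^ 3)) := fun x hx =>
      mem_St.1 (Subgroup.pow_mem _ hy.2 _) x hx
    have h6 := Set.ncard_le_ncard h4
    have h7 := mt (A (y ^ orderOf (y ^ 3))) (not_not.2 h2.symm.dvd)
    have h8 := B _ _ h2 subset_rfl fun x hx e => hx (smul_left_cancel _ e)
    omega
  obtain ⟨y, hy, yc⟩ := exists_three hl.tr (fun x hx => mem_St.1 hc x hx) hF
  have h6 : F1 Ω y ⊆ F1 Ω c := by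
    have h1 := dvd_ncard hp (S := F1 Ω y \ F1 Ω c)
      (fun x hx => ⟨smul_mem_F1 yc.symm hx.1, fun e => hx.2 (smul_left_cancel _ e)⟩) fun x hx => hx.2
    have h2 := Set.ncard_le_ncard (Set.sdiff_subset : F1 Ω y \ F1 Ω c ⊆ _)
    have h7 := mt (A y) (not_not.2 hy.symm.dvd)
    exact Set.sdiff_eq_empty.1 ((Set.ncard_eq_zero).1 (Nat.eq_zero_of_dvd_of_lt h1 (by omega)))
  have h7 := B y _ hy h6 fun x hx e => hx (by
    simpa using smul_mem_F1 yc.inv_left e)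
  have := hl.card
  omega

end Cfsg.Agent.H14.Q4Ug
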