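import Mathlib
import Cfsg.Agent.H46.J1Defs
import Cfsg.Agent.H14.S94Pa2

/-!
# The normaliser of `T⟨t⟩` in the branch `4³ · L₃(2)`
-/

set_option autoImplicit false
open Subgroup

namespace Cfsg.Agent.H14.S94Jl1
open Cfsg.Agent.H46.S94 Cfsg.Agent.H8
open Cfsg.Agent.H14.S94Pa2 (cj cj' memN memS B memB tw_one)

universe u

local notation "C[" A "]" => Subgroup.centralizer (SetLike.coe A)
local notation "N[" A "]" => Subgroup.normalizer (SetLike.coe A)

section General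
variable {G : Type u} [Group G]

theorem prime_dvd_relIndex [Finite G] {K H : Subgroup G} (hK : K ≤ H) (hN : H ≤ N[K]) {p : ℕ}
    (hp : p.Prime) {x : G} (hx : x ∈ H) (e : x ^ p = 1) (hn : x ∉ K) : p ∣ K.relIndex H := by
  haveI := Fact.mk hp
  haveI : (K.subgroupOf H).Normal := (normal_subgroupOf_iff_le_normalizer hK).2 hN
  have h1 : orderOf (QuotientGroup.mk' (K.subgroupOf H) ⟨x, hx⟩) = p := by
    refine orderOf_eq_prime ?_ fun e1 => hn ?_
    · rw [← map_pow, show (⟨x, hx⟩ : H) ^ p = 1 from Subtype.ext e, map_one]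
    · exact mem_subgroupOf.1 ((QuotientGroup.eq_one_iff _).1 e1)
  rw [← h1]
  exact orderOf_dvd_natCard _

theorem odd_index [Finite G] {H S : Subgroup G} (hS : IsSylowIn 2 S H) (hN : N[S] ≤ H) :
    Odd H.index := by
  haveI : Fact (Nat.Prime 2) := ⟨Nat.prime_two⟩
  have h1 : IsSylowIn 2 S ⊤ := isSylowIn_of_maximal le_top hS.isPGroup fun Q hQ _ hSQ => by
    by_contra hn
    have h2 := lt_inf_normalizer_of_lt hQ (lt_of_le_of_ne hSQ fun e => hn e.ge)
    exact h2.ne' (hS.eq_of_le (hQ.to_le inf_le_left) (inf_le_right.trans hN) h2.le)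
  have h2 := h1.not_dvd
  rw [relIndex_top_right] at h2
  exact Nat.not_even_iff_odd.1 fun e => h2 (e.two_dvd.trans (index_dvd_of_le hS.le))

end General

variable {Γ : Type} [Group Γ] {G : Type u} [Group G] [Finite G] {φ : Γ →* G} {F : Subgroup G}
  {t : G} {O T : Subgroup G} {z σ ρ : Γ} {V L : Subgroup Γ}

theorem j_sq (j : J1F z σ ρ V L) {a : Γ} (e : a * a * (a * a) = 1) : a * a = 1 := by
  by_contra h1
  obtain ⟨c, hc⟩ := isConj_iff.1 (j.cls _ e h1)
  have zz := j.el z j.zV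
  have h2 : c⁻¹ * a * c * (c⁻¹ * a * c) = z := by
    calc c⁻¹ * a * c * (c⁻¹ * a * c) = c⁻¹ * (a * a) * c := by group
      _ = z := by rw [← hc]; group
  have h3 : Commute (c⁻¹ * a * c) z := by
    rw [← h2]
    exact (Commute.refl _).mul_right (Commute.refl _)
  generalize c⁻¹ * a * c = b at h2 h3
  rcases j.cz b (mem_Cz.2 h3) with r | r
  · exact j.zL (h2 ▸ mul_mem r r)
  · have := mul_mem r r
    rw [← pow_two, h3.mul_pow, pow_two, pow_two, h2, zz, mul_one] at this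
    exact j.zL this

omit [Finite G] in
/-- no element of order four centralises `t` -/
theorem no_four (h : C1 φ F t O z σ ρ V L) {c : G} (hc : c * t = t * c)
    (e : c * c * (c * c) = 1) : c * c = 1 := by
  obtain ⟨α, hα⟩ := h.cx.aut hc
  obtain ⟨a, ha⟩ := h.jf.inn α
  obtain ⟨o, ho, r⟩ := h.cx.split' hc hα ha
  have h1 : Commute (φ a) o := h.cx.oA ho a
  have h2 : Commute (φ a) t := h.cx.AC a
  have h3 : Commute o t := h.cx.Ot o ho
  have h4 : c * c = φ (a * a) * (o * o) := by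
    rcases r with r | r <;> rw [r, map_mul]
    · rw [← pow_two, h1.mul_pow, pow_two, pow_two]
    · rw [← pow_two, (h1.mul_left h3.symm).mul_pow, h2.mul_pow, pow_two, pow_two, pow_two,
        h.cx.tt, mul_one]
  have h5 : φ (a * a * (a * a)) * (o * o * (o * o)) = 1 := by
    rw [← e, h4, map_mul φ (a * a), ← pow_two (φ _ * _),
      (show Commute (φ (a * a)) (o * o) from h.cx.oA (mul_mem ho ho) _).mul_pow, pow_two, pow_two]
  obtain ⟨h6, h7⟩ := h.cx.o_of_mul h.jf.base (mul_mem (mul_mem ho ho) (mul_mem ho ho)) h5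
  rw [h4, j_sq h.jf h6, h.cx.o_sq (mul_mem ho ho) h7, map_one, one_mul]

section Main
variable (h : C1 φ F t O z σ ρ V L) (tf : TF t (φ σ) (φ ρ) O (V.map φ) T) (ls : LS t (V.map φ) T)
include h tf ls

omit [Finite G] tf ls in
theorem wsq {w : G} (hw : w ∈ V.map φ) : w * w = 1 := by
  obtain ⟨v, hv, rfl⟩ := hw
  rw [← map_mul, h.jf.el v hv, map_one]

omit [Finite G] tf in
theorem inv' {y : G} (hy : y ∈ T) : t * y⁻¹ = y * t := by
  rw [← ls.inv y hy, ← mul_assoc, ← mul_assoc, h.cx.tt, one_mul]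

omit [Finite G] tf in
theorem out_sq {s : G} (hs : s * t ∈ T) : s * s = 1 := by
  have := ls.inv _ hs
  rw [mul_assoc, mul_assoc s, h.cx.tt, mul_one, mul_inv_rev, h.cx.tinv, mul_right_inj] at this
  exact mul_eq_one_iff_eq_inv.2 this

theorem nT : N[St1 T t] ≤ N[T] := fun g hg => by
  have k : ∀ y ∈ T, y * y ≠ 1 → g * y * g⁻¹ ∈ T := fun y hy y1 =>
    (memS h.cx.tt tf.tN (cj hg (mem_sup_left hy))).resolve_right fun r => y1 (by
      have := out_sq h ls r
      rw [conj_mul] at this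
      simpa using this)
  refine memN fun y hy => ?_
  by_cases y1 : y * y = 1
  · obtain ⟨x, hx, rfl⟩ := ls.sq y (ls.om y hy y1)
    by_cases x1 : x * x = 1
    · rw [x1]; simp
    · rw [← conj_mul]
      exact mul_mem (k x hx x1) (k x hx x1)
  · exact k y hy y1

theorem nW {g : G} (hg : g ∈ N[T]) : g ∈ N[V.map φ] := memN fun w hw =>
  ls.om _ (cj hg (tf.VT hw)) (by rw [conj_mul, wsq h hw]; group)

omit [Finite G] ls in
theorem sO {s o : G} (hs : s ∈ St1 T t) (ho : o ∈ O) : Commute s o := by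
  have : St1 T t ≤ C[O] := sup_le tf.OC (zpowers_le.2 fun o ho => h.cx.Ot o ho)
  exact (this hs o ho).symm

omit [Finite G] in
theorem s_two {s : G} (hs : s ∈ St1 T t) : Tw s := by
  rcases memS h.cx.tt tf.tN hs with r | r
  · obtain ⟨k, hk⟩ := tf.two ⟨s, r⟩
    exact ⟨k, congrArg Subtype.val hk⟩
  · exact ⟨1, by rw [pow_one, pow_two, out_sq h ls r]⟩

omit [Finite G] ls in
theorem dec {x : G} (hx : x ∈ St1 T t ⊔ O) : ∃ s ∈ St1 T t, ∃ o ∈ O, x = s * o := by
  have h1 : St1 T t ≤ N[O] := fun s hs => centralizer_le_normalizer _ fun o ho =>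
    (sO h tf hs ho).symm
  have h2 : x ∈ ((St1 T t ⊔ O : Subgroup G) : Set G) := hx
  rw [coe_mul_of_left_le_normalizer_right _ _ h1] at h2
  obtain ⟨s, hs, o, ho, e⟩ := h2
  exact ⟨s, hs, o, ho, e.symm⟩

omit ls in
theorem mem_N1 {g : G} (hg : g ∈ N[T]) (e : g * t * g⁻¹ ∈ St1 T t) : g ∈ N[St1 T t] := by
  refine memN fun s hs => ?_
  rcases memS h.cx.tt tf.tN hs with r | r
  · exact mem_sup_left (cj hg r)
  · have := mul_mem (mem_sup_left (cj hg r) : _ ∈ St1 T t) (inv_mem e)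
    simpa [mul_assoc] using this

theorem nO (hK : N[St1 T t] ⊓ C[V.map φ] ≤ St1 T t ⊔ O) : N[St1 T t] ≤ N[O] := fun g hg => by
  refine memN fun o ho => ?_
  have h1 : o ∈ N[St1 T t] := centralizer_le_normalizer _ fun s hs => sO h tf hs ho
  have h2 : g * o * g⁻¹ ∈ C[V.map φ] := fun w hw => by
    have := (sO h tf (mem_sup_left (tf.VT (cj' (nW h tf ls (nT h tf ls hg)) hw))) ho).eq
    calc w * (g * o * g⁻¹) = g * (g⁻¹ * w * g * o) * g⁻¹ := by group
      _ = _ := by rw [this]; group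
  obtain ⟨s, hs, o', ho', e⟩ := dec h tf
    (hK ⟨Subgroup.mul_mem _ (Subgroup.mul_mem _ hg h1) (Subgroup.inv_mem _ hg), h2⟩)
  have k : ∀ a ∈ O, a ^ Nat.card O = 1 := fun a ha =>
    congrArg Subtype.val (pow_card_eq_one' (G := O) (x := ⟨a, ha⟩))
  have h3 : s ^ Nat.card O = 1 := by
    have : (g * o * g⁻¹) ^ Nat.card O = 1 := by rw [conj_pow, k o ho]; group
    rwa [e, (sO h tf hs ho').mul_pow, k o' ho', mul_one] at this
  obtain ⟨n, hn⟩ := s_two h tf ls hs
  rw [e, tw_one (h.cx.odd.of_dvd_nat (orderOf_dvd_of_pow_eq_one h3)) hn, one_mul]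
  exact ho'

theorem wcl (hK : N[St1 T t] ⊓ C[V.map φ] ≤ St1 T t ⊔ O) (g : G)
    (hx : g * t * g⁻¹ ∈ N[St1 T t]) : ∃ x ∈ T, g * t * g⁻¹ = x * t := by
  have xx : g * t * g⁻¹ * (g * t * g⁻¹) = 1 := by rw [conj_mul, h.cx.tt]; group
  have n4 : ∀ c, g * t * g⁻¹ * c = c * (g * t * g⁻¹) → c * c * (c * c) = 1 → c * c = 1 := by
    intro c hc e
    have := no_four h (c := g⁻¹ * c * g) (by
      calc g⁻¹ * c * g * t = g⁻¹ * (c * (g * t * g⁻¹)) * g := by group
        _ = _ := by rw [← hc]; group) (by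
      calc g⁻¹ * c * g * (g⁻¹ * c * g) * (g⁻¹ * c * g * (g⁻¹ * c * g))
          = g⁻¹ * (c * c * (c * c)) * g := by group
        _ = 1 := by rw [e]; group)
    calc c * c = g * (g⁻¹ * c * g * (g⁻¹ * c * g)) * g⁻¹ := by group
      _ = 1 := by rw [this]; group
  have ic : IsConj t (g * t * g⁻¹) := isConj_iff.2 ⟨g, rfl⟩
  generalize g * t * g⁻¹ = x at hx xx n4 ic
  have xi : x⁻¹ = x := inv_eq_of_mul_eq_one_right xx
  have xT := nT h tf ls hx
  have hC : x ∈ C[V.map φ] := fun w hw => by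
    obtain ⟨b, hb, rfl⟩ := ls.sq w hw
    have h1 := cj xT hb
    have h2 : Commute b (x * b * x⁻¹) := tf.ab _ hb _ h1
    have h3 : b * (x * b * x⁻¹) * (b * (x * b * x⁻¹)) = b * b * (x * (b * b) * x⁻¹) := by
      rw [← pow_two, h2.mul_pow, pow_two, pow_two, conj_mul]
    have h4 := n4 (b * (x * b * x⁻¹)) (by
      calc x * (b * (x * b * x⁻¹)) = x * b * x⁻¹ * (x * x) * b * x⁻¹ := by group
        _ = _ := by rw [xx, mul_one, ← h2.eq, xi]) (by
      rw [h3]
      exact wsq h (mul_mem hw (cj (nW h tf ls xT) hw)))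
    rw [h3, mul_eq_one_iff_inv_eq, inv_eq_of_mul_eq_one_right (wsq h hw),
      eq_mul_inv_iff_mul_eq] at h4
    exact h4
  obtain ⟨s, hs, o, ho, e⟩ := dec h tf (hK ⟨hx, hC⟩)
  obtain ⟨n, hn⟩ := s_two h tf ls hs
  have h1 : o = 1 := h.cx.o_one ho (n := n + 1) (by
    have : x ^ 2 ^ (n + 1) = 1 := by rw [pow_succ', pow_mul, pow_two, xx, one_pow]
    rwa [e, (sO h tf hs ho).mul_pow, pow_succ, pow_mul s, hn, one_pow, one_mul] at this)
  rw [h1, mul_one] at e
  subst e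
  rcases memS h.cx.tt tf.tN hs with r | r
  · obtain ⟨a, -, ha⟩ := ls.om x r xx
    exact absurd (ha ▸ ic) (h.nc a)
  · exact ⟨x * t, r, by rw [mul_assoc, h.cx.tt, mul_one]⟩

theorem oddI (hK : N[St1 T t] ⊓ C[V.map φ] ≤ St1 T t ⊔ O) : Odd (N[St1 T t]).index := by
  haveI : Fact (Nat.Prime 2) := ⟨Nat.prime_two⟩
  have h2 : IsPGroup 2 (St1 T t) := fun s => by
    obtain ⟨n, hn⟩ := s_two h tf ls s.2
    exact ⟨n, Subtype.ext hn⟩
  obtain ⟨S, hS, le⟩ := exists_isSylowIn_ge h2 le_normalizer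
  refine odd_index hS fun g hg => ?_
  have tS : t ∈ St1 T t := mem_sup_right (mem_zpowers t)
  have k : ∀ x ∈ T, g * (x * t) * g⁻¹ ∈ St1 T t := fun x hx => by
    obtain ⟨n, -, e⟩ := ls.tr x hx
    have h3 := hS.le (cj hg (le (mul_mem (mem_sup_left hx) tS)))
    have h4 : g * (x * t) * g⁻¹ = g * n * t * (g * n)⁻¹ := by rw [← e]; group
    rw [h4] at h3 ⊢
    obtain ⟨y, hy, e2⟩ := wcl h tf ls hK _ h3
    rw [e2]
    exact mul_mem (mem_sup_left hy) tS
  have k1 := k 1 (one_mem _)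
  rw [one_mul] at k1
  refine memN fun s hs => ?_
  rcases memS h.cx.tt tf.tN hs with r | r
  · have := mul_mem (k s r) (inv_mem k1)
    simpa [mul_assoc] using this
  · have := k _ r
    rwa [mul_assoc s, h.cx.tt, mul_one] at this

theorem idx8 : 8 ≤ (B T t ⊓ N[St1 T t]).relIndex N[St1 T t] := by
  let f : T →* T := MonoidHom.mk' (fun x => x * x) fun a b => Subtype.ext (by
    simp only [coe_mul]
    rw [mul_assoc, ← mul_assoc (b : G), tf.ab _ b.2 _ a.2, mul_assoc, mul_assoc])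
  have hk : f.ker = (V.map φ).subgroupOf T := by
    ext y
    rw [MonoidHom.mem_ker, mem_subgroupOf, Subtype.ext_iff]
    exact ⟨ls.om _ y.2, wsq h⟩
  have h8 : f.range.index = 8 := by
    rw [index_range, hk, Nat.card_congr (subgroupOfEquivOfLe tf.VT).toEquiv,
      card_map_of_injective h.cx.inj, h.jf.cV]
  choose n hn e using ls.tr
  let ψ : T ⧸ f.range → N[St1 T t] ⧸ (B T t ⊓ N[St1 T t]).subgroupOf N[St1 T t] := fun q =>
    QuotientGroup.mk ⟨n q.out q.out.2, hn _ _⟩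
  have hψ : Function.Injective ψ := fun p q hpq => by
    obtain ⟨⟨-, w, hw, e1⟩, -⟩ := mem_subgroupOf.1 (QuotientGroup.eq.1 hpq)
    simp only [coe_mul, coe_inv] at e1
    rw [← p.out_eq', ← q.out_eq', QuotientGroup.eq]
    have e2 := e p.out p.out.2
    have e3 := e q.out q.out.2
    have h1 := cj (nT h tf ls (hn p.out p.out.2)) hw
    generalize n p.out p.out.2 = a at e1 e2 h1
    generalize n q.out q.out.2 = b at e1 e3
    refine ⟨⟨_, h1⟩, Subtype.ext ?_⟩
    change a * w * a⁻¹ * (a * w * a⁻¹) = (p.out : G)⁻¹ * q.out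
    have h2 : (q.out : G) * t = a * w * a⁻¹ * (p.out * t) * (a * w * a⁻¹)⁻¹ := by
      calc (q.out : G) * t = a * (a⁻¹ * b * t * (a⁻¹ * b)⁻¹) * a⁻¹ := by rw [← e3]; group
        _ = _ := by rw [e1, ← e2]; group
    generalize a * w * a⁻¹ = y at h1 h2
    rw [mul_assoc y, mul_assoc _ t, inv' h ls h1, ← mul_assoc, ← mul_assoc, mul_left_inj,
      tf.ab _ h1 _ p.out.2] at h2
    rw [h2]; group
  rw [← h8]
  exact Nat.card_le_card_of_injective ψ hψ

theorem glv (gl : GLStmt.{u}) (hK : N[St1 T t] ⊓ C[V.map φ] ≤ St1 T t ⊔ O) :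
    GLV N[St1 T t] (V.map φ) := by
  have nV : N[St1 T t] ≤ N[V.map φ] := fun g hg => nW h tf ls (nT h tf ls hg)
  refine (gl G _ _ (fun w hw => wsq h hw) (by rw [card_map_of_injective h.cx.inj, h.jf.cV]) nV).1 ?_
  have tS : t ∈ St1 T t := mem_sup_right (mem_zpowers t)
  have KB : N[St1 T t] ⊓ C[V.map φ] ≤ B T t ⊓ N[St1 T t] := fun x hx => by
    refine ⟨?_, hx.1⟩
    obtain ⟨s, hs, o, ho, rfl⟩ := dec h tf (hK hx)
    have hT : ∀ y ∈ T, y ∈ B T t := fun y hy => ⟨le_normalizer hy, y, hy, rfl⟩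
    refine mul_mem ((sup_le hT (zpowers_le.2 (memB tf.tN rfl)) : St1 T t ≤ B T t) hs)
      (memB (centralizer_le_normalizer _ fun y hy => sO h tf (mem_sup_left hy) ho) (h.cx.Ot o ho))
  have BK : B T t ⊓ N[St1 T t] ≤ N[(N[St1 T t] ⊓ C[V.map φ] : Subgroup G)] := fun g hg =>
    memN fun x hx => ⟨Subgroup.mul_mem _ (Subgroup.mul_mem _ hg.2 hx.1) (Subgroup.inv_mem _ hg.2),
      fun w hw => by
      have := hx.2 _ (cj' (nV hg.2) hw)
      calc w * (g * x * g⁻¹) = g * (g⁻¹ * w * g * x) * g⁻¹ := by group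
        _ = _ := by rw [this]; group⟩
  have k : ∀ (a : Γ) (p : ℕ), p.Prime → orderOf a = p → p ≠ 2 → φ a ∈ N[T] →
      p ∣ (N[St1 T t] ⊓ C[V.map φ]).relIndex (B T t ⊓ N[St1 T t]) := fun a p hp ha p2 hn => by
    refine prime_dvd_relIndex KB BK hp (x := φ a) ⟨memB hn (h.cx.AC a), mem_N1 h tf hn ?_⟩
      (by rw [← map_pow, ← ha, pow_orderOf_eq_one, map_one]) fun hc => p2 ?_
    · rw [h.cx.AC, mul_inv_cancel_right]; exact tS
    · have h1 : a ∈ V := h.jf.CV fun v hv => h.cx.inj (by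
        rw [map_mul, map_mul]; exact hc.2 _ ⟨v, hv, rfl⟩)
      have h2 : orderOf a ∣ 2 := orderOf_dvd_of_pow_eq_one (by rw [pow_two, h.jf.el a h1])
      rw [ha] at h2
      exact (Nat.prime_dvd_prime_iff_eq hp Nat.prime_two).1 h2
  have h7 := k σ 7 (by norm_num) h.jf.so (by norm_num) tf.sN
  have h3 := k ρ 3 (by norm_num) h.jf.ro (by norm_num) tf.rN
  have h21 := Nat.le_of_dvd (Nat.pos_of_ne_zero index_ne_zero_of_finite)
    (Nat.Coprime.mul_dvd_of_dvd_of_dvd (by norm_num) h7 h3)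
  rw [← relIndex_mul_relIndex _ _ _ KB inf_le_right]
  exact Nat.mul_le_mul h21 (idx8 h tf ls)

end Main

theorem jl1 (gl : GLStmt.{u}) : JL1Stmt.{u} := by
  intro Γ _ G _ _ φ F t O T z σ ρ V L h tf ls hK
  exact ⟨nT h tf ls, nO h tf ls hK, glv h tf ls gl hK, wcl h tf ls hK, oddI h tf ls hK⟩

end Cfsg.Agent.H14.S94Jl1
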