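import Mathlib
import Cfsg.Agent.H14.SPSet
import Cfsg.Agent.H67.Elem

/-! The action of `N(M)` on the conjugates of `Z` in `M`. -/

set_option autoImplicit false
set_option linter.unusedSectionVars false
set_option linter.unusedSimpArgs false
set_option linter.style.haveILetI false

namespace Cfsg.Agent.H14.SP

open Subgroup Cfsg.Agent.H63 Cfsg.Agent.H67

variable {G : Type*} [Group G] [Finite G] {F : Type*} [Field F]

section Defs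
variable (ι : Mo F →* G)
abbrev gD : Subgroup G := N[gM ι] ⊓ C1[gt ι]
abbrev gA : Subgroup G := gD ι ⊓ N[gZ ι]
/-- the conjugates of `Z` under `N(M)` -/
def Om : Set (Subgroup G) := {Y | ∃ k ∈ N[gM ι], cj k (gZ ι) = Y}
/-- the conjugates of `Z` under `N(M)` inside `W` -/
def OmW : Set (Subgroup G) := {Y | Y ∈ Om ι ∧ Y ≤ gW ι}
end Defs

theorem arith {q k r : ℕ} (hr : q = 2 * r + 1) (h4 : q % 4 = 3) (hk : 1 ≤ k) (h1 : k + 1 ∣ 2 * r) :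
    (r ∣ k - 1 → k = 1) ∧ (r ∣ k → k = 1 ∧ q = 3) := by
  have h2 := Nat.le_of_dvd (by omega) h1
  constructor
  · rintro ⟨j, hj⟩
    obtain rfl | rfl | hj2 : j = 0 ∨ j = 1 ∨ 2 ≤ j := by omega
    · omega
    · obtain rfl : k = r + 1 := by omega
      have : r + 1 + 1 ∣ 4 := (Nat.dvd_add_right h1).1 ⟨2, by ring⟩
      have := Nat.le_of_dvd (by omega) this
      omega
    · have := Nat.mul_le_mul_left r hj2
      omega
  · rintro ⟨j, hj⟩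
    obtain rfl | rfl | hj2 : j = 0 ∨ j = 1 ∨ 2 ≤ j := by omega
    · omega
    · obtain rfl : k = r := by omega
      have : k + 1 ∣ 2 := (Nat.dvd_add_right h1).1 ⟨2, by ring⟩
      have := Nat.le_of_dvd (by omega) this
      omega
    · have := Nat.mul_le_mul_left r hj2
      omega

theorem card_zpowers_two {t : G} (h : orderOf t = 2) : Nat.card (zpowers t) = 2 := by
  rw [Nat.card_zpowers, h]

namespace Sx

variable {ι : Mo F →* G}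

theorem Z_mem_Om : gZ ι ∈ Om ι := ⟨1, one_mem _, cj_one _⟩
theorem Z_mem_OmW : gZ ι ∈ OmW ι := ⟨Z_mem_Om, map_mono Mo.Z_le_W⟩

theorem cj_mem_Om {Y : Subgroup G} (hY : Y ∈ Om ι) {g : G} (hg : g ∈ N[gM ι]) :
    H63.cj g Y ∈ Om ι := by
  obtain ⟨k, hk, rfl⟩ := hY
  exact ⟨_, mul_mem hg hk, cj_mul _ _ _⟩

theorem le_M {Y : Subgroup G} (hY : Y ∈ Om ι) : Y ≤ gM ι := by
  obtain ⟨k, hk, rfl⟩ := hY
  exact cj_le_of_mem_normalizer hk (map_mono Mo.Z_le_M)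

theorem X_le_H : gX ι ≤ N[gM ι] := (map_mono (Mo.X_le_Q.trans Mo.Q_le_P)).trans P_le_H
theorem Q_le_H : gQ ι ≤ N[gM ι] := (map_mono Mo.Q_le_P).trans P_le_H
theorem W_le_K : gW ι ≤ C1[gt ι] := (map_mono (Mo.W_le_WT.trans Mo.WT_le_ZL)).trans ZL_le_K
theorem WT_le_D : gWT ι ≤ gD ι :=
  le_inf ((map_mono Mo.WT_le_B).trans B_le_NM) ((map_mono Mo.WT_le_ZL).trans ZL_le_K)
theorem W_le_D : gW ι ≤ gD ι := (map_mono Mo.W_le_WT).trans WT_le_D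
theorem t_mem_WT : gt ι ∈ gWT ι := map_mono Mo.T_le_WT t_mem
theorem conj_t {g : G} (hg : g ∈ C1[gt ι]) : g * gt ι * g⁻¹ = gt ι :=
  mul_inv_eq_iff_eq_mul.2 (mem_centralizer_singleton_iff.1 hg)
theorem t_conj {g : G} (hg : g ∈ C1[gt ι]) : gt ι * g * (gt ι)⁻¹ = g :=
  mul_inv_eq_iff_eq_mul.2 (mem_centralizer_singleton_iff.1 hg).symm
theorem cj_eq_of_mem_M {Y : Subgroup G} (hY : Y ∈ Om ι) {m : G} (hm : m ∈ gM ι) :
    H63.cj m Y = Y := cj_eq_self_of_mem_centralizer fun _ hy => M_comm (le_M hY hy) hm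

variable (h : Sx ι)
include h

theorem M_inf_K : gM ι ⊓ C1[gt ι] = gW ι :=
  le_antisymm (fun _ hg => h.mem_W hg.1 hg.2) (le_inf (map_mono Mo.W_le_M) W_le_K)

theorem D_le_NW : gD ι ≤ N[gW ι] :=
  h.M_inf_K ▸ le_normalizer_inf inf_le_left (inf_le_right.trans le_normalizer)

theorem cj_mem_OmW {Y : Subgroup G} (hY : Y ∈ OmW ι) {g : G} (hg : g ∈ gD ι) :
    H63.cj g Y ∈ OmW ι := ⟨cj_mem_Om hY.1 hg.1, cj_le_of_mem_normalizer (h.D_le_NW hg) hY.2⟩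

theorem D_le_NE0 : gD ι ≤ N[gE0 ι] := fun g hg => mem_normalizer_of_cj_le (cj_le_iff.2 fun e he => by
  have hm := map_mono (f := ι) (Mo.E0_le_E.trans Mo.E_le_M) he
  refine (h.mem_E0_iff (conj_mem_of_mem_normalizer hg.1 hm)).2 ?_
  calc _ = g * ((g⁻¹ * gt ι * g⁻¹⁻¹) * e * (g⁻¹ * gt ι * g⁻¹⁻¹)⁻¹) * g⁻¹ := by group
    _ = _ := by rw [conj_t (inv_mem hg.2), (h.mem_E0_iff hm).1 he]; group)

theorem t_not_mem_M : gt ι ∉ gM ι := fun e => h.two (by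
  have := (h.mem.1 e).2.1
  simp only [Mo.tt] at this
  linear_combination -this)

theorem card_of_mem {Y : Subgroup G} (hY : Y ∈ Om ι) : Nat.card Y = Nat.card F := by
  obtain ⟨k, -, rfl⟩ := hY
  rw [card_cj, h.card_map, Mo.card_Z]

theorem exists_of_mem {Y : Subgroup G} (hY : Y ∈ Om ι) : ∃ y ∈ Y, y ≠ 1 :=
  exists_ne_one_of_ne_bot fun e => h.one_lt.ne' (by rw [← h.card_of_mem hY, e, card_bot])

theorem not_mem_Z {Y : Subgroup G} (hY : Y ∈ Om ι) (hn : Y ≠ gZ ι) {y : G} (hy : y ∈ Y)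
    (h1 : y ≠ 1) : y ∉ gZ ι := by
  obtain ⟨k, -, rfl⟩ := hY
  exact fun hz => hn (h.cj_eq_of_mem hz h1 hy)

theorem cent_of_mem {Y : Subgroup G} (hY : Y ∈ Om ι) {y : G} (hy : y ∈ Y) (h1 : y ≠ 1) :
    C1[y] = C[Y] := by
  obtain ⟨k, -, rfl⟩ := hY
  rw [h.cent_cj hy h1, ← cj_centralizer, h.cent_Z]

theorem le_W_of_mem {Y : Subgroup G} (hY : Y ∈ Om ι) {y : G} (hy : y ∈ Y) (h1 : y ≠ 1)
    (hw : y ∈ gW ι) : Y ≤ gW ι := fun _ hm => h.mem_W (le_M hY hm) (mem_centralizer_singleton_iff.2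
      ((h.cent_of_mem hY hy h1).le (mem_centralizer_singleton_comm.1 (W_le_K hw)) _ hm))

theorem not_mem_E (hc : NC ι) {Y : Subgroup G} (hY : Y ∈ Om ι) (hn : Y ≠ gZ ι) {y : G} (hy : y ∈ Y)
    (h1 : y ≠ 1) : y ∉ gE ι := fun hE => by
  have key : ∀ y' ∈ Y, y' ∈ gE ι := fun y' hy' => by
    by_contra hn'
    have h1' : y' ≠ 1 := fun e => hn' (e ▸ one_mem _)
    obtain ⟨x, hx, e⟩ := h.exists_conj_W (le_M hY hy') hn'
    have h2 : x⁻¹ * gt ι * x ∈ C1[y'] := by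
      rw [mem_centralizer_singleton_iff]
      calc _ = x⁻¹ * (gt ι * (x * y' * x⁻¹)) * x := by group
        _ = _ := by rw [← mem_centralizer_singleton_iff.1 (W_le_K e)]; group
    rw [h.cent_of_mem hY hy' h1', ← h.cent_of_mem hY hy h1] at h2
    have h3 := h.cent_E hE (h.not_mem_Z hY hn hy h1) (mul_mem (mul_mem (inv_mem (le_C _ hx))
      ⟨_, rfl⟩) (le_C _ hx)) (mem_centralizer_singleton_iff.1 h2)
    exact h.t_not_mem_M (by simpa [mul_assoc] using conj_mem_of_mem_normalizer (X_le_H hx) h3)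
  obtain ⟨z, hz, z', hz', e1, e1', hc⟩ := hc
  obtain ⟨k, -, rfl⟩ := id hY
  obtain ⟨b, -, e⟩ := h.conj_E (key _ (conj_mem_cj hz))
    (h.not_mem_Z hY hn (conj_mem_cj hz) (by simpa)) (key _ (conj_mem_cj hz'))
    (h.not_mem_Z hY hn (conj_mem_cj hz') (by simpa))
  refine hc (k⁻¹ * b * k) ?_
  calc _ = k⁻¹ * (b * (k * z * k⁻¹) * b⁻¹) * k := by group
    _ = _ := by rw [e]; group

theorem exists_X (hc : NC ι) {Y : Subgroup G} (hY : Y ∈ Om ι) (hn : Y ≠ gZ ι) :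
    ∃ x ∈ gX ι, H63.cj x Y ≤ gW ι := by
  obtain ⟨y, hy, h1⟩ := h.exists_of_mem hY
  obtain ⟨x, hx, e⟩ := h.exists_conj_W (le_M hY hy) (h.not_mem_E hc hY hn hy h1)
  exact ⟨x, hx, h.le_W_of_mem (cj_mem_Om hY (X_le_H hx)) (conj_mem_cj hy) (by simpa) e⟩

theorem X_unique {Y : Subgroup G} (hY : Y ∈ OmW ι) (hn : Y ≠ gZ ι) {x : G} (hx : x ∈ gX ι)
    (e : H63.cj x Y ≤ gW ι) : x = 1 := by
  obtain ⟨y, hy, h1⟩ := h.exists_of_mem hY.1
  exact h.conj_W_unique (hY.2 hy) (h.not_mem_Z hY.1 hn hy h1) hx (e (conj_mem_cj hy))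

theorem exists_Q {k : G} (hk : k * gt ι * k⁻¹ ∈ gC ι) : ∃ y ∈ gQ ι, y * k ∈ C1[gt ι] := by
  obtain ⟨y, hy, e⟩ := h.inv_conj hk (by rw [conj_mul, t_mul]; simp) (by simpa using h.t_ne)
  refine ⟨y⁻¹, inv_mem hy, mem_centralizer_singleton_iff.2 ?_⟩
  calc _ = y⁻¹ * (k * gt ι * k⁻¹) * k := by group
    _ = _ := by rw [e]; group

theorem exists_D {Y : Subgroup G} (hY : Y ∈ OmW ι) : ∃ d ∈ gD ι, H63.cj d (gZ ι) = Y := by
  obtain ⟨⟨k, hk, rfl⟩, hW⟩ := hY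
  obtain ⟨z, hz, h1⟩ := h.exists_z
  obtain ⟨y, hy, e⟩ := h.exists_Q (k := k⁻¹) (h.mem_C hz h1 (by
    calc _ = k⁻¹ * (gt ι * (k * z * k⁻¹)) * k := by group
      _ = _ := by rw [← mem_centralizer_singleton_iff.1 (W_le_K (hW (conj_mem_cj hz)))]; group))
  refine ⟨_, mem_inf.2 ⟨inv_mem (mul_mem (Q_le_H hy) (inv_mem hk)), inv_mem e⟩, cj_eq_cj_iff.2 ?_⟩
  simpa using h.C_le (le_C _ hy)

theorem ncard_Om : (Om ι).ncard = N[gZ ι].relIndex N[gM ι] :=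
  ncard_orbit H63.cj cj_one cj_mul _ fun _ _ => cj_eq_self_iff

theorem ncard_OmW : (OmW ι).ncard = N[gZ ι].relIndex (gD ι) := by
  rw [← ncard_orbit H63.cj cj_one cj_mul (gZ ι) fun _ _ => cj_eq_self_iff]
  congr 1
  ext Y
  exact ⟨h.exists_D, by rintro ⟨d, hd, rfl⟩; exact h.cj_mem_OmW Z_mem_OmW hd⟩

theorem cj_ne {Y : Subgroup G} (hn : Y ≠ gZ ι) {g : G} (hg : g ∈ N[gZ ι]) : H63.cj g Y ≠ gZ ι :=
  fun e => hn (cj_injective g (e.trans (cj_eq_self hg).symm))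

theorem ncard_Om_eq (hc : NC ι) : (Om ι).ncard = Nat.card F * ((OmW ι).ncard - 1) + 1 := by
  have hX {x} (hx : x ∈ gX ι) : x ∈ N[gZ ι] := h.C_le (le_C _ hx)
  have := Set.ncard_congr (s := (gX ι : Set G) ×ˢ (OmW ι \ {gZ ι})) (t := Om ι \ {gZ ι})
    (fun v _ => H63.cj v.1 v.2) (fun v hv => ⟨cj_mem_Om hv.2.1.1 (X_le_H hv.1),
      h.cj_ne hv.2.2 (hX hv.1)⟩) (fun v v' hv hv' e => by
        have h1 : H63.cj (v'.1⁻¹ * v.1) v.2 = v'.2 := by rw [cj_mul, e, cj_inv_cj]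
        have h2 := h.X_unique hv.2.1 hv.2.2 (mul_mem (inv_mem hv'.1) hv.1) (h1 ▸ hv'.2.1.2)
        rw [h2, cj_one] at h1
        exact Prod.ext (inv_mul_eq_one.1 h2).symm h1)
    fun Y hY => by
      obtain ⟨x, hx, e⟩ := h.exists_X hc hY.1 hY.2
      exact ⟨(x⁻¹, H63.cj x Y), ⟨inv_mem hx, ⟨cj_mem_Om hY.1 (X_le_H hx), e⟩,
        h.cj_ne hY.2 (hX hx)⟩, cj_inv_cj _ _⟩
  rw [Set.ncard_prod, Set.ncard_sdiff_singleton_of_mem Z_mem_OmW,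
    Set.ncard_sdiff_singleton_of_mem Z_mem_Om, ← Nat.card_coe_set_eq] at this
  rw [← Mo.card_X, ← h.card_map]
  have h1 := (Set.ncard_pos (s := Om ι)).2 ⟨_, Z_mem_Om⟩
  exact (Nat.sub_eq_iff_eq_add h1).1 this.symm

theorem isMul_QA : IsMul (gQ ι) (gA ι) (N[gM ι] ⊓ N[gZ ι]) :=
  ⟨le_inf Q_le_H ((le_C _).trans h.C_le), inf_le_inf_right _ inf_le_left, fun b hb => by
    obtain ⟨y, hy, e⟩ := h.exists_Q (conj_mem_of_mem_normalizer (h.le_NC hb.2) ⟨_, rfl⟩)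
    exact ⟨y⁻¹, inv_mem hy, y * b, ⟨⟨mul_mem (Q_le_H hy) hb.1, e⟩,
      mul_mem (h.C_le (le_C _ hy)) hb.2⟩, by group⟩⟩

theorem WT_le_A : gWT ι ≤ gA ι := le_inf WT_le_D ((le_C _).trans h.C_le)

theorem card_HN : Nat.card ↥(N[gM ι] ⊓ N[gZ ι]) = Nat.card F ^ 2 * Nat.card (gA ι) := by
  have h1 := h.isMul_QA.card
  rw [show gQ ι ⊓ gA ι = gZ ι from le_antisymm (fun x hx => (h.inf Mo.Q_inf_ZL).le
    ⟨hx.1, h.cent_t (le_C _ hx.1) hx.2.1.2⟩) (le_inf (map_mono Mo.Z_le_Q)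
      ((map_mono (Mo.Z_le_W.trans Mo.W_le_WT)).trans h.WT_le_A)), h.card_map, h.card_map, Mo.card_Z,
    Mo.card_Q] at h1
  have := h.one_lt
  exact Nat.eq_of_mul_eq_mul_right (by omega) (h1.trans (by ring))

theorem syl_D (hc : NC ι) {p : ℕ} [hp : Fact p.Prime] [CharP F p] : IsSyl p (gW ι) (gD ι) := by
  refine syl_of_maximal W_le_D (h.isP (Mo.W_le_M.trans Mo.M_le_P)) fun S hS hS' hW =>
    le_antisymm (fun s hs => h.mem_W ?_ (hS hs).2) hW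
  obtain ⟨k, hk, e⟩ := exists_le_cj_syl h.syl_H (hS.trans inf_le_left) hS'
  obtain ⟨y, ⟨hy, hy'⟩, h1⟩ := exists_ne_one_of_ne_bot (inf_centralizer_ne_bot_of_isPGroup hp.out hS'
    (h.isP (Mo.E0_le_E.trans (Mo.E_le_M.trans Mo.M_le_P))) (hS.trans h.D_le_NE0)
    (ne_bot_of_mem (mem_map_of_mem ι (Mo.ee_mem 1))
      fun e => one_ne_zero (Mo.ee_eq_one.1 (h.eq_one.1 e))))
  by_contra hs'
  have hE := map_mono (f := ι) Mo.E0_le_E hy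
  have h2 : y ∈ H63.cj k (gZ ι) := mem_cj.2 (h.cent_P (mem_cj.1 (e hs))
    (fun a => hs' (by simpa [mul_assoc] using conj_mem_of_mem_normalizer hk a))
    (conj_mem_of_mem_normalizer' hk (map_mono Mo.E_le_M hE)) (by
      calc _ = k⁻¹ * (s * y) * k := by group
        _ = _ := by rw [hy' s hs]; group))
  by_cases h3 : H63.cj k (gZ ι) = gZ ι
  · exact h1 (mem_bot.1 ((h.inf_bot Mo.W_inf_E0).le ⟨map_mono Mo.Z_le_W (h3.le h2), hy⟩))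
  · exact h.not_mem_E hc ⟨k, hk, rfl⟩ h3 h2 h1 hE

theorem comm_T {s w : G} (hs : s ∈ gT ι) (hw : w ∈ gW ι) (hw' : w ∉ gZ ι) (e : s * w = w * s) :
    s ∈ zpowers (gt ι) := by
  rw [mem_zpowers_t]
  obtain ⟨s, hs, rfl⟩ := hs; obtain ⟨w, hw, rfl⟩ := hw
  pull h; exact Mo.eq_one_of_comm_U h.two hs hw hw' e

theorem comm_mem_U {y y' : G} (hy : y ∈ gWT ι) (hy' : y' ∈ gWT ι) :
    y * y' * y⁻¹ * y'⁻¹ ∈ gU ι := by
  obtain ⟨y, hy, rfl⟩ := hy; obtain ⟨y', hy', rfl⟩ := hy'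
  pull h; exact Mo.comm_mem_U hy hy'

theorem stab_T {Y : Subgroup G} (hY : Y ∈ OmW ι) (hn : Y ≠ gZ ι) (hU : Y ≠ gU ι) {s : G}
    (hs : s ∈ gT ι) (e : H63.cj s Y = Y) : s ∈ zpowers (gt ι) := by
  by_contra hs'
  have h1 : Nat.card Y ≤ Nat.card ↥(Y ⊓ gU ι) := Nat.card_le_card_of_injective
    (fun y => ⟨s * y * s⁻¹ * (y : G)⁻¹, mem_inf.2 ⟨mul_mem (e.le (conj_mem_cj y.2)) (inv_mem y.2),
      h.comm_mem_U (map_mono Mo.T_le_WT hs) (map_mono Mo.W_le_WT (hY.2 y.2))⟩⟩) fun y y' e' => by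
    have h2 : s * y * s⁻¹ * (y : G)⁻¹ = s * y' * s⁻¹ * (y' : G)⁻¹ := congrArg Subtype.val e'
    have h3 := mul_mem (inv_mem y'.2) y.2
    by_contra h4
    refine hs' (h.comm_T hs (hY.2 h3) (h.not_mem_Z hY.1 hn h3
      fun a => h4 (Subtype.ext (inv_mul_eq_one.1 a).symm)) ?_)
    calc _ = s * (y' : G)⁻¹ * s⁻¹ * (s * y * s⁻¹ * (y : G)⁻¹) * y * s := by group
      _ = _ := by rw [h2]; group
  exact hU (eq_of_le_of_card_ge (inf_eq_left.1 (eq_of_le_of_card_ge inf_le_left h1))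
    (by rw [h.card_of_mem hY.1, h.card_map, Mo.card_U]))

theorem two_mul_index_T : 2 * (zpowers (gt ι)).relIndex (gT ι) = Nat.card F - 1 := by
  rw [← card_zpowers_two h.orderOf_t, card_mul_relIndex (zpowers_le.2 t_mem), h.card_map, Mo.card_T]

theorem index_T_dvd :
    (zpowers (gt ι)).relIndex (gT ι) ∣ ((OmW ι \ {gZ ι}) \ {gU ι}).ncard :=
  relIndex_dvd_ncard H63.cj cj_one cj_mul (Set.toFinite _) (fun g hg Y hY => by
    have h1 := map_mono (f := ι) Mo.T_le_WT hg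
    exact ⟨⟨h.cj_mem_OmW hY.1.1 (WT_le_D h1), h.cj_ne hY.1.2 (h.C_le (le_C _ hg))⟩,
      fun e => hY.2 (cj_injective g (e.trans (cj_eq_self (WT_le_NU h1)).symm))⟩)
    fun Y hY g hg => ⟨h.stab_T hY.1.1 hY.1.2 hY.2 hg, fun e => cj_eq_self_of_mem_centralizer
      (zpowers_le.2 (mem_centralizer_iff.2 fun _ hy =>
        mem_centralizer_singleton_iff.1 (W_le_K (hY.1.1.2 hy))) e)⟩

theorem ncard_OmW_eq (hc : NC ι) (h4 : Nat.card F % 4 = 3) (hH : ¬ N[gM ι] ≤ N[gZ ι]) :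
    (OmW ι).ncard = 2 ∧ (Om ι).ncard = Nat.card F + 1 ∧ (3 < Nat.card F → gU ι ∈ OmW ι) := by
  obtain ⟨p, hp, _⟩ := h.exists_p
  have h1 := h.ncard_Om_eq hc
  obtain ⟨k, hk⟩ : ∃ k, (OmW ι).ncard = k + 1 :=
    Nat.exists_eq_succ_of_ne_zero ((Set.ncard_pos (s := OmW ι)).2 ⟨_, Z_mem_OmW⟩).ne'
  rw [hk, Nat.add_sub_cancel] at h1
  have hk1 : 1 ≤ k := Nat.pos_of_ne_zero fun e => hH (relIndex_eq_one.1 (by
    rw [← h.ncard_Om, h1, e]; simp))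
  have h2 := card_inf_mul_relIndex N[gZ ι] N[gM ι]
  have h3 := card_inf_mul_relIndex N[gZ ι] (gD ι)
  rw [inf_comm, h.card_HN, ← h.ncard_Om, h1] at h2
  rw [inf_comm, ← h.ncard_OmW, hk] at h3
  have h5 : k + 1 ∣ Nat.card F ^ 2 * (Nat.card F * k + 1) := by
    have := card_dvd_of_le' (inf_le_left : gD ι ≤ N[gM ι])
    rw [← h2, ← h3, mul_comm (_ ^ 2), mul_assoc] at this
    exact Nat.dvd_of_mul_dvd_mul_left Nat.card_pos this
  have h6 : ¬ p ∣ k + 1 := fun e => syl_not_dvd (h.syl_D hc) (e.trans (by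
    rw [← hk, h.ncard_OmW]
    exact relIndex_dvd_of_le_left _ ((le_C _).trans h.C_le)))
  obtain ⟨n, -, hn⟩ := h.exists_pow (p := p)
  have h7 : k + 1 ∣ Nat.card F * k + 1 := (Nat.Coprime.pow_right 2 (by
    rw [hn]; exact ((Nat.Prime.coprime_iff_not_dvd hp.out).2 h6).symm.pow_right n)).dvd_of_dvd_mul_left h5
  have h8 := h.two_mul_index_T
  have h9 := h.index_T_dvd
  generalize (zpowers (gt ι)).relIndex (gT ι) = r at h8 h9
  have hq : Nat.card F = 2 * r + 1 := by omega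
  have h10 : k + 1 ∣ 2 * r := (Nat.dvd_add_right h7).1 ⟨Nat.card F, by rw [hq]; ring⟩
  have h11 := arith hq h4 hk1 h10
  have h12 : (OmW ι \ {gZ ι}).ncard = k := by
    rw [Set.ncard_sdiff_singleton_of_mem Z_mem_OmW, hk]; rfl
  by_cases hU : gU ι ∈ OmW ι \ {gZ ι}
  · rw [Set.ncard_sdiff_singleton_of_mem hU, h12] at h9
    obtain rfl := h11.1 h9
    exact ⟨hk, by simpa using h1, fun _ => hU.1⟩
  · rw [Set.sdiff_singleton_eq_self hU, h12] at h9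
    obtain ⟨rfl, h13⟩ := h11.2 h9
    exact ⟨hk, by simpa using h1, fun _ => by omega⟩

end Sx

/-- the situation in which `N(M)` does not normalise `Z` -/
structure Sw (ι : Mo F →* G) (w : G) : Prop extends Sx ι where
  nc : Sx.NC ι
  four : Nat.card F % 4 = 3
  mem : w ∈ gD ι
  ne : w ∉ N[gZ ι]

theorem Sx.exists_sw {ι : Mo F →* G} (h : Sx ι) (hc : Sx.NC ι) (h4 : Nat.card F % 4 = 3)
    (hH : ¬ N[gM ι] ≤ N[gZ ι]) : ∃ w, Sw ι w := by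
  have h1 := (h.ncard_OmW_eq hc h4 hH).1
  rw [h.ncard_OmW] at h1
  obtain ⟨w, hw, hw'⟩ := SetLike.not_le_iff_exists.1
    (fun e : gD ι ≤ N[gZ ι] => by rw [relIndex_eq_one.2 e] at h1; omega)
  exact ⟨w, h, hc, h4, hw, hw'⟩

namespace Sw

open Sx

variable {ι : Mo F →* G} {w : G} (h : Sw ι w)
include h

theorem hH : ¬ N[gM ι] ≤ N[gZ ι] := fun e => h.ne (e h.mem.1)
theorem ncard_Om : (Om ι).ncard = Nat.card F + 1 := (h.ncard_OmW_eq h.nc h.four h.hH).2.1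
theorem index_H : N[gZ ι].relIndex N[gM ι] = Nat.card F + 1 := h.toSx.ncard_Om ▸ h.ncard_Om
theorem index_D : N[gZ ι].relIndex (gD ι) = 2 :=
  h.toSx.ncard_OmW ▸ (h.ncard_OmW_eq h.nc h.four h.hH).1
theorem Z'_mem : H63.cj w (gZ ι) ∈ OmW ι := h.cj_mem_OmW Z_mem_OmW h.mem
theorem Z'_ne : H63.cj w (gZ ι) ≠ gZ ι := fun e => h.ne (cj_eq_self_iff.1 e)

theorem eq_or {Y : Subgroup G} (hY : Y ∈ OmW ι) : Y = gZ ι ∨ Y = H63.cj w (gZ ι) := by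
  have := Set.eq_of_subset_of_ncard_le (s := {gZ ι, H63.cj w (gZ ι)}) (t := OmW ι)
    (by rintro _ (rfl | rfl); exacts [Z_mem_OmW, h.Z'_mem])
    (by rw [Set.ncard_pair h.Z'_ne.symm, (h.ncard_OmW_eq h.nc h.four h.hH).1])
  exact this.ge hY

theorem eq_U (h3 : 3 < Nat.card F) : H63.cj w (gZ ι) = gU ι := by
  refine ((h.eq_or ((h.ncard_OmW_eq h.nc h.four h.hH).2.2 h3)).resolve_left fun e => ?_).symm
  obtain ⟨z, hz, h1⟩ := h.exists_z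
  exact h1 (mem_bot.1 ((h.inf_bot Mo.Z_inf_L).le ⟨hz, map_mono Mo.U_le_L (e.ge hz)⟩))

theorem of_mem {w' : G} (h1 : w' ∈ gD ι) (h2 : w' ∉ N[gZ ι]) : Sw ι w' :=
  ⟨h.toSx, h.nc, h.four, h1, h2⟩

theorem cj_eq {d : G} (h1 : d ∈ gD ι) (h2 : d ∉ N[gZ ι]) : H63.cj d (gZ ι) = H63.cj w (gZ ι) :=
  (h.eq_or (h.cj_mem_OmW Z_mem_OmW h1)).resolve_left fun e => h2 (cj_eq_self_iff.1 e)

theorem inv_mul_mem {d : G} (h1 : d ∈ gD ι) (h2 : d ∉ N[gZ ι]) : w⁻¹ * d ∈ gA ι :=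
  mem_inf.2 ⟨mul_mem (inv_mem h.mem) h1, cj_eq_cj_iff.1 (h.cj_eq h1 h2)⟩

theorem cj_cj_Z : H63.cj w (H63.cj w (gZ ι)) = gZ ι :=
  (h.eq_or (h.cj_mem_OmW h.Z'_mem h.mem)).resolve_right fun e => h.Z'_ne (cj_injective w e)

theorem sq_mem : w * w ∈ gA ι :=
  ⟨mul_mem h.mem h.mem, cj_eq_self_iff.1 (by rw [cj_mul, h.cj_cj_Z])⟩

theorem A_fix {a : G} (ha : a ∈ gA ι) : H63.cj a (H63.cj w (gZ ι)) = H63.cj w (gZ ι) :=
  (h.eq_or (h.cj_mem_OmW h.Z'_mem ha.1)).resolve_left (h.cj_ne h.Z'_ne ha.2)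

theorem conj_mem_A {a : G} (ha : a ∈ gA ι) : w * a * w⁻¹ ∈ gA ι :=
  mem_inf.2 ⟨mul_mem (mul_mem h.mem ha.1) (inv_mem h.mem), cj_eq_self_iff.1 (by
    conv_lhs => rw [← h.cj_cj_Z]
    rw [cj_mul, cj_mul, cj_inv_cj, h.A_fix ha, h.cj_cj_Z])⟩

theorem cj_A : H63.cj w (gA ι) = gA ι :=
  cj_eq_self (mem_normalizer_of_cj_le (cj_le_iff.2 fun _ => h.conj_mem_A))

theorem cj_W : H63.cj w (gW ι) = gW ι := cj_eq_self (h.D_le_NW h.mem)

theorem A_inf_C : gA ι ⊓ gC ι = gWT ι :=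
  le_antisymm (fun _ hg => (h.inf Mo.B_inf_ZL).le ⟨h.mem_B hg.2 hg.1.1.1, h.cent_t hg.2 hg.1.1.2⟩)
    (le_inf h.WT_le_A (le_C _))

theorem WT'_le_A : H63.cj w (gWT ι) ≤ gA ι := h.cj_A ▸ cj_mono h.WT_le_A

theorem A_le_NWT : gA ι ≤ N[gWT ι] :=
  h.A_inf_C ▸ le_normalizer_inf le_normalizer (inf_le_right.trans h.le_NC)

theorem A_le_NWT' : gA ι ≤ N[H63.cj w (gWT ι)] := by
  rw [← cj_normalizer, ← h.cj_A]; exact cj_mono h.A_le_NWT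

theorem mem_Wt {g : G} (h1 : g ∈ gC ι) (h2 : g ∈ C1[gt ι]) (h3 : g ∈ H63.cj w (gC ι)) :
    g ∈ gW ι ∨ g * gt ι ∈ gW ι := by
  obtain ⟨y, hy, e⟩ := h.exists_of_mem h.Z'_mem.1
  refine (h.cent_W (h.Z'_mem.2 hy) (h.not_mem_Z h.Z'_mem.1 h.Z'_ne hy e) h1
    (mem_centralizer_singleton_iff.1 ((h.cent_cj hy e).ge h3))).imp (fun a => h.mem_W a h2)
    fun a => h.mem_W a (mul_mem h2 (mem_centralizer_singleton_self _))

theorem WT_inf : gC ι ⊓ H63.cj w (gWT ι) = gW ι ⊔ zpowers (gt ι) := by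
  refine le_antisymm (fun g hg => ?_) (sup_le (le_inf (le_C _) ?_) (zpowers_le.2 ⟨⟨_, rfl⟩, ?_⟩))
  · rcases h.mem_Wt hg.1 (h.WT'_le_A hg.2).1.2 (cj_mono (le_C _) hg.2) with e | e
    · exact mem_sup_left e
    · exact (mul_mem_cancel_right (mem_sup_right (mem_zpowers _))).1 (mem_sup_left e)
  · exact h.cj_W.ge.trans (cj_mono (map_mono Mo.W_le_WT))
  · exact conj_t h.mem.2 ▸ conj_mem_cj t_mem_WT

theorem card_Wt : Nat.card ↥(gW ι ⊔ zpowers (gt ι)) = Nat.card F ^ 2 * 2 := by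
  rw [card_sup_of_inf_eq_bot (.inr (zpowers_le.2 (WT_le_NW t_mem_WT))), h.card_map, Mo.card_W,
    card_zpowers_two h.orderOf_t]
  refine eq_bot_iff.2 fun x hx => ?_
  rcases mem_zpowers_t.1 hx.2 with rfl | rfl
  · exact one_mem _
  · exact (h.t_not_mem_M (map_mono Mo.W_le_M hx.1)).elim

theorem index_WT' : 2 * (gC ι).relIndex (H63.cj w (gWT ι)) = Nat.card F - 1 := by
  haveI := h.finF
  have := card_inf_mul_relIndex (gC ι) (H63.cj w (gWT ι))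
  rw [h.WT_inf, h.card_Wt, card_cj, h.card_map, Mo.card_WT, mul_assoc] at this
  exact Nat.eq_of_mul_eq_mul_left (by have := h.one_lt; positivity) this

theorem index_eq {Y : Subgroup G} (h1 : H63.cj w (gWT ι) ≤ Y) (h2 : Y ≤ N[gZ ι]) :
    (gC ι).relIndex (H63.cj w (gWT ι)) = (gC ι).relIndex Y := by
  have h3 := relIndex_dvd_of_le_of_norm h1 (h2.trans h.le_NC)
  have h4 := relIndex_dvd_of_le_of_norm h2 h.le_NC
  have h5 := h.index_N_dvd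
  have h6 := h.index_N_ne h.nc
  have h7 := h.four
  rw [← h.index_WT'] at h5 h6
  have h8 : 0 < (gC ι).relIndex (H63.cj w (gWT ι)) := by have := h.index_WT'; omega
  obtain ⟨a, ha⟩ := h3.trans h4
  rw [ha] at h4 h5 h6
  rw [mul_comm 2] at h5 h6
  have h9 := Nat.dvd_of_mul_dvd_mul_left h8 h5
  obtain rfl | rfl := (Nat.dvd_prime Nat.prime_two).1 h9
  · exact Nat.dvd_antisymm h3 (by simpa using h4)
  · exact (h6 rfl).elim

theorem index_N : 2 * (gC ι).relIndex N[gZ ι] = Nat.card F - 1 :=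
  h.index_eq (h.WT'_le_A.trans inf_le_right) le_rfl ▸ h.index_WT'

theorem index_A : 2 * (gC ι).relIndex (gA ι) = Nat.card F - 1 :=
  h.index_eq h.WT'_le_A inf_le_right ▸ h.index_WT'

theorem odd_index_N : Odd ((gC ι).relIndex N[gZ ι]) := by
  have := h.index_N; have := h.four; rw [Nat.odd_iff]; omega

theorem T'_le_A : H63.cj w (gT ι) ≤ gA ι := (cj_mono (map_mono Mo.T_le_WT)).trans h.WT'_le_A

theorem exists_CT' {g : G} (hg : g ∈ N[gZ ι]) : ∃ c ∈ gC ι, ∃ s ∈ H63.cj w (gT ι), g = c * s := by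
  have h1 := h.WT'_le_A.trans inf_le_right
  obtain ⟨c, hc, _, ⟨s, hs, rfl⟩, rfl⟩ :=
    ((isMul_iff_relIndex h1 h.C_le).2 (h.index_eq h1 le_rfl)).symm.2.2 g hg
  obtain ⟨a, ha, s', hs', rfl⟩ := exists_WT hs
  exact ⟨c * (w * a * w⁻¹), mul_mem hc (le_C _ (h.cj_W.le (conj_mem_cj ha))), _, conj_mem_cj hs',
    by simp [mul_assoc]⟩

theorem exists_WTT' {g : G} (hg : g ∈ gA ι) :
    ∃ a ∈ gW ι, ∃ s ∈ gT ι, ∃ s' ∈ H63.cj w (gT ι), g = a * s * s' := by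
  obtain ⟨c, hc, s', hs', rfl⟩ := h.exists_CT' hg.2
  obtain ⟨a, ha, s, hs, rfl⟩ := exists_WT (h.A_inf_C.le
    ⟨(mul_mem_cancel_right (h.T'_le_A hs')).1 hg, hc⟩)
  exact ⟨a, ha, s, hs, s', hs', rfl⟩

theorem comm_TT' {s s' : G} (hs : s ∈ gT ι) (hs' : s' ∈ H63.cj w (gT ι)) :
    s * s' * s⁻¹ * s'⁻¹ ∈ gW ι := by
  haveI := h.finF
  have hA := h.T'_le_A hs'
  have key : ∀ r ∈ gT ι, r * r * s' * (r * r)⁻¹ * s'⁻¹ ∈ gW ι := fun r hr => by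
    have hr' := map_mono (f := ι) Mo.T_le_WT hr
    have h0 : s' ∈ H63.cj w (gWT ι) := cj_mono (map_mono Mo.T_le_WT) hs'
    have h1 : r * s' * r⁻¹ * s'⁻¹ ∈ gWT ι := by
      simpa only [mul_assoc] using
        mul_mem hr' (conj_mem_of_mem_normalizer (h.A_le_NWT hA) (inv_mem hr'))
    have h2 : r * s' * r⁻¹ * s'⁻¹ ∈ H63.cj w (gWT ι) :=
      mul_mem (conj_mem_of_mem_normalizer (h.A_le_NWT' (h.WT_le_A hr')) h0) (inv_mem h0)
    have h3 (x) (hx : x ∈ gW ι) := conj_mem_of_mem_normalizer (WT_le_NW hr') hx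
    rw [show r * r * s' * (r * r)⁻¹ * s'⁻¹ = r * (r * s' * r⁻¹ * s'⁻¹) * r⁻¹ * (r * s' * r⁻¹ * s'⁻¹)
      by group]
    have hK := (WT_le_D h1).2
    rcases h.mem_Wt (le_C _ h1) hK (cj_mono (le_C _) h2) with e | e
    · exact mul_mem (h3 _ e) e
    · generalize r * s' * r⁻¹ * s'⁻¹ = c at *
      convert mul_mem (h3 _ e) e using 1
      calc _ = r * c * r⁻¹ * (gt ι * c * (gt ι)⁻¹) := by rw [t_conj hK]
        _ = r * c * (r⁻¹ * gt ι * r⁻¹⁻¹) * r⁻¹ * c * gt ι := by rw [t_inv]; group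
        _ = _ := by rw [conj_t (inv_mem (WT_le_D hr').2)]; group
  obtain ⟨s, hs, rfl⟩ := hs
  obtain ⟨r, hr, rfl | rfl⟩ := Mo.sq_or_tt_sq h.four hs
  · rw [map_mul]; exact key _ (mem_map_of_mem _ hr)
  · rw [map_mul, map_mul]
    convert key _ (mem_map_of_mem _ hr) using 1
    calc _ = ι r * ι r * (gt ι * s' * (gt ι)⁻¹) * (ι r * ι r)⁻¹ * s'⁻¹ := by group
      _ = _ := by rw [t_conj hA.1.2]

theorem comm_AT {a s : G} (ha : a ∈ gA ι) (hs : s ∈ gT ι) : a * s * a⁻¹ * s⁻¹ ∈ gW ι := by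
  obtain ⟨b, hb, r, hr, s', hs', rfl⟩ := h.exists_WTT' ha
  have h3 {g} (hg : g ∈ gT ι) (x) (hx : x ∈ gW ι) :=
    conj_mem_of_mem_normalizer (WT_le_NW (map_mono Mo.T_le_WT hg)) hx
  convert mul_mem (mul_mem hb (h3 hr _ (inv_mem (h.comm_TT' hs hs')))) (h3 hs _ (inv_mem hb)) using 1
  calc _ = b * (r * (s * s' * s⁻¹ * s'⁻¹)⁻¹ * r⁻¹) * (r * s) * r⁻¹ * b⁻¹ * s⁻¹ := by group
    _ = _ := by rw [T_comm hr hs]; group

theorem card_A : 2 * Nat.card (gA ι) = Nat.card F ^ 2 * (Nat.card F - 1) * (Nat.card F - 1) := by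
  haveI := h.finF
  rw [← card_inf_mul_relIndex (gC ι) (gA ι), inf_comm, h.A_inf_C, h.card_map, Mo.card_WT,
    mul_left_comm, h.index_A]

end Sw

end Cfsg.Agent.H14.SP
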