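import Mathlib
import Cfsg.Agent.H1.SpD

/-!
# The geometric facts on a minimal configuration on the cubic module (piece CB1 of S5260)
-/

set_option autoImplicit false

namespace Cfsg.Agent.H14.SpCb

open Subgroup Cfsg.Agent.H83 Cfsg.Agent.H1.SP

universe u

variable {K : Type u} [Field K]

instance finAu [Finite K] : Finite (Au K) :=
  Finite.of_injective (fun g : Au K => (g : K × K × K → K × K × K)) DFunLike.coe_injective

theorem mul_ap (g h : Au K) (a : K × K × K) : (g * h) a = g (h a) := rfl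
theorem inv_ap (g : Au K) (a : K × K × K) : g⁻¹ (g a) = a := g.symm_apply_apply a
theorem ap_inv (g : Au K) (a : K × K × K) : g (g⁻¹ a) = a := g.apply_symm_apply a

theorem xa_add (s t : K) : xa (.ofAdd (s + t)) = xa (.ofAdd s) * xa (.ofAdd t) := by
  rw [ofAdd_add, map_mul]

theorem xa_zero : xa (.ofAdd (0 : K)) = 1 := xa.map_one

theorem xa_inj {s t : K} (h : xa (.ofAdd s) = xa (.ofAdd t)) : s = t := by
  have := congrArg (fun g : Au K => (g (1, 0, 0)).2.1) h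
  simpa [xa_apply] using this

theorem xa_mem (t : K) : xa (.ofAdd t) ∈ XA K := ⟨_, rfl⟩

theorem of_mem_cj {g s : Au K} (h : s ∈ cj g (XA K)) : ∃ t, s = g * xa (.ofAdd t) * g⁻¹ := by
  obtain ⟨t, ht⟩ := mem_cj.1 h
  exact ⟨t.toAdd, by rw [ofAdd_toAdd, ht]; group⟩

theorem xa_z (t w : K) : xa (.ofAdd t) ((0 : K), (0 : K), w) = (0, 0, w) := by simp [xa_apply]

theorem fix_xa (h2 : (2 : K) ≠ 0) {t : K} (ht : t ≠ 0) {a : K × K × K}
    (h : xa (.ofAdd t) a = a) : a.1 = 0 ∧ a.2.1 = 0 := by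
  rw [xa_apply] at h
  have h1 := congrArg (fun b : K × K × K => b.2.1) h
  have h3 := congrArg (fun b : K × K × K => b.2.2) h
  simp only at h1 h3
  have e1 : a.1 = 0 := by
    have : t * a.1 = 0 := by linear_combination h1
    exact (mul_eq_zero.1 this).resolve_left ht
  refine ⟨e1, ?_⟩
  have : 2 * t * a.2.1 = 0 := by rw [e1] at h3; linear_combination h3
  exact (mul_eq_zero.1 this).resolve_left (mul_ne_zero h2 ht)

theorem inv_stab [Finite K] {g : Au K} {S : Set (K × K × K)} (h : ∀ a ∈ S, g a ∈ S) :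
    ∀ a ∈ S, g⁻¹ a ∈ S := by
  obtain ⟨n, hn⟩ : g⁻¹ ∈ Submonoid.powers g :=
    mem_powers_iff_mem_zpowers.2 (inv_mem (mem_zpowers g))
  rw [← hn]
  clear hn
  induction n with
  | zero => intro a ha; simpa using ha
  | succ n ih => intro a ha; show (g ^ (n + 1)) a ∈ S; rw [pow_succ', mul_ap]; exact h _ (ih a ha)

theorem split3 (g : Au K) (u v w : K) : g (u, v, w) = g (u, 0, 0) + g (0, v, 0) + g (0, 0, w) := by
  rw [← map_add, ← map_add]; simp

theorem f4 [Finite K] (h2 : (2 : K) ≠ 0) {g : Au K} (hg : g ∈ normalizer (XA K : Set (Au K))) :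
    ∃ (σ : RingAut K) (a b : Kˣ),
    (∀ t, g * xa (.ofAdd t) * g⁻¹ = xa (.ofAdd (a * σ t))) ∧
    (∀ w, g (0, 0, w) = (0, 0, a * b * σ w)) ∧
    (∀ v w, (g (0, v, w)).1 = 0 ∧ (g (0, v, w)).2.1 = b * σ v) ∧ ∀ x, (g x).1 = b / a * σ x.1 := by
  have hex : ∀ t : K, ∃ s : K, g * xa (.ofAdd t) * g⁻¹ = xa (.ofAdd s) := fun t => by
    obtain ⟨s, hs⟩ := (mem_normalizer_iff.1 hg _).1 (xa_mem t)
    exact ⟨s.toAdd, hs.symm⟩
  choose θ hθ using hex
  have hc : ∀ t a, g (xa (.ofAdd t) a) = xa (.ofAdd (θ t)) (g a) := fun t a => by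
    rw [← hθ, mul_ap, mul_ap, inv_ap]
  have hadd : ∀ s t, θ (s + t) = θ s + θ t := fun s t => xa_inj (by
    rw [xa_add, ← hθ, ← hθ, ← hθ, xa_add]; group)
  have h1 : θ 1 ≠ 0 := fun e => by
    have := hθ 1
    rw [e, xa_zero, mul_inv_eq_one, mul_eq_left, ← xa_zero] at this
    exact one_ne_zero (xa_inj this)
  have hZ : ∀ w, (g (0, 0, w)).1 = 0 ∧ (g (0, 0, w)).2.1 = 0 := fun w =>
    fix_xa h2 h1 (by rw [← hc, xa_z])
  have hY : ∀ v, (g (0, v, 0)).1 = 0 := fun v => by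
    have e := congrArg (fun b : K × K × K => b.2.1) (hc 1 (0, v, 0))
    simp only [xa_apply] at e
    rw [split3] at e
    simp only [mul_zero, add_zero, Prod.snd_add, Prod.fst_add, (hZ _).2] at e
    have : θ 1 * (g (0, v, 0)).1 = 0 := by simpa using e
    exact (mul_eq_zero.1 this).resolve_left h1
  have e0 : g (0, 0, 0) = 0 := map_zero g
  have hb : ∀ t u, (g (0, t * u, 0)).2.1 = θ t * (g (u, 0, 0)).1 := fun t u => by
    have e := congrArg (fun b : K × K × K => b.2.1) (hc t (u, 0, 0))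
    simp only [xa_apply] at e
    rw [split3] at e
    simp only [mul_zero, add_zero, zero_add, Prod.snd_add, Prod.fst_add, (hZ _).2] at e
    linear_combination e
  have hcc : ∀ t v, (g (0, 0, t * v)).2.2 = θ t * (g (0, v, 0)).2.1 := fun t v => by
    have e := congrArg (fun b : K × K × K => b.2.2) (hc t (0, v, 0))
    simp only [xa_apply] at e
    rw [split3] at e
    simp only [mul_zero, add_zero, zero_add, Prod.snd_add, hY, e0, Prod.snd_zero] at e
    have e2 : g (0, 0, 2 * t * v) = g (0, 0, t * v) + g (0, 0, t * v) := by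
      rw [← map_add]; congr 1; simp; ring
    rw [e2, Prod.snd_add, Prod.snd_add] at e
    apply mul_left_cancel₀ h2
    linear_combination e
  set b := (g (0, 1, 0)).2.1 with hbd
  have hb0 : b ≠ 0 := fun e => by
    have e3 := hcc 1 1
    rw [← hbd, e, mul_zero, mul_one] at e3
    have : g (0, 0, 1) = g 0 := by
      rw [map_zero]; exact Prod.ext (hZ 1).1 (Prod.ext (hZ 1).2 e3)
    simpa using g.injective this
  have hγ : ∀ w, (g (0, 0, w)).2.2 = θ w * b := fun w => by simpa using hcc w 1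
  have hβ : ∀ v, (g (0, v, 0)).2.1 = b * (θ v / θ 1) := fun v => by
    have := hcc 1 v
    rw [one_mul, hγ] at this
    field_simp
    linear_combination -this
  have hmul : ∀ t v, θ (t * v) / θ 1 = θ t / θ 1 * (θ v / θ 1) := fun t v => by
    have := hcc t v
    rw [hγ, hβ] at this
    field_simp at this ⊢
    linear_combination this
  let σ0 : K →+* K :=
    { toFun := fun t => θ t / θ 1
      map_one' := div_self h1
      map_mul' := hmul
      map_zero' := by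
        have := hadd 0 0
        rw [add_zero, left_eq_add] at this
        simp [this]
      map_add' := fun s t => by rw [hadd, add_div] }
  let σ : RingAut K := RingEquiv.ofBijective σ0
    (Finite.injective_iff_bijective.1 σ0.injective)
  have hσ : ∀ t, σ t = θ t / θ 1 := fun t => rfl
  refine ⟨σ, Units.mk0 _ h1, Units.mk0 _ hb0, fun t => ?_, fun w => ?_, fun v w => ⟨?_, ?_⟩,
    fun x => ?_⟩
  · rw [hθ, hσ, Units.val_mk0, mul_div_cancel₀ _ h1]
  · refine Prod.ext (hZ w).1 (Prod.ext (hZ w).2 ?_)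
    rw [hγ, hσ]; simp only [Units.val_mk0]; field_simp
  · rw [split3]; simp [e0, hY, (hZ w).1]
  · rw [split3]; simp [e0, hβ, (hZ w).2, hσ]
  · obtain ⟨u, v, w⟩ := x
    rw [split3]
    have := hb 1 u
    rw [one_mul, hβ] at this
    simp only [Prod.fst_add, hY, (hZ w).1, add_zero, Units.val_mk0, hσ]
    field_simp at this ⊢
    linear_combination -this

variable (K) in
/-- the automorphisms acting trivially on the factors of the flag -/
def T : Subgroup (Au K) where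
  carrier := {g | (∀ w, g (0, 0, w) = (0, 0, w)) ∧ (∀ v w, (g (0, v, w)).2.1 = v) ∧
    ∀ x, (g x).1 = x.1}
  one_mem' := ⟨fun _ => rfl, fun _ _ => rfl, fun _ => rfl⟩
  mul_mem' {g h} hg hh := by
    refine ⟨fun w => by rw [mul_ap, hh.1, hg.1], fun v w => ?_, fun x => by
      rw [mul_ap, hg.2.2, hh.2.2]⟩
    have e : h (0, v, w) = (0, v, (h (0, v, w)).2.2) :=
      Prod.ext (hh.2.2 _) (Prod.ext (hh.2.1 _ _) rfl)
    rw [mul_ap, e, hg.2.1]
  inv_mem' {g} hg := by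
    have h3 : ∀ x, (g⁻¹ x).1 = x.1 := fun x => by rw [← hg.2.2, ap_inv]
    refine ⟨fun w => by rw [← hg.1 w, inv_ap, hg.1], fun v w => ?_, h3⟩
    have e : g⁻¹ (0, v, w) = (0, (g⁻¹ (0, v, w)).2.1, (g⁻¹ (0, v, w)).2.2) := Prod.ext (h3 _) rfl
    rw [← hg.2.1 (g⁻¹ (0, v, w)).2.1 (g⁻¹ (0, v, w)).2.2, ← e, ap_inv]

theorem XA_le_T : XA K ≤ T K := by
  rintro _ ⟨t, rfl⟩
  exact ⟨xa_z t.toAdd, fun v w => by simp [show xa t = xa (.ofAdd t.toAdd) from rfl, xa_apply],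
    fun _ => rfl⟩

theorem isPGroup_T (p : ℕ) [CharP K p] : IsPGroup p (T K) := by
  intro ⟨g, hg⟩
  have h1 : ∀ (m : ℕ) a, ((g ^ m) a).2.1 = a.2.1 + m * ((g a).2.1 - a.2.1) := fun m a => by
    induction m with
    | zero => simp
    | succ m ih =>
      have e : (g ^ m) a = a + (0, m * ((g a).2.1 - a.2.1), ((g ^ m) a).2.2 - a.2.2) :=
        Prod.ext (by simpa using (pow_mem hg m).2.2 a) (Prod.ext (by simpa using ih) (by simp))
      rw [pow_succ', mul_ap, e, map_add, Prod.snd_add, Prod.fst_add, hg.2.1]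
      push_cast; ring
  have h2 : ∀ h ∈ T K, (∀ a, (h a).2.1 = a.2.1) → h ^ p = 1 := fun h hh h3 => by
    refine LinearEquiv.ext fun a => ?_
    have : ∀ m : ℕ, (h ^ m) a = a + (0, 0, m * ((h a).2.2 - a.2.2)) := fun m => by
      induction m with
      | zero => simp [← Prod.zero_eq_mk]
      | succ m ih =>
        rw [pow_succ', mul_ap, ih, map_add, hh.1]
        refine Prod.ext (by simpa using hh.2.2 a) (Prod.ext (by simpa using h3 a) ?_)
        simp; ring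
    rw [this]; simp [← Prod.zero_eq_mk]
  refine ⟨2, Subtype.ext ?_⟩
  show g ^ p ^ 2 = 1
  rw [sq, pow_mul]
  exact h2 _ (pow_mem hg p) fun a => by rw [h1]; simp

theorem f5 {p : ℕ} [CharP K p] {Γ : Subgroup (Au K)} (hs : IsSylowIn p (XA K) Γ) {g : Au K}
    (hg : g ∈ Γ) (hT : g ∈ T K) : g ∈ XA K := by
  rw [← hs.max (Γ ⊓ T K) inf_le_left ((isPGroup_T p).to_le inf_le_right) (le_inf hs.le XA_le_T)]
  exact ⟨hg, hT⟩

theorem stab_norm [Finite K] {p : ℕ} [CharP K p] {Γ : Subgroup (Au K)}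
    (hs : IsSylowIn p (XA K) Γ) {g : Au K} (hg : g ∈ Γ)
    (hZ : ∀ w, (g (0, 0, w)).1 = 0 ∧ (g (0, 0, w)).2.1 = 0) (hY : ∀ v w, (g (0, v, w)).1 = 0) :
    g ∈ normalizer (XA K : Set (Au K)) := by
  have hZ' := inv_stab (g := g) (S := {a | a.1 = 0 ∧ a.2.1 = 0}) fun a ha => by
    obtain ⟨u, v, w⟩ := a
    obtain ⟨rfl, rfl⟩ : u = 0 ∧ v = 0 := ha
    exact hZ w
  have hY' := inv_stab (g := g) (S := {a | a.1 = 0}) fun a ha => by
    obtain ⟨u, v, w⟩ := a
    obtain rfl : u = 0 := ha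
    exact hY v w
  refine (inv_mem_iff.1 (mem_normalizer_fintype ?_))
  rintro _ ⟨t, rfl⟩
  rw [inv_inv, show xa t = xa (.ofAdd t.toAdd) from rfl]
  refine f5 hs (mul_mem (mul_mem (inv_mem hg) (hs.le (xa_mem _))) hg) ⟨fun w => ?_, fun v w => ?_,
    fun x => ?_⟩
  · have e : g (0, 0, w) = (0, 0, (g (0, 0, w)).2.2) := Prod.ext (hZ w).1 (Prod.ext (hZ w).2 rfl)
    rw [mul_ap, mul_ap, e, xa_z, ← e, inv_ap]
  · have e : xa (.ofAdd t.toAdd) (g (0, v, w)) =
        g (0, v, w) + (0, 0, 2 * t.toAdd * (g (0, v, w)).2.1) := by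
      rw [xa_apply, hY]; exact Prod.ext (by simp [hY]) (Prod.ext (by simp) (by simp))
    rw [mul_ap, mul_ap, e, map_add, inv_ap, Prod.snd_add, Prod.fst_add, (hZ' _ ⟨rfl, rfl⟩).2,
      add_zero]
  · have e : xa (.ofAdd t.toAdd) (g x) = g x + (0, t.toAdd * (g x).1,
        2 * t.toAdd * (g x).2.1 + t.toAdd ^ 2 * (g x).1) := by
      rw [xa_apply]; exact Prod.ext (by simp) (Prod.ext (by simp) (by simp [add_assoc]))
    have h0 : (g⁻¹ (0, t.toAdd * (g x).1, 2 * t.toAdd * (g x).2.1 + t.toAdd ^ 2 * (g x).1)).1 = 0 :=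
      hY' _ rfl
    rw [mul_ap, mul_ap, e, map_add, inv_ap, Prod.fst_add, h0, add_zero]

/-- the form of L1 used here -/
theorem l1 [Finite K] {p : ℕ} [Fact p.Prime] [CharP K p] {Γ X : Subgroup (Au K)}
    (hs : IsSylowIn p X Γ) (W : AddSubgroup (K × K × K)) (π : K × K × K →+ K) (a : K × K × K)
    (hX : ∀ s ∈ X, (∀ w ∈ W, s w ∈ W ∧ π (s w) = π w) ∧ s a - a ∈ W ∧ π (s a - a) = 0)
    {x : Au K} (hx : x ∈ Γ) (h1 : ∀ w ∈ W, x w ∈ W ∧ π (x w) = π w) (h2 : x a - a ∈ W) :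
    π (x a - a) = 0 := by
  have hm : ∀ h k : Au K, (h * k) a - a = h (k a - a) + (h a - a) := fun h k => by
    rw [mul_ap, map_sub]; abel
  let C : Subgroup (Au K) :=
    { carrier := {h | h ∈ Γ ∧ (∀ w ∈ W, h w ∈ W ∧ π (h w) = π w) ∧ h a - a ∈ W}
      one_mem' := ⟨one_mem _, fun w hw => ⟨hw, rfl⟩, by simp⟩
      mul_mem' := fun {h k} hh hk => ⟨mul_mem hh.1 hk.1, fun w hw =>
        ⟨(hh.2.1 _ (hk.2.1 w hw).1).1, by rw [mul_ap, (hh.2.1 _ (hk.2.1 w hw).1).2,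
          (hk.2.1 w hw).2]⟩, by rw [hm]; exact add_mem (hh.2.1 _ hk.2.2).1 hh.2.2⟩
      inv_mem' := fun {h} hh => by
        have hi := inv_stab (g := h) (S := W) fun w hw => (hh.2.1 w hw).1
        refine ⟨inv_mem hh.1, fun w hw => ⟨hi w hw, by rw [← (hh.2.1 _ (hi w hw)).2, ap_inv]⟩, ?_⟩
        have := neg_mem (s := W) (hi _ hh.2.2)
        rwa [map_sub, inv_ap, neg_sub] at this }
  let φ : C →* Multiplicative K := MonoidHom.mk' (fun h => .ofAdd (π (h.1 a - a))) fun h k => by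
    rw [← ofAdd_add, coe_mul, hm, map_add, (h.2.2.1 _ k.2.2.2).2, add_comm]
  have hB : IsPGroup p (Multiplicative K) := fun y => ⟨1, by
    rw [pow_one, ← ofAdd_toAdd y, ← ofAdd_nsmul]; simp⟩
  exact hom_triv (C := C) hs (fun h hh => hh.1) (fun s h => ⟨hs.le h, (hX s h).1, (hX s h).2.1⟩)
    hB φ (fun s h => congrArg Multiplicative.ofAdd (hX s h).2.2) ⟨x, hx, h1, h2⟩

theorem ee_apply (a : K × K × K) : da (-1 : Kˣ) a = (a.1, -a.2.1, a.2.2) := by
  simp [da_apply]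

theorem ee_fix {a : K × K × K} (h : a.2.1 = 0) : da (-1 : Kˣ) a = a := by
  rw [ee_apply]; exact Prod.ext rfl (Prod.ext (by simp [h]) rfl)

theorem ee_mul : da (-1 : Kˣ) * da (-1 : Kˣ) = 1 := by rw [← map_mul]; simp

theorem ee_xa (t : K) : da (-1 : Kˣ) * xa (.ofAdd t) = xa (.ofAdd (-t)) * da (-1 : Kˣ) :=
  LinearEquiv.ext fun a => by
    rw [mul_ap, mul_ap, ee_apply, ee_apply, xa_apply, xa_apply]
    exact Prod.ext rfl (Prod.ext (by simp; ring) (by simp))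

/-- a conjugate of `da (-1)` is not in `XA` -/
theorem conj_ee (h2 : (2 : K) ≠ 0) (g : Au K) : g⁻¹ * da (-1 : Kˣ) * g ∉ XA K := by
  rintro ⟨t, ht⟩
  rw [show xa t = xa (.ofAdd t.toAdd) from rfl] at ht
  have h1 : xa (.ofAdd (t.toAdd + t.toAdd)) = xa (.ofAdd 0) := by
    rw [xa_add, ht, xa_zero]
    calc _ = g⁻¹ * (da (-1 : Kˣ) * da (-1 : Kˣ)) * g := by group
      _ = 1 := by rw [ee_mul]; group
  have h3 : t.toAdd = 0 := by
    have := xa_inj h1
    rw [← two_mul] at this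
    exact (mul_eq_zero.1 this).resolve_left h2
  rw [h3, xa_zero] at ht
  have h4 : da (-1 : Kˣ) = 1 := by
    calc da (-1 : Kˣ) = g * (g⁻¹ * da (-1 : Kˣ) * g) * g⁻¹ := by group
      _ = 1 := by rw [← ht]; group
  have := congrArg (fun k : Au K => (k (0, 1, 0)).2.1) h4
  simp only [ee_apply] at this
  apply h2
  have h5 : (-1 : K) = 1 := this
  linear_combination -h5

/-- an element of the normalizer fixing the `w`-axis -/
theorem f4_fix [Finite K] (h2 : (2 : K) ≠ 0) {h : Au K}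
    (hh : h ∈ normalizer (XA K : Set (Au K))) (hz : ∀ w, h (0, 0, w) = (0, 0, w)) :
    ∃ b : K, b ≠ 0 ∧ (∀ v w, (h (0, v, w)).1 = 0 ∧ (h (0, v, w)).2.1 = b * v) ∧
      ∀ x, (h x).1 = b ^ 2 * x.1 := by
  obtain ⟨σ, a, b, -, h3, h4, h5⟩ := f4 h2 hh
  have e : ∀ w, (a : K) * b * σ w = w := fun w => by
    have := (h3 w).symm.trans (hz w)
    simpa using this
  have e1 : (a : K) * b = 1 := by simpa using e 1
  have e2 : ∀ w, σ w = w := fun w => by simpa [e1] using e w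
  refine ⟨b, b.ne_zero, fun v w => by simpa [e2] using h4 v w, fun x => ?_⟩
  rw [h5, e2, div_eq_mul_inv, ← eq_inv_of_mul_eq_one_right e1, sq]

section main
variable [Finite K] {p : ℕ} [Fact p.Prime] [CharP K p] {Γ : Subgroup (Au K)} {W : AddSubgroup K}

theorem l1z (C : Cb p Γ W) (hW : W = ⊤) {g : Au K} (hg : g ∈ Γ) {v0 w0 : K} (hv : v0 ≠ 0)
    (h0 : (g (0, v0, w0)).1 = 0) (v w : K) : (g (0, v, w)).1 = 0 := by
  have hz : ∀ h ∈ Γ, ∀ w, h (0, 0, w) = (0, 0, w) := fun h hh w => C.fix h hh w (hW ▸ trivial)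
  by_contra hu
  let W0 : AddSubgroup (K × K × K) :=
    { carrier := {a | a.1 = 0 ∧ (g⁻¹ a).1 = 0}
      zero_mem' := by simp
      add_mem' := fun {a b} ha hb => ⟨by rw [Prod.fst_add, ha.1, hb.1, add_zero],
        by rw [map_add, Prod.fst_add, ha.2, hb.2, add_zero]⟩
      neg_mem' := fun {a} ha => ⟨by rw [Prod.fst_neg, ha.1, neg_zero],
        by rw [map_neg, Prod.fst_neg, ha.2, neg_zero]⟩ }
  have hzW : ∀ w, ((0 : K), (0 : K), w) ∈ W0 := fun w => ⟨rfl, by rw [hz _ (inv_mem hg)]⟩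
  have hy : (g (0, v0, w0)).2.1 ≠ 0 := fun e => by
    have e1 : g (0, v0, w0) = (0, 0, (g (0, v0, w0)).2.2) := Prod.ext h0 (Prod.ext e rfl)
    rw [← hz g hg] at e1
    exact hv (by simpa using congrArg (fun b : K × K × K => b.2.1) (g.injective e1))
  have hxy : ∀ (t : K) (y : K × K × K), y.1 = 0 → xa (.ofAdd t) y = y + (0, 0, 2 * t * y.2.1) :=
    fun t y hy => by rw [xa_apply, hy]; exact Prod.ext (by simp [hy]) (Prod.ext (by simp) (by simp))
  have hc : ∀ (t : K) (y : K × K × K), (g⁻¹ y).1 = 0 → (g * xa (.ofAdd t) * g⁻¹) y =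
      y + (0, 0, 2 * t * (g⁻¹ y).2.1) := fun t y hy => by
    rw [mul_ap, mul_ap, hxy _ _ hy, map_add, ap_inv, hz g hg]
  set c := (g (0, v0, w0)).2.1 / (g (0, v, w)).1 with hcd
  have := l1 (C.syl.cj_of_mem hg) W0 ((AddMonoidHom.fst K K).comp (AddMonoidHom.snd K (K × K)))
    (g (0, v, w)) (x := xa (.ofAdd c)) ?_ (C.syl.le (xa_mem _)) ?_ ?_
  · apply hy
    simp only [xa_apply, AddMonoidHom.comp_apply, AddMonoidHom.coe_snd, AddMonoidHom.coe_fst,
      Prod.snd_sub, Prod.fst_sub, add_sub_cancel_left] at this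
    rwa [hcd, div_mul_cancel₀ _ hu] at this
  · intro s hs
    obtain ⟨t, rfl⟩ := of_mem_cj hs
    refine ⟨fun y hy => ?_, ?_⟩
    · rw [hc _ _ hy.2]; exact ⟨add_mem hy (hzW _), by simp⟩
    · rw [hc _ _ (by rw [inv_ap]), add_sub_cancel_left]; exact ⟨hzW _, by simp⟩
  · intro y hy
    rw [hxy _ _ hy.1]; exact ⟨add_mem hy (hzW _), by simp⟩
  · have e : xa (.ofAdd c) (g (0, v, w)) - g (0, v, w) = g (0, v0, w0) +
        (0, 0, (xa (.ofAdd c) (g (0, v, w)) - g (0, v, w)).2.2 - (g (0, v0, w0)).2.2) := by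
      refine Prod.ext (by simp [xa_apply, h0]) (Prod.ext ?_ (by simp))
      simp only [xa_apply, Prod.snd_sub, Prod.fst_sub, add_sub_cancel_left, Prod.snd_add,
        Prod.fst_add, add_zero]
      rw [hcd, div_mul_cancel₀ _ hu]
    rw [e]
    exact add_mem ⟨h0, by rw [inv_ap]⟩ (hzW _)

theorem top (h2 : (2 : K) ≠ 0) (C : Cb p Γ W) : W ≠ ⊤ := by
  intro hW
  have hz : ∀ h ∈ Γ, ∀ w, h (0, 0, w) = (0, 0, w) := fun h hh w => C.fix h hh w (hW ▸ trivial)
  have hN : ∀ h ∈ Γ, (∀ v w, (h (0, v, w)).1 = 0) → h ∈ normalizer (XA K : Set (Au K)) :=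
    fun h hh hY => stab_norm C.syl hh (fun w => by rw [hz h hh]; exact ⟨rfl, rfl⟩) hY
  refine C.nn fun g hg => hN g hg fun v w => by_contra fun hu => ?_
  have hv : v ≠ 0 := by rintro rfl; exact hu (by rw [hz g hg])
  set g' := xa (.ofAdd (-(g (0, v, w)).2.1 / (g (0, v, w)).1)) * g with hg'd
  have hg' : g' ∈ Γ := mul_mem (C.syl.le (xa_mem _)) hg
  have h1 : (g' (0, v, w)).2.1 = 0 := by
    rw [hg'd, mul_ap, xa_apply]; simp only; rw [div_mul_cancel₀ _ hu, add_neg_cancel]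
  have hh : g'⁻¹ * da (-1) * g' ∈ Γ := mul_mem (mul_mem (inv_mem hg') (C.tor _)) hg'
  have h3 : (g'⁻¹ * da (-1) * g' : Au K) (0, v, w) = (0, v, w) := by
    rw [mul_ap, mul_ap, ee_fix h1, inv_ap]
  obtain ⟨b, -, h4, h5⟩ := f4_fix h2 (hN _ hh (l1z C hW hh hv (by rw [h3]))) (hz _ hh)
  have hb : b = 1 := by
    have := (h4 v w).2
    rw [h3] at this
    exact (mul_eq_right₀ hv).1 this.symm
  exact conj_ee h2 g' (f5 C.syl hh ⟨hz _ hh, fun v w => by rw [(h4 v w).2, hb, one_mul],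
    fun x => by rw [h5, hb, one_pow, one_mul]⟩)

theorem f3 (h2 : (2 : K) ≠ 0) (C : Cb p Γ W) {g : Au K} (hg : g ∈ Γ)
    (hn : g ∉ normalizer (XA K : Set (Au K))) (w : K) (h : (g (0, 0, w)).1 = 0) : w ∈ W := by
  by_cases hv : (g (0, 0, w)).2.1 = 0
  · exact C.unif g hg hn w _ (Prod.ext h (Prod.ext hv rfl))
  exfalso
  obtain ⟨⟨w0, hw0⟩, hw⟩ := (AddSubgroup.ne_bot_iff_exists_ne_zero).1 C.ne
  let W0 : AddSubgroup (K × K × K) :=
    { carrier := {a | a.1 = 0 ∧ a.2.1 = 0 ∧ a.2.2 ∈ W}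
      zero_mem' := ⟨rfl, rfl, zero_mem W⟩
      add_mem' := fun {a b} ha hb => ⟨by simp [ha.1, hb.1], by simp [ha.2.1, hb.2.1],
        add_mem ha.2.2 hb.2.2⟩
      neg_mem' := fun {a} ha => ⟨by simp [ha.1], by simp [ha.2.1], neg_mem ha.2.2⟩ }
  have hf : ∀ k ∈ Γ, ∀ y ∈ W0, k y = y := fun k hk y hy => by
    obtain ⟨u, v, w⟩ := y
    obtain ⟨rfl, rfl, hw⟩ : u = 0 ∧ v = 0 ∧ w ∈ W := hy
    exact C.fix k hk w hw
  have e : xa (.ofAdd (w0 / (2 * (g (0, 0, w)).2.1))) (g (0, 0, w)) - g (0, 0, w) = (0, 0, w0) := by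
    rw [xa_apply, h]
    refine Prod.ext (by simp [h]) (Prod.ext (by simp) ?_)
    simp only [Prod.snd_sub]; field_simp; ring
  have := l1 (C.syl.cj_of_mem hg) W0 ((AddMonoidHom.snd K K).comp (AddMonoidHom.snd K (K × K)))
    (g (0, 0, w)) (x := xa (.ofAdd (w0 / (2 * (g (0, 0, w)).2.1)))) ?_ (C.syl.le (xa_mem _))
    (fun y hy => by rw [hf _ (C.syl.le (xa_mem _)) y hy]; exact ⟨hy, rfl⟩)
    (by rw [e]; exact ⟨rfl, rfl, hw0⟩)
  · rw [e] at this
    exact hw (Subtype.ext this)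
  · intro s hs
    refine ⟨fun y hy => by rw [hf _ ((C.syl.cj_of_mem hg).le hs) y hy]; exact ⟨hy, rfl⟩, ?_⟩
    obtain ⟨t, rfl⟩ := of_mem_cj hs
    rw [mul_ap, mul_ap, inv_ap, xa_z, sub_self]
    exact ⟨zero_mem _, map_zero _⟩

theorem f7 (h2 : (2 : K) ≠ 0) (C : Cb p Γ W) {g : Au K} (hg : g ∈ Γ)
    (hn : g ∉ normalizer (XA K : Set (Au K))) : ∃ t, Nx (da (-1)) (xa (.ofAdd t) * g) := by
  obtain ⟨w, hw⟩ : ∃ w, w ∉ W := by
    by_contra! h; exact top h2 C ((AddSubgroup.eq_top_iff' W).2 h)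
  have hu : (g (0, 0, w)).1 ≠ 0 := fun e => hw (f3 h2 C hg hn w e)
  refine ⟨-(g (0, 0, w)).2.1 / (g (0, 0, w)).1, ?_⟩
  set g' := xa (.ofAdd (-(g (0, 0, w)).2.1 / (g (0, 0, w)).1)) * g with hg'd
  have hg' : g' ∈ Γ := mul_mem (C.syl.le (xa_mem _)) hg
  have h1 : (g' (0, 0, w)).2.1 = 0 := by
    rw [hg'd, mul_ap, xa_apply]; simp only; rw [div_mul_cancel₀ _ hu, add_neg_cancel]
  by_contra hN
  refine hw (C.unif _ (mul_mem (mul_mem (inv_mem hg') (C.tor _)) hg') hN w w ?_)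
  rw [mul_ap, mul_ap, ee_fix h1, inv_ap]

theorem f6 (h2 : (2 : K) ≠ 0) (C : Cb p Γ W) {g : Au K} (hg : g ∈ Γ)
    (hn : g ∉ normalizer (XA K : Set (Au K))) (hx : Nx (da (-1)) g) :
    ∃ t, Commute (da (-1)) (g * xa (.ofAdd t)) := by
  have hh : g⁻¹ * da (-1) * g ∈ Γ := mul_mem (mul_mem (inv_mem hg) (C.tor _)) hg
  have hz : ∀ w, (g⁻¹ * da (-1) * g : Au K) (0, 0, w) = (0, 0, w) := fun w => by
    obtain ⟨σ, a, b, -, h3, -⟩ := f4 h2 hx
    have e1 : da (-1) (g (0, 0, w)) = g (0, 0, a * b * σ w) := by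
      rw [← h3 w, mul_ap, mul_ap, ap_inv]
    have e2 : g (0, 0, a * b * σ w - w) = (0, -2 * (g (0, 0, w)).2.1, 0) := by
      have : ((0 : K), (0 : K), a * b * σ w - w) = (0, 0, a * b * σ w) - (0, 0, w) := by simp
      rw [this, map_sub, ← e1, ee_apply]
      exact Prod.ext (by simp) (Prod.ext (by simp; ring) (by simp))
    rw [C.fix g hg _ (f3 h2 C hg hn _ (by rw [e2]))] at e2
    have e3 : a * b * σ w - w = 0 := congrArg (fun y : K × K × K => y.2.2) e2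
    rw [h3, sub_eq_zero.1 e3]
  obtain ⟨b, -, h4, h5⟩ := f4_fix h2 hx hz
  have hsq : (g⁻¹ * da (-1) * g) * (g⁻¹ * da (-1) * g) = 1 := by
    calc _ = g⁻¹ * (da (-1 : Kˣ) * da (-1 : Kˣ)) * g := by group
      _ = 1 := by rw [ee_mul]; group
  have hb : b * b = 1 := by
    have e : (g⁻¹ * da (-1) * g : Au K) (0, 1, 0) =
        (0, b * 1, ((g⁻¹ * da (-1) * g : Au K) (0, 1, 0)).2.2) :=
      Prod.ext (h4 1 0).1 (Prod.ext (h4 1 0).2 rfl)
    have := congrArg (fun k : Au K => (k (0, 1, 0)).2.1) hsq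
    rw [mul_ap, e, (h4 _ _).2, mul_one] at this
    exact this
  rcases mul_self_eq_one_iff.1 hb with rfl | rfl
  · exact absurd (f5 C.syl hh ⟨hz, fun v w => by rw [(h4 v w).2, one_mul],
      fun x => by rw [h5, one_pow, one_mul]⟩)
      (conj_ee h2 g)
  obtain ⟨s, hs⟩ := f5 C.syl (mul_mem hh (C.tor (-1))) ⟨fun w => by
    rw [mul_ap, ee_apply]; simpa using hz w, fun v w => by
    rw [mul_ap, ee_apply, (h4 _ _).2]; simp, fun x => by rw [mul_ap, ee_apply, h5]; simp⟩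
  rw [show xa s = xa (.ofAdd s.toAdd) from rfl] at hs
  refine ⟨s.toAdd / 2, ?_⟩
  have e1 : da (-1) * g = g * xa (.ofAdd s.toAdd) * da (-1) := by
    rw [hs]
    calc da (-1) * g = da (-1) * g * (da (-1 : Kˣ) * da (-1 : Kˣ)) := by rw [ee_mul, mul_one]
      _ = _ := by group
  rw [Commute, SemiconjBy, ← mul_assoc, e1, mul_assoc, ee_xa, mul_assoc, ← mul_assoc (xa _),
    ← xa_add, mul_assoc]
  congr 4
  field_simp; ring

theorem f9 (h2 : (2 : K) ≠ 0) (C : Cb p Γ W) {g : Au K} (hg : g ∈ Γ) {t : K} (ht : t ≠ 0)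
    (hx : Nx (xa (.ofAdd t)) g) : g ∈ normalizer (XA K : Set (Au K)) := by
  obtain ⟨s, hs⟩ := C.syl.mem_of_norm (k := 1)
    (mul_mem (mul_mem (inv_mem hg) (C.syl.le (xa_mem t))) hg) (by
      have : g⁻¹ * xa (.ofAdd t) * g = g⁻¹ * xa (.ofAdd t) * g⁻¹⁻¹ := by rw [inv_inv]
      rw [this, conj_pow, ← map_pow, ← ofAdd_nsmul]; simp) hx
  rw [show xa s = xa (.ofAdd s.toAdd) from rfl] at hs
  by_contra hn
  refine top h2 C ((AddSubgroup.eq_top_iff' W).2 fun w => f3 h2 C hg hn w (fix_xa h2 ht ?_).1)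
  have := xa_z s.toAdd w
  rw [hs, mul_ap, mul_ap] at this
  rw [← ap_inv g (xa _ _), this]

end main

theorem cb1 : H1.SP.Cb1Stmt.{u} := by
  intro K _ _ p _ _ hp Γ W C
  have h2 : (2 : K) ≠ 0 := fun e => hp ((Nat.prime_dvd_prime_iff_eq Fact.out Nat.prime_two).1
    ((CharP.cast_eq_zero_iff K p 2).1 (by exact_mod_cast e)))
  exact ⟨top h2 C, fun g hg hn => f3 h2 C hg hn, fun g hg => f4 h2 hg,
    fun g hg a b c => f5 C.syl hg ⟨a, b, c⟩, fun g hg hn => f6 h2 C hg hn,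
    fun g hg hn => f7 h2 C hg hn, fun g hg t ht => f9 h2 C hg ht⟩

end Cfsg.Agent.H14.SpCb
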