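import Mathlib
import Cfsg.Agent.H56.ZCKit
import Cfsg.Agent.H83.Syl

/-!
# The commutator with a small good element takes one non-trivial value (piece C1A of S3617)
-/

set_option autoImplicit false

namespace Cfsg.Agent.H14.ZcC1a

open Subgroup Cfsg.Agent.H56.FS Cfsg.Agent.H56.ZC
open scoped commutatorElement

universe u

variable {G : Type u} [Group G] {p : ℕ} {D : Set (Subgroup G)} {d : G}

theorem cj_mem {H : Subgroup G} {g x : G} (hg : g ∈ normalizer (H : Set G)) (hx : x ∈ H) :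
    g * x * g⁻¹ ∈ H := (mem_normalizer_iff.1 hg x).1 hx

theorem sv (h : Fx p D) (hd : Gz D d) : Sv D (Ce d) :=
  h.sol _ fun e => hd.1 (mem_center_iff.2 fun g => mem_Ce.1 (e ▸ mem_top g))

theorem dE (hd : Gz D d) : d ∈ ZZ D (Ce d) := ⟨hd.2, le_Ce_iff.1 (LL_le _)⟩

theorem del (h : Fx p D) (hd : Gz D d) (hb : ¬ Big D d) {m : G}
    (hm : m ∈ normalizer (Bk D d : Set G)) : ⁅m, d⁆ ∈ center G ∧ ⁅m, d⁆ * ⁅m, d⁆ = 1 := by
  have h1 := cj_mem (norm_ZZ _ hm) (dE hd)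
  refine ⟨?_, h.e2 _ (sv h hd) _ (mul_mem h1 (inv_mem (dE hd)))⟩
  have h2 : m * d * m⁻¹ ∉ center G := fun e => hd.1 (by
    simpa [mul_assoc] using Normal.conj_mem inferInstance _ e m⁻¹)
  have h3 : d * (m * d * m⁻¹) ∈ center G := by_contra fun e => hb ⟨_, h1, h2, e⟩
  rwa [commutatorElement_def, inv_eq_of_mul_eq_one_right (h.e2 _ (sv h hd) _ (dE hd)),
    ← ZZ_comm h1 (RR_le _ hd.2)]

theorem del_c {m e : G} (he : e ∈ center G) : ⁅m, e⁆ = 1 :=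
  commutatorElement_eq_one_iff_mul_comm.2 (mem_center_iff.1 he m)

theorem del_n (h : Fx p D) (hd : Gz D d) (hb : ¬ Big D d) {m e : G} (he : e ∈ ZZ D (Ce d))
    (hz : e ∉ center G) : ⁅m, e⁆ = ⁅m, d⁆ := by
  have h3 : d * e ∈ center G := by_contra fun e' => hb ⟨_, he, hz, e'⟩
  have h4 : e = d * (d * e) := by rw [← mul_assoc, h.e2 _ (sv h hd) _ (dE hd), one_mul]
  have h5 := mem_center_iff.1 h3 m⁻¹
  rw [h4, commutatorElement_def, commutatorElement_def]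
  calc _ = m * d * (d * e * m⁻¹) * (d * (d * e))⁻¹ := by group
    _ = _ := by rw [← h5]; group

theorem del_e (h : Fx p D) (hd : Gz D d) (hb : ¬ Big D d) (m : G) {e : G} (he : e ∈ ZZ D (Ce d)) :
    ⁅m, e⁆ = 1 ∨ ⁅m, e⁆ = ⁅m, d⁆ := (em (e ∈ center G)).imp del_c (del_n h hd hb he)

theorem del_mul (h : Fx p D) (hd : Gz D d) (hb : ¬ Big D d) (m : G) {m' : G}
    (hm : m' ∈ normalizer (Bk D d : Set G)) : ⁅m * m', d⁆ = ⁅m, d⁆ * ⁅m', d⁆ := by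
  have h1 := mem_center_iff.1 (del h hd hb hm).1
  calc ⁅m * m', d⁆ = m * ⁅m', d⁆ * m⁻¹ * ⁅m, d⁆ := by simp only [commutatorElement_def]; group
    _ = _ := by rw [h1 m, h1 ⁅m, d⁆]; group

/-- `x⁻¹ x^τ` -/
def NN (τ x : G) : G := x⁻¹ * (τ * x * τ⁻¹)

/-- the elements used -/
structure Gt (D : Set (Subgroup G)) (d : G) (A : Subgroup G) (τ : G) : Prop where
  n : τ ∈ normalizer (Bk D d : Set G)
  c : A ≤ Ce τ
  s : Bk D d ≤ Ce (τ * τ)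

variable {A : Subgroup G} {τ : G}

theorem Gt.mem (g : Gt D d A τ) {x : G} (hx : x ∈ RR D (Ce d)) : NN τ x ∈ RR D (Ce d) :=
  mul_mem (inv_mem hx) (cj_mem (norm_RR _ g.n) hx)

theorem Gt.cm (g : Gt D d A τ) (h : Fx p D) (hd : Gz D d) {x : G} (hx : x ∈ RR D (Ce d)) :
    ⁅τ, NN τ x⁆ ∈ ZZ D (Ce d) := by
  have h1 := mem_Ce.1 (g.s (RR_le _ hx))
  have : ⁅τ, NN τ x⁆ = (NN τ x * NN τ x)⁻¹ := by
    simp only [NN, commutatorElement_def]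
    calc _ = τ * x⁻¹ * τ⁻¹ * (τ * τ * x) * (τ * τ)⁻¹ * (x⁻¹ * (τ * x * τ⁻¹))⁻¹ := by group
      _ = _ := by rw [← h1]; group
  rw [this]
  exact inv_mem (h.sq _ (sv h hd) _ (g.mem hx))

theorem Gt.conj (g : Gt D d A τ) {a : G} (ha : a ∈ A) (x : G) :
    a * NN τ x * a⁻¹ = NN τ (a * x * a⁻¹) := by
  have h1 := mem_Ce.1 (g.c ha)
  simp only [NN]
  calc _ = a * x⁻¹ * a⁻¹ * (a * τ) * x * (a * τ)⁻¹ := by group
    _ = _ := by rw [h1]; group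

theorem Gt.sq (g : Gt D d A τ) (h : Fx p D) (hd : Gz D d) (hb : ¬ Big D d) (hA : A ∈ D)
    (hAX : A ≤ Ce d) {x : G} (hx : x ∈ RR D (Ce d)) (hn : NN τ x ∉ ZZ D (Ce d)) :
    NN τ x * NN τ x = ⁅τ, d⁆ := by
  let K : Subgroup G :=
    { carrier := {e | e = 1 ∨ e = ⁅τ, d⁆}
      one_mem' := .inl rfl
      mul_mem' := by
        rintro _ _ (rfl | rfl) (rfl | rfl)
        · exact .inl (one_mul _)
        · exact .inr (one_mul _)
        · exact .inr (mul_one _)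
        · exact .inl (del h hd hb g.n).2
      inv_mem' := by
        rintro _ (rfl | rfl)
        · exact .inl inv_one
        · exact .inr (inv_eq_of_mul_eq_one_right (del h hd hb g.n).2) }
  have h1 : closure {e | ∃ a ∈ A, e = ⁅NN τ x, a * NN τ x * a⁻¹⁆} ≤ K := (closure_le _).2 (by
    rintro _ ⟨a, ha, rfl⟩
    have hx' := cj_mem (LL_le_norm_RR _ (le_LL hA hAX ha)) hx
    rw [g.conj ha]
    have := h.t1 _ (sv h hd) τ g.n x hx _ (g.mem hx') (g.cm h hd hx')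
    exact this ▸ del_e h hd hb τ (h.cm _ (sv h hd) _ hx _ (g.mem hx')))
  exact (h1 (h.uc _ (sv h hd) A hA hAX _ (g.mem hx) (h.sq2 _ (sv h hd) A hA hAX _
    (g.mem hx)))).resolve_left (h.an' _ (sv h hd) _ (g.mem hx) hn)

theorem core [Finite G] (h : Fx p D) (hd : Gz D d) (hb : ¬ Big D d) (hA : A ∈ D) (hAX : A ≤ Ce d)
    {σ : G} (g₁ : Gt D d A σ) (g₂ : Gt D d A τ) (hc : Bk D d ≤ Ce ⁅σ, τ⁆) (h1 : ⁅σ, d⁆ ≠ 1)
    (h2 : ⁅τ, d⁆ ≠ 1) : ⁅σ, d⁆ = ⁅τ, d⁆ := by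
  by_contra hne
  have S := sv h hd
  obtain ⟨x, hx, hn⟩ : ∃ x ∈ RR D (Ce d), NN τ x ∉ ZZ D (Ce d) := by
    by_contra! e
    exact h2 (commutatorElement_eq_one_iff_mul_comm.2
      (mem_Ce.1 ((h.t2 _ S A hA hAX τ g₂.c g₂.n).2 e (RR_le _ hd.2))).symm)
  have hp := cj_mem (norm_RR _ g₁.n) hx
  have hq := cj_mem (norm_RR _ g₂.n) hx
  obtain ⟨e, he, e1⟩ : ∃ e ∈ ZZ D (Ce d), NN σ (NN τ x) = e * NN τ (NN σ x) := by
    refine ⟨_, mul_mem (h.cm _ S _ (inv_mem hq) _ (mul_mem hx (inv_mem hp)))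
      (h.cm _ S _ hx _ (inv_mem hp)), ?_⟩
    have h3 := mem_Ce.1 (hc (RR_le _ (cj_mem (norm_RR _ g₂.n) hp)))
    simp only [NN, commutatorElement_def] at h3 ⊢
    calc _ = τ * x⁻¹ * τ⁻¹ * x * σ * x⁻¹ * σ⁻¹ * (σ * τ * σ⁻¹ * τ⁻¹ * (τ * (σ * x * σ⁻¹) * τ⁻¹)) *
          (σ * τ * σ⁻¹ * τ⁻¹)⁻¹ := by group
      _ = _ := by rw [← h3]; group
  have h3 : NN τ (NN σ x) ∈ ZZ D (Ce d) := by
    by_contra h3
    have h4 : NN σ (NN τ x) ∉ ZZ D (Ce d) := fun h4 => h3 (by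
      rw [e1] at h4; exact (mul_mem_cancel_left he).1 h4)
    apply hne
    rw [← g₁.sq h hd hb hA hAX (g₂.mem hx) h4, ← g₂.sq h hd hb hA hAX (g₁.mem hx) h3, e1,
      mul_assoc, ← mul_assoc _ e, ZZ_comm he (RR_le _ (g₂.mem (g₁.mem hx))), mul_assoc,
      ← mul_assoc, h.e2 _ S e he, one_mul]
  have h4 : NN σ (NN τ x) ∈ ZZ D (Ce d) := e1 ▸ mul_mem he h3
  have h5 : ∀ t y : G, y ∈ RR D (Ce d) → NN t y ∈ ZZ D (Ce d) → ⁅t, y⁆ ∈ ZZ D (Ce d) :=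
    fun t y hy e => by
      have := cj_mem (norm_ZZ _ (le_normalizer (RR_le _ hy))) e
      convert this using 1
      simp only [NN, commutatorElement_def]; group
  obtain ⟨a, ha, a1, -⟩ := h.toBs2.exists_gen hA
  have hx' := cj_mem (LL_le_norm_RR _ (le_LL hA hAX ha)) hx
  have hy := g₂.mem hx'
  have h6 : ⁅σ, NN τ (a * x * a⁻¹)⁆ ∈ ZZ D (Ce d) := by
    refine h5 _ _ hy ?_
    rw [← g₂.conj ha, ← g₁.conj ha]
    exact cj_mem (norm_ZZ _ (le_normalizer (le_LL hA hAX ha))) h4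
  have h7 : ⁅x, NN τ (a * x * a⁻¹)⁆ ∉ center G := fun e => by
    have := h.t1 _ S τ g₂.n x hx _ hy (g₂.cm h hd hx')
    rw [del_c e, ← g₂.conj ha] at this
    exact h.nc _ S A hA hAX a ha a1 _ (g₂.mem hx) hn this
  have h8 : ⁅NN σ x, NN τ (a * x * a⁻¹)⁆ = ⁅σ, d⁆ :=
    (h.t1 _ S σ g₁.n x hx _ hy h6).trans (del_n h hd hb (h.cm _ S _ hx _ hy) h7)
  have h9 : ⁅NN τ (a * x * a⁻¹), NN σ x⁆ = ⁅τ, ⁅a * x * a⁻¹, NN σ x⁆⁆ :=
    h.t1 _ S τ g₂.n _ hx' _ (g₁.mem hx) (h5 _ _ (g₁.mem hx) h3)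
  rw [← commutatorElement_inv, h8, inv_eq_of_mul_eq_one_right (del h hd hb g₁.n).2] at h9
  rcases del_e h hd hb τ (h.cm _ S _ hx' _ (g₁.mem hx)) with e | e
  · exact h1 (h9.trans e)
  · exact hne (h9.trans e)

theorem c1a : C1aStmt.{u} := by
  intro G _ _ p D h d hd hb m₁ hm₁ m₂ hm₂ h1 h2
  have : Fact (Nat.Prime 2) := ⟨Nat.prime_two⟩
  have S := sv h hd
  obtain ⟨A, hA, hAX⟩ : ∃ A ∈ D, A ≤ Ce d := exists_pt_of_RR fun e =>
    hd.1 (mem_bot.1 (e ▸ hd.2) ▸ one_mem _)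
  let H : Subgroup G := centralizer (A : Set G) ⊓ normalizer (Bk D d : Set G)
  let δ : H →* G := MonoidHom.mk' (fun m => ⁅(m : G), d⁆) fun m m' => del_mul h hd hb _ m'.2.2
  obtain ⟨T⟩ : Nonempty (Sylow 2 H) := inferInstance
  have hT : (T : Subgroup H).map δ = (⊤ : Subgroup H).map δ :=
    ((H83.isSylowIn_top T).map δ).eq_of_isPGroup (by
      rintro ⟨_, m, -, rfl⟩
      exact ⟨1, Subtype.ext (by rw [pow_one, sq]; exact (del h hd hb m.2.2).2)⟩)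
  have h3 : ∀ t ∈ (T : Subgroup H), δ t = 1 → Bk D d ≤ Ce (t : G) := fun t ht e => by
    obtain ⟨k, hk⟩ := T.isPGroup' ⟨t, ht⟩
    refine h.t0 _ S A hA hAX t ⟨k, congrArg (fun x : T => ((x : H) : G)) hk⟩
      (le_Ce_iff.2 t.2.1) t.2.2 fun x hx => mem_Ce.2
        (commutatorElement_eq_one_iff_mul_comm.1 ?_).symm
    exact (del_e h hd hb t hx).elim id fun e' => e'.trans e
  have h4 : ∀ m ∈ normalizer (Bk D d : Set G), ∃ t ∈ (T : Subgroup H), δ t = ⁅m, d⁆ :=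
    fun m hm => by
      obtain ⟨u, hu, e⟩ := h.toCl2.conj_pt S hA hAX (h.inv A hA m)
        ((cj_le_of_norm hm (le_LL hA hAX)).trans (LL_le _))
      have hu' := inv_mem (RR_le _ hu)
      have h5 : u⁻¹ * m ∈ H := ⟨h.eps A hA (cj_eq_iff.1 (by rw [← cj_cj, e, cj_inv_cj])),
        mul_mem (le_normalizer hu') hm⟩
      have h6 : δ ⟨_, h5⟩ ∈ (T : Subgroup H).map δ := hT ▸ ⟨_, mem_top _, rfl⟩
      obtain ⟨t, ht, e'⟩ := h6
      refine ⟨t, ht, e'.trans ?_⟩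
      show ⁅u⁻¹ * m, d⁆ = _
      rw [del_mul h hd hb _ hm, commutatorElement_eq_one_iff_mul_comm.2 (ZZ_comm (dE hd) hu'),
        one_mul]
  have h5 : ∀ t ∈ (T : Subgroup H), Gt D d A (t : G) := fun t ht =>
    ⟨t.2.2, le_Ce_iff.2 t.2.1, h3 _ (mul_mem ht ht) (by
      rw [map_mul]; exact (del h hd hb t.2.2).2)⟩
  obtain ⟨t₁, ht₁, e₁⟩ := h4 m₁ hm₁
  obtain ⟨t₂, ht₂, e₂⟩ := h4 m₂ hm₂
  rw [← e₁] at h1 ⊢
  rw [← e₂] at h2 ⊢
  refine core h hd hb hA hAX (h5 _ ht₁) (h5 _ ht₂) (h3 ⁅t₁, t₂⁆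
    (mul_mem (mul_mem (mul_mem ht₁ ht₂) (inv_mem ht₁)) (inv_mem ht₂)) ?_) h1 h2
  rw [map_commutatorElement]
  exact del_c (del h hd hb t₂.2.2).1

end Cfsg.Agent.H14.ZcC1a
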